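import Cfsg.Agent.Lib.RelMcKay.Extend

/-!
# Characters over an invariant character are counted by good classes
-/

set_option autoImplicit false

namespace Cfsg.Agent.Lib.RelMcKay.Good

open scoped ComplexConjugate Classical
open Cfsg.Agent.Lib.Characters Cfsg.Agent.Lib.Characters.Basic Cfsg.Agent.Lib.Induced.Basic
open Cfsg.Agent.Lib.RelMcKay.Rel Cfsg.Agent.Lib.RelMcKay.Extend
open Cfsg.Agent.Lib.RelMcKay.Step (exists_zpow_of_mem_sup)
open Cfsg.Agent.Lib.Glauberman (mult coe_mult)

universe u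

variable {G : Type u} [Group G] [Fintype G] {K : Subgroup G} (θ : Cfsg.IrrCharacter K)

/-- The restriction to `K` has no constituent other than `θ`. -/
def Pure (f : G → ℂ) : Prop :=
  ∀ φ : Cfsg.IrrCharacter K, φ ≠ θ → Cfsg.classInner (fun k : K => f k) (φ : K → ℂ) = 0

/-- `χ` lies over `θ`. -/
def Over (χ : Cfsg.IrrCharacter G) : Prop :=
  Cfsg.classInner (fun k : K => (χ : G → ℂ) k) (θ : K → ℂ) ≠ 0

variable {θ}

/-- A constituent of a pure character is pure. -/
theorem pure_of_constituent {f : G → ℂ} (hf : Cfsg.IsCharacter G f) (hp : Pure θ f)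
    (ψ : Cfsg.IrrCharacter G) (h : Cfsg.classInner f (ψ : G → ℂ) ≠ 0) : Pure θ (ψ : G → ℂ) := by
  intro φ hφ
  obtain ⟨n, r, hr, hn, -, hdec⟩ := Clifford.Basic.exists_eq_nsmul_add hf ψ
  obtain ⟨a, ha⟩ := exists_classInner_nat (isCharacter_comp K.subtype (isCharacter_irr ψ))
    (isCharacter_irr φ)
  obtain ⟨b, hb⟩ := exists_classInner_nat (isCharacter_comp K.subtype hr) (isCharacter_irr φ)
  have h1 := hp φ hφ
  rw [show (fun k : K => f k) = (n : ℂ) • (fun k : K => (ψ : G → ℂ) k) + fun k : K => r k from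
    funext fun k => by rw [hdec]; simp [nsmul_eq_mul], classInner_add_left, classInner_smul_left] at h1
  replace ha : Cfsg.classInner (fun k : K => (ψ : G → ℂ) k) (φ : K → ℂ) = (a : ℂ) := ha
  replace hb : Cfsg.classInner (fun k : K => r k) (φ : K → ℂ) = (b : ℂ) := hb
  rw [ha, hb, ← Nat.cast_mul, ← Nat.cast_add, Nat.cast_eq_zero] at h1
  have hn0 : n ≠ 0 := fun h0 => h (by rw [hn, h0, Nat.cast_zero])
  have ha0 : a = 0 := by
    rcases Nat.eq_zero_or_pos a with h2 | h2
    · exact h2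
    · have := Nat.mul_pos (Nat.pos_of_ne_zero hn0) h2
      omega
  rw [ha, ha0, Nat.cast_zero]

variable [hK : K.Normal] (hinv : ∀ g : G, InvAt g K (θ : K → ℂ))

include hinv in
theorem pure_iff (χ : Cfsg.IrrCharacter G) : Pure θ (χ : G → ℂ) ↔ Over θ χ := by
  constructor
  · intro hp h0
    have hsum := degree_sum K.subtype χ
    rw [Finset.sum_eq_zero fun φ _ => ?_] at hsum
    · exact apply_one_ne_zero χ (by rw [coe_charDegree, hsum, Nat.cast_zero])
    · have hm : mult K.subtype χ φ = 0 := by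
        rw [← Nat.cast_inj (R := ℂ), ← coe_mult, Nat.cast_zero]
        by_cases h : φ = θ
        · rw [h]; exact h0
        · exact hp φ h
      rw [hm, zero_mul]
  · intro h φ hφ
    have hs := Clifford.Basic.restrict_eq_smul K χ.2 θ h fun g => funext fun n => by
      rw [Clifford.Basic.conjC_apply]; exact hinv g n _ rfl
    rw [hs, classInner_smul_left, classInner_irr_of_ne (Ne.symm hφ), mul_zero]

include hinv in
theorem stab_top : (⊤ : Subgroup G) ≤ stab K (θ : K → ℂ) := fun g _ =>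
  ⟨by rw [Subgroup.normalizer_eq_top]; exact Subgroup.mem_top g, hinv g⟩

include hinv in
theorem exists_ext (x : G) :
    ∃ η : Cfsg.IrrCharacter (K ⊔ Subgroup.zpowers x : Subgroup G), ∀ k : K,
      (η : (K ⊔ Subgroup.zpowers x : Subgroup G) → ℂ) (Subgroup.inclusion le_sup_left k) =
        (θ : K → ℂ) k :=
  exists_ext_cyclic le_sup_left θ (le_top.trans (stab_top hinv))
    (Subgroup.mem_sup_right (Subgroup.mem_zpowers x)) le_rfl

theorem mem_B (x : G) (k : K) : x * (k : G) ∈ K ⊔ Subgroup.zpowers x :=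
  mul_mem (Subgroup.mem_sup_right (Subgroup.mem_zpowers x)) (Subgroup.mem_sup_left k.2)

include hinv in
/-- On a coset, a character over `θ` is a multiple of the extension. -/
theorem coset_prop (x : G) (η : Cfsg.IrrCharacter (K ⊔ Subgroup.zpowers x : Subgroup G))
    (hη : ∀ k : K, (η : (K ⊔ Subgroup.zpowers x : Subgroup G) → ℂ)
      (Subgroup.inclusion le_sup_left k) = (θ : K → ℂ) k)
    (χ : Cfsg.IrrCharacter G) (hχ : Over θ χ) :
    ∃ c : ℂ, ∀ k : K, (χ : G → ℂ) (x * k) =
      c * (η : (K ⊔ Subgroup.zpowers x : Subgroup G) → ℂ) ⟨x * k, mem_B x k⟩ := by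
  have hx : x ∈ Subgroup.normalizer (K : Set G) := (stab_top hinv (Subgroup.mem_top x)).1
  let x₀ : (K ⊔ Subgroup.zpowers x : Subgroup G) :=
    ⟨x, Subgroup.mem_sup_right (Subgroup.mem_zpowers x)⟩
  have key : ∀ ξ : Cfsg.IrrCharacter (K ⊔ Subgroup.zpowers x : Subgroup G),
      mult (Subgroup.subtype _) χ ξ ≠ 0 → ∃ c : ℂ, ∀ k : K,
        (ξ : (K ⊔ Subgroup.zpowers x : Subgroup G) → ℂ) ⟨x * k, mem_B x k⟩ =
          c * (η : (K ⊔ Subgroup.zpowers x : Subgroup G) → ℂ) ⟨x * k, mem_B x k⟩ := by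
    intro ξ hξ
    have hm : m le_sup_left ξ θ ≠ 0 := by
      intro h0
      have hsum := degree_sum (Subgroup.inclusion (le_sup_left : K ≤ K ⊔ Subgroup.zpowers x)) ξ
      rw [Finset.sum_eq_zero fun φ _ => ?_] at hsum
      · exact apply_one_ne_zero ξ (by rw [coe_charDegree, hsum, Nat.cast_zero])
      · by_cases h : φ = θ
        · rw [h, show mult (Subgroup.inclusion (le_sup_left : K ≤ K ⊔ Subgroup.zpowers x)) ξ θ = 0
            from h0, zero_mul]
        · have h1 := Glauberman.mult_comp (Subgroup.subtype (K ⊔ Subgroup.zpowers x))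
            (Subgroup.inclusion (le_sup_left : K ≤ K ⊔ Subgroup.zpowers x)) K.subtype
            (fun _ => rfl) χ φ
          have h2 : mult K.subtype χ φ = 0 := by
            rw [← Nat.cast_inj (R := ℂ), ← coe_mult, Nat.cast_zero]
            exact (pure_iff hinv χ).mpr hχ φ h
          rw [h2, eq_comm, Finset.sum_eq_zero_iff] at h1
          rcases mul_eq_zero.mp (h1 ξ (Finset.mem_univ _)) with h3 | h3
          · exact absurd h3 hξ
          · rw [h3, zero_mul]
    obtain ⟨l, hl, rfl⟩ := exists_twist le_sup_left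
      (sup_le Subgroup.le_normalizer (Subgroup.zpowers_le.mpr hx))
      (fun a ha b hb => comm_mem hx ha hb) η ξ θ hη hm
    refine ⟨(l x₀ : ℂ), fun k => ?_⟩
    rw [Basic.twist_apply, show (⟨x * k, mem_B x k⟩ : (K ⊔ Subgroup.zpowers x : Subgroup G)) =
      x₀ * Subgroup.inclusion le_sup_left k from rfl, map_mul,
      hl (Subgroup.inclusion le_sup_left k) k.2, mul_one]
  choose c hc using key
  refine ⟨∑ ξ, if h : mult (Subgroup.subtype _) χ ξ ≠ 0 then
    (mult (Subgroup.subtype _) χ ξ : ℂ) * c ξ h else 0, fun k => ?_⟩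
  have hres := Glauberman.restrict_eq_sum (Subgroup.subtype (K ⊔ Subgroup.zpowers x)) χ
    ⟨x * k, mem_B x k⟩
  refine hres.trans ?_
  rw [Finset.sum_mul]
  refine Finset.sum_congr rfl fun ξ _ => ?_
  split_ifs with h
  · rw [hc ξ h k, mul_assoc]
  · rw [not_not.mp h, Nat.cast_zero, zero_mul, zero_mul]

variable (θ)

/-- Some character over `θ` is nonzero somewhere on the class. -/
def Supp (c : ConjClasses (G ⧸ K)) : Prop :=
  ∃ χ : Cfsg.IrrCharacter G, Over θ χ ∧ ∃ x : G, ConjClasses.mk (x : G ⧸ K) = c ∧ (χ : G → ℂ) x ≠ 0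

/-- The extendibility condition on an element. -/
def IsGood (x : G) : Prop :=
  ∀ y : G, y * x * y⁻¹ * x⁻¹ ∈ K → Extends θ ((K ⊔ Subgroup.zpowers x) ⊔ Subgroup.zpowers y)

variable {θ}

include hinv in
theorem exists_decomp (c : ConjClasses (G ⧸ K)) (χ : Cfsg.IrrCharacter G) (hχ : Over θ χ)
    (ψ : Cfsg.IrrCharacter G) (hψ : ¬ Over θ ψ) :
    Cfsg.classInner (fun g : G => (if ConjClasses.mk (g : G ⧸ K) = c then (χ : G → ℂ) g else 0))
      (ψ : G → ℂ) = 0 := by
  haveI : Fintype (G ⧸ K) := Fintype.ofFinite _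
  have hcl : Cfsg.IsClassFunction (G ⧸ K) (fun q => if ConjClasses.mk q = c then (1 : ℂ) else 0) :=
    fun q h => by
      dsimp only
      rw [ConjClasses.mk_eq_mk_iff_isConj.mpr
        (isConj_iff.mpr ⟨h⁻¹, by simp [mul_assoc]⟩ : IsConj (h * q * h⁻¹) q)]
  have hdec := Complete.classFunction_eq_sum hcl
  have e : (fun g : G => (if ConjClasses.mk (g : G ⧸ K) = c then (χ : G → ℂ) g else 0)) =
      ∑ β : Cfsg.IrrCharacter (G ⧸ K),
        Cfsg.classInner (fun q => if ConjClasses.mk q = c then (1 : ℂ) else 0) (β : (G ⧸ K) → ℂ) •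
          (((β : (G ⧸ K) → ℂ) ∘ QuotientGroup.mk' K) * (χ : G → ℂ)) := by
    funext g
    have h1 := congrFun hdec (g : G ⧸ K)
    simp only [Finset.sum_apply, Pi.smul_apply, smul_eq_mul] at h1 ⊢
    rw [show (if ConjClasses.mk (g : G ⧸ K) = c then (χ : G → ℂ) g else 0) =
      (if ConjClasses.mk (g : G ⧸ K) = c then (1 : ℂ) else 0) * (χ : G → ℂ) g by
        split_ifs <;> simp, h1, Finset.sum_mul]
    refine Finset.sum_congr rfl fun β _ => ?_
    simp only [Pi.mul_apply, Function.comp_apply, QuotientGroup.mk'_apply]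
    ring
  refine Eq.trans (congrArg (fun f => Cfsg.classInner f (ψ : G → ℂ)) (Eq.trans (funext fun g => ?_) e)) ?_
  · split_ifs <;> rfl
  rw [classInner_sum_left]
  refine Finset.sum_eq_zero fun β _ => ?_
  rw [classInner_smul_left]
  have hzero : Cfsg.classInner (((β : (G ⧸ K) → ℂ) ∘ QuotientGroup.mk' K) * (χ : G → ℂ))
      (ψ : G → ℂ) = 0 := by
    by_contra h0
    refine hψ ((pure_iff hinv ψ).mp (pure_of_constituent (isCharacter_mul
      (isCharacter_comp (QuotientGroup.mk' K) (isCharacter_irr β)) (isCharacter_irr χ)) ?_ ψ h0))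
    intro φ hφ
    rw [show (fun k : K => (((β : (G ⧸ K) → ℂ) ∘ QuotientGroup.mk' K) * (χ : G → ℂ)) k) =
      (β : (G ⧸ K) → ℂ) 1 • fun k : K => (χ : G → ℂ) k from funext fun k => by
        simp only [Pi.mul_apply, Function.comp_apply, Pi.smul_apply, smul_eq_mul,
          QuotientGroup.mk'_apply, (QuotientGroup.eq_one_iff (k : G)).mpr k.2],
      classInner_smul_left, (pure_iff hinv χ).mpr hχ φ hφ, mul_zero]
  rw [hzero, mul_zero]

theorem exists_conj_mul {x g : G} (h : ConjClasses.mk (g : G ⧸ K) = ConjClasses.mk (x : G ⧸ K)) :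
    ∃ (y : G) (k : K), y * g * y⁻¹ = x * k := by
  obtain ⟨q, hq⟩ := isConj_iff.mp (ConjClasses.mk_eq_mk_iff_isConj.mp h)
  obtain ⟨y, rfl⟩ := QuotientGroup.mk_surjective q
  rw [← QuotientGroup.mk_inv, ← QuotientGroup.mk_mul, ← QuotientGroup.mk_mul, eq_comm,
    QuotientGroup.eq] at hq
  exact ⟨y, ⟨_, hq⟩, by simp⟩

include hinv in
/-- The number of characters over `θ` is the number of supported classes. -/
theorem card_over : Nat.card {χ : Cfsg.IrrCharacter G // Over θ χ} =
    Nat.card {c : ConjClasses (G ⧸ K) // Supp θ c} := by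
  let O := {χ : Cfsg.IrrCharacter G // Over θ χ}
  let S := {c : ConjClasses (G ⧸ K) // Supp θ c}
  have hS : ∀ c : S, ∃ (χ : O) (x : G), ConjClasses.mk (x : G ⧸ K) = c.1 ∧
      ((χ.1 : G → ℂ) x ≠ 0) := fun c => by
    obtain ⟨χ, hχ, x, hx, hne⟩ := c.2
    exact ⟨⟨χ, hχ⟩, x, hx, hne⟩
  choose χc xc hxc hne using hS
  haveI : Finite (ConjClasses (G ⧸ K)) := Finite.of_surjective _ ConjClasses.mk_surjective
  haveI : Fintype O := Fintype.ofFinite _
  haveI : Fintype S := Fintype.ofFinite _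
  let E : (O → ℂ) →ₗ[ℂ] (S → ℂ) :=
    { toFun := fun a c => ∑ χ : O, a χ * (χ.1 : G → ℂ) (xc c)
      map_add' := fun a b => funext fun c => by
        simp only [Pi.add_apply, add_mul, Finset.sum_add_distrib]
      map_smul' := fun r a => funext fun c => by
        simp only [Pi.smul_apply, smul_eq_mul, RingHom.id_apply, Finset.mul_sum]
        exact Finset.sum_congr rfl fun χ _ => mul_assoc _ _ _ }
  have hinj : Function.Injective E := by
    rw [injective_iff_map_eq_zero]
    intro a ha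
    have hzero : ∀ g : G, ∑ χ : O, a χ * (χ.1 : G → ℂ) g = 0 := by
      intro g
      by_cases hg : Supp θ (ConjClasses.mk (g : G ⧸ K))
      · obtain ⟨y, k, hy⟩ := exists_conj_mul (x := xc ⟨_, hg⟩) (g := g) (hxc ⟨_, hg⟩).symm
        set x := xc ⟨_, hg⟩ with hx
        obtain ⟨η, hη⟩ := exists_ext hinv x
        choose cc hcc using fun χ : O => coset_prop hinv x η hη χ.1 χ.2
        have hx1 : ∀ χ : O, (χ.1 : G → ℂ) x = cc χ *
            (η : (K ⊔ Subgroup.zpowers x : Subgroup G) → ℂ) ⟨x * ((1 : K) : G), mem_B x 1⟩ := by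
          intro χ
          rw [← hcc χ 1, OneMemClass.coe_one, mul_one]
        have hη0 : (η : (K ⊔ Subgroup.zpowers x : Subgroup G) → ℂ) ⟨x * ((1 : K) : G), mem_B x 1⟩ ≠ 0 :=
          fun h0 => hne ⟨_, hg⟩ (by rw [← hx, hx1, h0, mul_zero])
        have hgk : ∀ χ : O, (χ.1 : G → ℂ) g = (χ.1 : G → ℂ) (x * k) := fun χ => by
          rw [← hy]; exact (isClassFunction_irr χ.1 g y).symm
        have h1 : (∑ χ : O, a χ * cc χ) = 0 := by
          refine (mul_eq_zero.mp ?_).resolve_right hη0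
          have := congrFun ha ⟨_, hg⟩
          rw [Finset.sum_mul]
          refine Eq.trans (Finset.sum_congr rfl fun χ _ => ?_) this
          rw [mul_assoc, ← hx1, hx]
        simp only [hgk, hcc, ← mul_assoc]
        rw [← Finset.sum_mul, h1, zero_mul]
      · refine Finset.sum_eq_zero fun χ _ => ?_
        rw [show (χ.1 : G → ℂ) g = 0 from by_contra fun h0 => hg ⟨χ.1, χ.2, g, rfl, h0⟩, mul_zero]
    funext χ₀
    have h2 : Cfsg.classInner (∑ χ : O, a χ • (χ.1 : G → ℂ)) (χ₀.1 : G → ℂ) = 0 := by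
      rw [show (∑ χ : O, a χ • (χ.1 : G → ℂ)) = 0 from funext fun g => by
        simp only [Finset.sum_apply, Pi.smul_apply, smul_eq_mul, Pi.zero_apply]
        exact hzero g, classInner_zero_left]
    rw [classInner_sum_left] at h2
    simp only [classInner_smul_left, classInner_irr] at h2
    rw [Finset.sum_eq_single χ₀ (fun χ _ hne' => by
      rw [if_neg fun h => hne' (Subtype.ext h), mul_zero]) (by simp), if_pos rfl, mul_one] at h2
    exact h2
  have hsurj : Function.Surjective E := by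
    intro t
    refine ⟨fun ψ => ∑ c : S, (t c / (χc c).1.1 (xc c)) * Cfsg.classInner
      (fun g : G => (if ConjClasses.mk (g : G ⧸ K) = c.1 then ((χc c).1 : G → ℂ) g else 0))
        (ψ.1 : G → ℂ), funext fun d => ?_⟩
    have hval : ∀ c : S, ∑ ψ : O, Cfsg.classInner
        (fun g : G => (if ConjClasses.mk (g : G ⧸ K) = c.1 then ((χc c).1 : G → ℂ) g else 0))
          (ψ.1 : G → ℂ) * (ψ.1 : G → ℂ) (xc d) =
        if d = c then ((χc c).1 : G → ℂ) (xc c) else 0 := by
      intro c
      have hcl : Cfsg.IsClassFunction G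
          (fun g : G => (if ConjClasses.mk (g : G ⧸ K) = c.1 then ((χc c).1 : G → ℂ) g else 0)) := by
        intro g h
        dsimp only
        have e : ConjClasses.mk ((h * g * h⁻¹ : G) : G ⧸ K) = ConjClasses.mk (g : G ⧸ K) :=
          ConjClasses.mk_eq_mk_iff_isConj.mpr (isConj_iff.mpr ⟨(h : G ⧸ K)⁻¹, by simp [mul_assoc]⟩)
        rw [e, isClassFunction_irr (χc c).1 g h]
      have h1 := congrFun (Complete.classFunction_eq_sum hcl) (xc d)
      simp only [Finset.sum_apply, Pi.smul_apply, smul_eq_mul] at h1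
      rw [show (if d = c then ((χc c).1 : G → ℂ) (xc c) else 0) =
        (if ConjClasses.mk ((xc d : G) : G ⧸ K) = c.1 then ((χc c).1 : G → ℂ) (xc d) else 0) by
          rw [hxc d]
          by_cases h : d = c
          · subst h; simp
          · rw [if_neg h, if_neg fun h' => h (Subtype.ext h')], h1]
      refine Eq.trans ?_ (Finset.sum_subset (Finset.subset_univ
        (Finset.univ.filter fun ψ : Cfsg.IrrCharacter G => Over θ ψ)) fun ψ _ hψ => ?_)
      · rw [← Finset.sum_subtype (Finset.univ.filter fun ψ : Cfsg.IrrCharacter G => Over θ ψ)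
          (by simp) fun ψ : Cfsg.IrrCharacter G => Cfsg.classInner
            (fun g : G => (if ConjClasses.mk (g : G ⧸ K) = c.1 then ((χc c).1 : G → ℂ) g else 0))
              (ψ : G → ℂ) * (ψ : G → ℂ) (xc d)]
      · rw [exists_decomp hinv c.1 _ (χc c).2 ψ (by simpa using hψ), zero_mul]
    show ∑ ψ : O, (∑ c : S, _ * _) * _ = t d
    simp only [Finset.sum_mul, mul_assoc]
    rw [Finset.sum_comm]
    simp only [← Finset.mul_sum, hval, mul_ite, mul_zero]
    rw [Finset.sum_ite_eq, if_pos (Finset.mem_univ d), div_mul_cancel₀ _ (hne d)]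
  have h := (LinearEquiv.ofBijective E ⟨hinj, hsurj⟩).finrank_eq
  rw [Module.finrank_fintype_fun_eq_card, Module.finrank_fintype_fun_eq_card] at h
  rw [Nat.card_eq_fintype_card, Nat.card_eq_fintype_card]
  exact h

include hinv in
/-- Supported classes are the classes of good elements. -/
theorem supp_iff (x : G) : Supp θ (ConjClasses.mk (x : G ⧸ K)) ↔ IsGood θ x := by
  have hst := stab_top hinv
  have hx : x ∈ Subgroup.normalizer (K : Set G) := (hst (Subgroup.mem_top x)).1
  obtain ⟨η, hη⟩ := exists_ext hinv x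
  constructor
  · rintro ⟨χ, hχ, x₀, hx₀, hne⟩ y hy
    obtain ⟨g, k, hg⟩ := exists_conj_mul hx₀
    have hne' : (χ : G → ℂ) (x * k) ≠ 0 := by
      rw [← hg, isClassFunction_irr χ]; exact hne
    rw [extends_iff (hst (Subgroup.mem_top x)) (hst (Subgroup.mem_top y)) hy η hη]
    obtain ⟨c, hc⟩ := coset_prop hinv x η hη χ hχ
    obtain ⟨l, hl, hshift⟩ := exists_shift (hst (Subgroup.mem_top x)) (hst (Subgroup.mem_top y)) hy η hη
    have hyB := normalizer_sup hx (hst (Subgroup.mem_top y)).1 hy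
    let x₀' : (K ⊔ Subgroup.zpowers x : Subgroup G) :=
      ⟨x, Subgroup.mem_sup_right (Subgroup.mem_zpowers x)⟩
    have hk' : x⁻¹ * (y * (x * k) * y⁻¹) ∈ K := by
      have e : x⁻¹ * (y * (x * k) * y⁻¹) =
          x⁻¹ * (y * x * y⁻¹ * x⁻¹) * x * (y * (k : G) * y⁻¹) := by simp [mul_assoc]
      rw [e]
      refine K.mul_mem ?_ (hK.conj_mem k k.2 y)
      simpa using hK.conj_mem _ hy x⁻¹
    have h1 : c * ((l x₀' : ℂ) * (η : (K ⊔ Subgroup.zpowers x : Subgroup G) → ℂ) ⟨x * k, mem_B x k⟩) =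
        c * (η : (K ⊔ Subgroup.zpowers x : Subgroup G) → ℂ) ⟨x * k, mem_B x k⟩ := by
      rw [← hc k, ← isClassFunction_irr χ (x * k) y,
        show y * (x * (k : G)) * y⁻¹ = x * ((⟨_, hk'⟩ : K) : G) from (mul_inv_cancel_left _ _).symm,
        hc ⟨_, hk'⟩]
      congr 1
      have h2 := congrFun (congrArg Subtype.val hshift)
        (⟨x * k, mem_B x k⟩ : (K ⊔ Subgroup.zpowers x : Subgroup G))
      rw [conjI_apply, Basic.twist_apply,
        show (⟨x * k, mem_B x k⟩ : (K ⊔ Subgroup.zpowers x : Subgroup G)) =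
          x₀' * Subgroup.inclusion le_sup_left k from rfl, map_mul l,
        hl (Subgroup.inclusion le_sup_left k) k.2, mul_one] at h2
      refine Eq.trans ?_ (Eq.trans h2.symm ?_)
      · rfl
      · exact congrArg _ (Subtype.ext (by simp [coe_conjE, mul_assoc, x₀']))
    have hcη : c * (η : (K ⊔ Subgroup.zpowers x : Subgroup G) → ℂ) ⟨x * k, mem_B x k⟩ ≠ 0 := by
      rwa [← hc k]
    have hl1 : l x₀' = 1 := Units.ext (mul_right_cancel₀ hcη (by
      rw [Units.val_one, one_mul]
      refine Eq.trans ?_ h1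
      ring))
    rw [invAt_iff hyB]
    intro z
    have h2 := congrFun (congrArg Subtype.val hshift) z
    rw [conjI_apply, Basic.twist_apply] at h2
    rw [h2]
    obtain ⟨d, i, hd, hz⟩ := exists_zpow_of_mem_sup hx z.2
    rw [show z = x₀' ^ i * ⟨d, Subgroup.mem_sup_left hd⟩ from Subtype.ext (by simpa [x₀'] using hz),
      map_mul, map_zpow, hl1, one_zpow, one_mul, hl ⟨d, Subgroup.mem_sup_left hd⟩ hd,
      Units.val_one, one_mul]
  · intro hgood
    let B : Subgroup G := K ⊔ Subgroup.zpowers x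
    let K₀ := K.subgroupOf B
    haveI : K₀.Normal := hK.subgroupOf B
    have habB : ∀ a b : B, a * b * a⁻¹ * b⁻¹ ∈ K₀ := fun a b =>
      Subgroup.mem_subgroupOf.mpr (comm_mem hx a.2 b.2)
    obtain ⟨Λ, -, hΛK, hΛs⟩ := Isometry.Clifford.exists_dual K₀ habB
    obtain ⟨k₀, hk₀⟩ := exists_ne_zero (le_sup_left : K ≤ B)
      (sup_le Subgroup.le_normalizer (Subgroup.zpowers_le.mpr hx))
      (fun a ha b hb => comm_mem hx ha hb) θ η hη ⟨x, Subgroup.mem_sup_right (Subgroup.mem_zpowers x)⟩
    let x₀ : B := ⟨x, Subgroup.mem_sup_right (Subgroup.mem_zpowers x)⟩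
    let F : B → ℂ := fun b => if x₀⁻¹ * b ∈ K₀ then (η : B → ℂ) b else 0
    by_contra hns
    have hind : ∀ χ : Cfsg.IrrCharacter G, Cfsg.classInner (Cfsg.indFun B F) (χ : G → ℂ) *
        (χ : G → ℂ) (x * k₀) = 0 := by
      intro χ
      by_cases hχ : Over θ χ
      · refine mul_eq_zero_of_right _ (by_contra fun h0 => hns ⟨χ, hχ, x * k₀, ?_, h0⟩)
        rw [QuotientGroup.mk_mul_of_mem x k₀.2]
      · refine mul_eq_zero_of_left ?_ _
        rw [frobenius_reciprocity _ _ (isClassFunction_irr χ)]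
        have hF : F = (K₀.index : ℂ)⁻¹ • ∑ l ∈ Λ, (l x₀⁻¹ : ℂ) • (Basic.twist l η : B → ℂ) := by
          funext b
          simp only [F, Pi.smul_apply, Finset.sum_apply, smul_eq_mul, Basic.twist_apply]
          rw [show ∑ l ∈ Λ, (l x₀⁻¹ : ℂ) * ((l b : ℂ) * (η : B → ℂ) b) =
            (∑ l ∈ Λ, (l (x₀⁻¹ * b) : ℂ)) * (η : B → ℂ) b by
              rw [Finset.sum_mul]
              exact Finset.sum_congr rfl fun l _ => by rw [map_mul, Units.val_mul]; ring, hΛs]
          split_ifs
          · rw [inv_mul_cancel_left₀ (Nat.cast_ne_zero.mpr Subgroup.index_ne_zero_of_finite)]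
          · simp
        rw [hF, classInner_smul_left, classInner_sum_left]
        refine mul_eq_zero_of_right _ (Finset.sum_eq_zero fun l hl => ?_)
        rw [classInner_smul_left]
        refine mul_eq_zero_of_right _ ?_
        rw [← classInner_conj_symm, map_eq_zero]
        by_contra h0
        obtain ⟨n, r, hr, hn, -, hdec⟩ := Clifford.Basic.exists_eq_nsmul_add
          (isCharacter_comp B.subtype (isCharacter_irr χ)) (Basic.twist l η)
        apply hχ
        have e1 : (fun k : K => (χ : G → ℂ) k) =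
            (n : ℂ) • (θ : K → ℂ) + fun k : K => r (Subgroup.inclusion le_sup_left k) := by
          funext k
          have h2 : (χ : G → ℂ) k = (n • (Basic.twist l η : B → ℂ) + r)
              (Subgroup.inclusion le_sup_left k) := congrFun hdec (Subgroup.inclusion le_sup_left k)
          rw [h2]
          rw [Pi.add_apply, Pi.add_apply, Pi.smul_apply, Pi.smul_apply, nsmul_eq_mul, smul_eq_mul, Basic.twist_apply]
          rw [hΛK l hl (Subgroup.inclusion le_sup_left k) (Subgroup.mem_subgroupOf.mpr k.2),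
            Units.val_one, one_mul, hη]
        obtain ⟨b, hb⟩ := exists_classInner_nat
          (isCharacter_comp (Subgroup.inclusion (le_sup_left : K ≤ B)) hr) (isCharacter_irr θ)
        intro hz
        rw [e1, classInner_add_left, classInner_smul_left, classInner_self_irr, mul_one] at hz
        replace hb : Cfsg.classInner (fun k : K => r (Subgroup.inclusion le_sup_left k))
          (θ : K → ℂ) = (b : ℂ) := hb
        rw [hb, ← Nat.cast_add, Nat.cast_eq_zero] at hz
        have hn0 : n ≠ 0 := fun e2 => h0 (hn.trans (by rw [e2, Nat.cast_zero]))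
        omega
    have h1 := congrFun (Complete.classFunction_eq_sum (isClassFunction_indFun B F)) (x * k₀)
    simp only [Finset.sum_apply, Pi.smul_apply, smul_eq_mul, hind, Finset.sum_const_zero] at h1
    rw [indFun_apply, mul_eq_zero] at h1
    rcases h1 with h1 | h1
    · exact inv_ne_zero (subgroup_card_ne_zero B) h1
    have hT : ∀ g : G,
        (if hg : g⁻¹ * (x * k₀) * g ∈ B then F ⟨_, hg⟩ else 0) =
          if g⁻¹ * x * g * x⁻¹ ∈ K then (η : B → ℂ) ⟨x * k₀, mem_B x k₀⟩ else 0 := by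
      intro g
      have hiff : ∀ hg : g⁻¹ * (x * k₀) * g ∈ B,
          x₀⁻¹ * ⟨_, hg⟩ ∈ K₀ ↔ g⁻¹ * x * g * x⁻¹ ∈ K := by
        intro hg
        rw [Subgroup.mem_subgroupOf, Subgroup.coe_mul, Subgroup.coe_inv,
          show x⁻¹ * (g⁻¹ * (x * k₀) * g) =
            (x⁻¹ * (g⁻¹ * x * g * x⁻¹) * x) * (g⁻¹ * (k₀ : G) * g) by simp [mul_assoc],
          Subgroup.mul_mem_cancel_right _ (by simpa using hK.conj_mem k₀ k₀.2 g⁻¹)]
        exact ⟨fun h => by simpa [mul_assoc] using hK.conj_mem _ h x,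
          fun h => by simpa using hK.conj_mem _ h x⁻¹⟩
      by_cases hc : g⁻¹ * x * g * x⁻¹ ∈ K
      · have hgy : g⁻¹ * x * (g⁻¹)⁻¹ * x⁻¹ ∈ K := by rwa [inv_inv]
        have hfix := (extends_iff (hst (Subgroup.mem_top x)) (hst (Subgroup.mem_top g⁻¹)) hgy η hη).mp
          (hgood g⁻¹ hgy)
        have hg : g⁻¹ * (x * k₀) * g ∈ B := by
          have := (Subgroup.mem_normalizer_iff.mp
            (normalizer_sup hx (hst (Subgroup.mem_top g⁻¹)).1 hgy) _).mp (mem_B x k₀)
          rwa [inv_inv] at this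
        rw [if_pos hc, dif_pos hg]
        show (if _ then _ else _) = _
        rw [if_pos ((hiff hg).mpr hc)]
        exact hfix ⟨x * k₀, mem_B x k₀⟩ ⟨_, hg⟩ (by simp)
      · rw [if_neg hc]
        split_ifs with hg
        · show (if _ then _ else _) = _
          rw [if_neg fun h => hc ((hiff hg).mp h)]
        · rfl
    rw [Finset.sum_congr rfl (fun g _ => hT g), Finset.sum_ite, Finset.sum_const_zero, add_zero,
      Finset.sum_const, nsmul_eq_mul, mul_eq_zero] at h1
    rcases h1 with h1 | h1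
    · refine Finset.card_ne_zero.mpr ⟨1, ?_⟩ (Nat.cast_eq_zero.mp h1)
      simp [Finset.mem_filter, K.one_mem]
    · exact hk₀ h1

end Cfsg.Agent.Lib.RelMcKay.Good
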