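import Cfsg.Agent.Lib.Clifford.Gallagher
import Cfsg.Agent.Lib.Characters.Linear
import Cfsg.Agent.Lib.Isometry.Clifford
import Cfsg.Agent.Lib.Glauberman.Prime

/-!
# A normal subgroup of prime index: multiplicities of invariant constituents

If `f` is a character of `G` whose values on each coset of `N` (index `p`) other than `N` have mean
square one, then exactly one invariant irreducible character of `N` occurs in `f` with multiplicity
prime to `p`.
-/

set_option autoImplicit false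

namespace Cfsg.Agent.Lib.RelMcKay.Basic

open scoped ComplexConjugate Classical
open Cfsg.Agent.Lib.Characters Cfsg.Agent.Lib.Characters.Basic Cfsg.Agent.Lib.Induced.Basic
open Cfsg.Agent.Lib.Clifford.Basic

universe u

variable {G : Type u} [Group G] [Fintype G]

/-- Twist by a linear character. -/
noncomputable def twist (l : G →* ℂˣ) (χ : Cfsg.IrrCharacter G) : Cfsg.IrrCharacter G :=
  ⟨(Linear.linChar l : G → ℂ) * (χ : G → ℂ), Linear.isIrrCharacter_linear_mul (isCharacter_irr _)
    (by rw [Linear.linChar_apply, map_one, Units.val_one]) χ.2⟩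

theorem twist_apply (l : G →* ℂˣ) (χ : Cfsg.IrrCharacter G) (g : G) :
    (twist l χ : G → ℂ) g = (l g : ℂ) * (χ : G → ℂ) g := by
  show (Linear.linChar l : G → ℂ) g * _ = _
  rw [Linear.linChar_apply]

variable (N : Subgroup G) [hN : N.Normal] [Fintype N]

/-- The number of elements of `Λ` moving `ξ` to `ξ'`. -/
noncomputable def moves (Λ : Finset (G →* ℂˣ)) (ξ ξ' : Cfsg.IrrCharacter G) : ℕ := by
  classical exact (Λ.filter fun l => twist l ξ = ξ').card

omit hN in
/-- Inner product of restrictions, in terms of the dual of the quotient. -/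
theorem restrict_inner {Λ : Finset (G →* ℂˣ)}
    (hs : ∀ g : G, ∑ l ∈ Λ, (l g : ℂ) = if g ∈ N then (N.index : ℂ) else 0)
    (ξ ξ' : Cfsg.IrrCharacter G) :
    Cfsg.classInner (fun n : N => (ξ : G → ℂ) n) (fun n : N => (ξ' : G → ℂ) n) =
      (moves Λ ξ ξ' : ℂ) := by
  classical
  have h1 : (moves Λ ξ ξ' : ℂ) = ∑ l ∈ Λ, Cfsg.classInner (twist l ξ : G → ℂ) (ξ' : G → ℂ) := by
    simp only [classInner_irr]
    rw [Finset.sum_boole]
    simp [moves]
  have h2 : ∑ n : N, (ξ : G → ℂ) n * conj ((ξ' : G → ℂ) n) =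
      ∑ g : G, if g ∈ N then (ξ : G → ℂ) g * conj ((ξ' : G → ℂ) g) else 0 := by
    rw [← Finset.sum_filter]
    exact (Finset.sum_subtype (Finset.univ.filter (· ∈ N)) (by simp)
      fun g => (ξ : G → ℂ) g * conj ((ξ' : G → ℂ) g)).symm
  rw [h1]
  simp only [Cfsg.classInner, twist_apply, Finset.mul_sum]
  rw [Finset.sum_comm, ← Finset.mul_sum, h2, Finset.mul_sum]
  refine Finset.sum_congr rfl fun g _ => ?_
  calc _ = (Nat.card G : ℂ)⁻¹ * (if g ∈ N then (N.index : ℂ) else 0) *
        ((ξ : G → ℂ) g * conj ((ξ' : G → ℂ) g)) := by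
          split_ifs
          · rw [← N.card_mul_index, Nat.cast_mul, mul_inv]
            have : (N.index : ℂ) ≠ 0 := Nat.cast_ne_zero.mpr Subgroup.index_ne_zero_of_finite
            field_simp
          · simp
    _ = _ := by
      rw [← hs, Finset.mul_sum, Finset.sum_mul]
      exact Finset.sum_congr rfl fun l _ => by ring

omit hN [Fintype N] in
/-- A nontrivial linear character fixing `ξ` forces `ξ` to vanish off `N`, `N` of prime index. -/
theorem twist_eq_of_twist_eq {p : ℕ} (hp : p.Prime) (hidx : N.index = p) {l m : G →* ℂˣ}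
    (hl : ∀ n ∈ N, l n = 1) (hm : ∀ n ∈ N, m n = 1) (hl1 : l ≠ 1) (ξ : Cfsg.IrrCharacter G)
    (h : twist l ξ = ξ) : twist m ξ = ξ := by
  refine Subtype.ext (funext fun g => ?_)
  rw [twist_apply]
  by_cases hg : g ∈ N
  · rw [hm g hg, Units.val_one, one_mul]
  · have hker : l.ker = N := by
      have hle : N ≤ l.ker := fun n hn => hl n hn
      by_contra hne
      have hdvd := Subgroup.index_dvd_of_le hle
      rw [hidx, Nat.dvd_prime hp] at hdvd
      rcases hdvd with h' | h'
      · exact hl1 (MonoidHom.ext fun x => by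
          have : x ∈ l.ker := (Subgroup.index_eq_one.mp h') ▸ Subgroup.mem_top x
          exact this)
      · refine hne (le_antisymm ?_ hle)
        have h2 := Subgroup.relIndex_mul_index hle
        rw [hidx, h'] at h2
        exact Subgroup.relIndex_eq_one.mp (Nat.eq_of_mul_eq_mul_right hp.pos (h2.trans (one_mul p).symm))
    have hz : (ξ : G → ℂ) g = 0 := by
      have h2 := congrFun (congrArg Subtype.val h) g
      rw [twist_apply] at h2
      by_contra h0
      exact hg (hker ▸ (Units.ext (mul_right_cancel₀ h0 (h2.trans (one_mul _).symm)) : l g = 1))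
    rw [hz, mul_zero]

/-- The multiplicity of `β` in the restriction of a character. -/
noncomputable def mres {f : G → ℂ} (hf : Cfsg.IsCharacter G f) (β : Cfsg.IrrCharacter N) : ℕ :=
  Classical.choose (exists_classInner_nat (isCharacter_comp N.subtype hf) (isCharacter_irr β))

omit hN [Fintype G] in
theorem coe_mres {f : G → ℂ} (hf : Cfsg.IsCharacter G f) (β : Cfsg.IrrCharacter N) :
    Cfsg.classInner (fun n : N => f n) (β : N → ℂ) = (mres N hf β : ℂ) :=
  Classical.choose_spec (exists_classInner_nat (isCharacter_comp N.subtype hf) (isCharacter_irr β))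

/-- `ξ` restricts irreducibly. -/
def RestrIrr (ξ : Cfsg.IrrCharacter G) : Prop := Cfsg.IsIrrCharacter N fun n : N => (ξ : G → ℂ) n

/-- The bilinear form `p ∑ a b - ∑ A B`. -/
noncomputable def form (p : ℕ) {ι : Type*} (s : Finset ι) (a b : ι → ℤ) : ℤ :=
  (p : ℤ) * ∑ i ∈ s, a i * b i - (∑ i ∈ s, a i) * ∑ i ∈ s, b i

theorem form_nonneg_or {p : ℕ} {ι : Type*} (s : Finset ι) (hs : s.card = p) (a : ι → ℤ) :
    ((∀ i ∈ s, ∀ j ∈ s, a i = a j) → form p s a a = 0) ∧
    ((∃ i ∈ s, ∃ j ∈ s, a i ≠ a j) → (p : ℤ) - 1 ≤ form p s a a) := by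
  classical
  constructor
  · intro h
    rcases s.eq_empty_or_nonempty with rfl | ⟨i₀, hi₀⟩
    · simp [form]
    · rw [form, Finset.sum_congr rfl (fun i hi => show a i * a i = a i₀ * a i₀ by rw [h i hi i₀ hi₀]),
        Finset.sum_congr rfl (fun i hi => h i hi i₀ hi₀), Finset.sum_const, Finset.sum_const, hs,
        nsmul_eq_mul, nsmul_eq_mul]
      ring
  · rintro ⟨i, hi, j, hj, hij⟩
    have h := Glauberman.pairs_bound (ι := s) (n := p) (by rw [Fintype.card_coe, hs])
      (fun x : s => (a x : ℝ)) (fun x y hxy => by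
        have h1 : a x ≠ a y := fun e => hxy (by simp only [e])
        have h2 : (1 : ℤ) ≤ (a x - a y) ^ 2 := by
          have := sq_pos_of_ne_zero (sub_ne_zero.mpr h1)
          omega
        calc (1 : ℝ) = ((1 : ℤ) : ℝ) := by norm_num
          _ ≤ (((a x - a y) ^ 2 : ℤ) : ℝ) := by exact_mod_cast h2
          _ = _ := by push_cast; ring)
      ⟨⟨i, hi⟩, ⟨j, hj⟩, fun e => hij (by exact_mod_cast e)⟩
    rw [← Int.cast_le (R := ℝ), form]
    push_cast
    rw [Finset.sum_coe_sort s fun x => (a x : ℝ) ^ 2, Finset.sum_coe_sort s fun x => (a x : ℝ)] at h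
    simp only [sq] at h ⊢
    linarith

/-- The key identity, for two characters. -/
theorem core {p : ℕ} (hp : p.Prime) (hidx : N.index = p) {f f' : G → ℂ}
    (hf : Cfsg.IsCharacter G f) (hf' : Cfsg.IsCharacter G f') (c : ℤ)
    (hoff : ∑ g : G, (if g ∈ N then 0 else f g * conj (f' g)) =
      (c : ℂ) * ((Nat.card G : ℂ) - Nat.card N)) :
    ∃ (B : Finset (Cfsg.IrrCharacter N)) (F : Cfsg.IrrCharacter N → Finset (Cfsg.IrrCharacter G))
      (n n' : Cfsg.IrrCharacter G → ℤ),
      (∀ β, β ∈ B ↔ ∀ g, conjC N g (β : N → ℂ) = (β : N → ℂ)) ∧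
      (∀ β ∈ B, (F β).card = p ∨ F β = ∅) ∧
      (∀ β ∈ B, (mres N hf β : ℤ) = ∑ ξ ∈ F β, n ξ) ∧
      (∀ β ∈ B, (mres N hf' β : ℤ) = ∑ ξ ∈ F β, n' ξ) ∧
      (f = f' → n = n') ∧
      ∑ β ∈ B, form p (F β) n n' = c * ((p : ℤ) - 1) := by
  classical
  have := Fintype.ofFinite (Cfsg.IrrCharacter G)
  have := Fintype.ofFinite (Cfsg.IrrCharacter N)
  have hab : ∀ x y : G, x * y * x⁻¹ * y⁻¹ ∈ N := by
    haveI : Fact p.Prime := ⟨hp⟩
    haveI : IsCyclic (G ⧸ N) := isCyclic_of_prime_card (p := p) (by rw [← Subgroup.index_eq_card, hidx])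
    letI := IsCyclic.commGroup (α := G ⧸ N)
    intro x y
    rw [← QuotientGroup.eq_one_iff, QuotientGroup.mk_mul, QuotientGroup.mk_mul, QuotientGroup.mk_mul,
      QuotientGroup.mk_inv, QuotientGroup.mk_inv, mul_comm (x : G ⧸ N), mul_inv_cancel_right,
      mul_inv_cancel]
  obtain ⟨Λ, hΛc, hΛN, hΛs⟩ := Isometry.Clifford.exists_dual N hab
  have hinner := restrict_inner N hΛs
  have hmoves : ∀ ξ ξ', moves Λ ξ ξ' ≠ 0 → ∃ l ∈ Λ, twist l ξ = ξ' := fun ξ ξ' h => by
    obtain ⟨l, hl⟩ := Finset.card_pos.mp (Nat.pos_of_ne_zero h)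
    exact ⟨l, (Finset.mem_filter.mp hl).1, (Finset.mem_filter.mp hl).2⟩
  have hres : ∀ ξ, ∀ l ∈ Λ, (fun n : N => (twist l ξ : G → ℂ) n) = fun n : N => (ξ : G → ℂ) n :=
    fun ξ l hl => funext fun n => by rw [twist_apply, hΛN l hl _ n.2, Units.val_one, one_mul]
  -- a character restricting reducibly is fixed by the whole dual
  have hout : ∀ ξ, ¬ RestrIrr N ξ → ∀ l ∈ Λ, twist l ξ = ξ := by
    intro ξ hX m hm
    by_contra hne
    apply hX
    refine isIrrCharacter_of_classInner_self (isCharacter_comp N.subtype (isCharacter_irr ξ)) ?_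
    show Cfsg.classInner (fun n : N => (ξ : G → ℂ) n) (fun n : N => (ξ : G → ℂ) n) = 1
    rw [hinner]
    have hone : ∀ l ∈ Λ, twist l ξ = ξ → l = 1 := fun l hl h => by
      by_contra hl1
      exact hne (twist_eq_of_twist_eq N hp hidx (hΛN l hl) (hΛN m hm) hl1 ξ h)
    have h1 : moves Λ ξ ξ ≠ 0 := by
      intro h0
      have := hinner ξ ξ
      rw [h0, Nat.cast_zero] at this
      exact Clifford.Gallagher.classInner_self_ne_zero (φ := fun n : N => (ξ : G → ℂ) n)
        (apply_one_ne_zero ξ) this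
    have h2 : moves Λ ξ ξ ≤ 1 := by
      refine Finset.card_le_one.mpr fun a ha b hb => ?_
      rw [Finset.mem_filter] at ha hb
      rw [hone a ha.1 ha.2, hone b hb.1 hb.2]
    exact_mod_cast (show moves Λ ξ ξ = 1 by omega)
  have hoff0 : ∀ ξ, ¬ RestrIrr N ξ → ∀ ξ', moves Λ ξ ξ' = if ξ' = ξ then p else 0 := by
    intro ξ hX ξ'
    unfold moves
    split_ifs with h
    · rw [Finset.filter_true_of_mem fun l hl => by rw [h]; exact hout ξ hX l hl, hΛc, hidx]
    · rw [Finset.card_eq_zero, Finset.filter_eq_empty_iff]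
      exact fun l hl e => h (by rw [← e, hout ξ hX l hl])
  have hmoveX : ∀ ξ, RestrIrr N ξ → ∀ ξ', moves Λ ξ ξ' =
      if (fun n : N => (ξ' : G → ℂ) n) = (fun n : N => (ξ : G → ℂ) n) then 1 else 0 := by
    intro ξ hX ξ'
    split_ifs with h
    · have := hinner ξ ξ'
      rw [h, classInner_self_irr ⟨_, hX⟩] at this
      exact_mod_cast this.symm
    · by_contra h0
      obtain ⟨l, hl, e⟩ := hmoves ξ ξ' h0
      exact h (by rw [← e, hres ξ l hl])
  let n : Cfsg.IrrCharacter G → ℕ := fun ξ =>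
    Classical.choose (exists_classInner_nat hf (isCharacter_irr ξ))
  let n' : Cfsg.IrrCharacter G → ℕ := fun ξ =>
    Classical.choose (exists_classInner_nat hf' (isCharacter_irr ξ))
  have hn : ∀ ξ : Cfsg.IrrCharacter G, Cfsg.classInner f (ξ : G → ℂ) = (n ξ : ℂ) := fun ξ =>
    Classical.choose_spec (exists_classInner_nat hf (isCharacter_irr ξ))
  have hn' : ∀ ξ : Cfsg.IrrCharacter G, Cfsg.classInner f' (ξ : G → ℂ) = (n' ξ : ℂ) := fun ξ =>
    Classical.choose_spec (exists_classInner_nat hf' (isCharacter_irr ξ))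
  have hdec : f = ∑ ξ, (n ξ : ℂ) • (ξ : G → ℂ) := by
    simp only [← hn]
    exact Complete.classFunction_eq_sum (isClassFunction_of_isCharacter hf)
  have hdec' : f' = ∑ ξ, (n' ξ : ℂ) • (ξ : G → ℂ) := by
    simp only [← hn']
    exact Complete.classFunction_eq_sum (isClassFunction_of_isCharacter hf')
  have hG : Cfsg.classInner f f' = ((∑ ξ, n ξ * n' ξ : ℕ) : ℂ) := by
    conv_lhs => rw [hdec']
    rw [classInner_sum_right]
    push_cast
    refine Finset.sum_congr rfl fun ξ _ => ?_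
    rw [classInner_smul_right, hn, map_natCast, mul_comm]
  have hNin : Cfsg.classInner (fun x : N => f x) (fun x : N => f' x) =
      ((∑ ξ, ∑ ξ', n ξ * n' ξ' * moves Λ ξ ξ' : ℕ) : ℂ) := by
    have e : ∀ (a : Cfsg.IrrCharacter G → ℕ) (φ : G → ℂ), φ = ∑ ξ, (a ξ : ℂ) • (ξ : G → ℂ) →
        (fun x : N => φ x) = ∑ ξ, (a ξ : ℂ) • fun x : N => (ξ : G → ℂ) x := by
      intro a φ h
      funext x
      rw [h]
      simp [Finset.sum_apply]
    rw [e n f hdec, e n' f' hdec', classInner_sum_left]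
    push_cast
    refine Finset.sum_congr rfl fun ξ _ => ?_
    rw [classInner_smul_left, classInner_sum_right, Finset.mul_sum]
    refine Finset.sum_congr rfl fun ξ' _ => ?_
    rw [classInner_smul_right, hinner, map_natCast]
    ring
  have hid : (p : ℤ) * (∑ ξ, (n ξ : ℤ) * n' ξ) - ∑ ξ, ∑ ξ', (n ξ : ℤ) * n' ξ' * moves Λ ξ ξ' =
      c * ((p : ℤ) - 1) := by
    have hcard : (Nat.card G : ℂ) = (Nat.card N : ℂ) * p := by
      rw [← hidx, ← Nat.cast_mul, N.card_mul_index]
    have h2 : ∑ g : G, (if g ∈ N then 0 else f g * conj (f' g)) =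
        (Nat.card G : ℂ) * Cfsg.classInner f f' -
          (Nat.card N : ℂ) * Cfsg.classInner (fun x : N => f x) (fun x : N => f' x) := by
      simp only [Cfsg.classInner, ← mul_assoc, mul_inv_cancel₀ (subgroup_card_ne_zero N),
        mul_inv_cancel₀ (natCard_ne_zero (G := G)), one_mul]
      rw [eq_sub_iff_add_eq, ← Finset.sum_subtype (Finset.univ.filter (· ∈ N)) (by simp)
        fun g => f g * conj (f' g), Finset.sum_filter, ← Finset.sum_add_distrib]
      exact Finset.sum_congr rfl fun g _ => by split_ifs <;> simp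
    rw [hG, hNin, hoff, hcard] at h2
    have h3 : (Nat.card N : ℂ) *
        ((p : ℂ) * ((∑ ξ, n ξ * n' ξ : ℕ) : ℂ) - ((∑ ξ, ∑ ξ', n ξ * n' ξ' * moves Λ ξ ξ' : ℕ) : ℂ)) =
        (Nat.card N : ℂ) * ((c : ℂ) * ((p : ℂ) - 1)) := by linear_combination -h2
    have h4 := mul_left_cancel₀ (subgroup_card_ne_zero N) h3
    rw [← Int.cast_inj (α := ℂ)]
    push_cast at h4 ⊢
    exact h4
  let B : Finset (Cfsg.IrrCharacter N) :=
    Finset.univ.filter fun β : Cfsg.IrrCharacter N => ∀ g, conjC N g (β : N → ℂ) = (β : N → ℂ)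
  let F : Cfsg.IrrCharacter N → Finset (Cfsg.IrrCharacter G) := fun β =>
    Finset.univ.filter fun ξ : Cfsg.IrrCharacter G => (fun x : N => (ξ : G → ℂ) x) = (β : N → ℂ)
  have hmult : ∀ (a : Cfsg.IrrCharacter G → ℕ) (φ : G → ℂ) (hφ : Cfsg.IsCharacter G φ),
      φ = ∑ ξ, (a ξ : ℂ) • (ξ : G → ℂ) → ∀ β ∈ B, (mres N hφ β : ℤ) = ∑ ξ ∈ F β, (a ξ : ℤ) := by
    intro a φ hφ hd β hβ
    have hB := (Finset.mem_filter.mp hβ).2
    have h1 : (mres N hφ β : ℂ) = ∑ ξ ∈ F β, (a ξ : ℂ) := by
      rw [← coe_mres]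
      have e : (fun x : N => φ x) = ∑ ξ, (a ξ : ℂ) • fun x : N => (ξ : G → ℂ) x := by
        funext x
        rw [hd]
        simp [Finset.sum_apply]
      rw [e, classInner_sum_left, Finset.sum_filter]
      refine Finset.sum_congr rfl fun ξ _ => ?_
      rw [classInner_smul_left]
      split_ifs with h
      · rw [h, classInner_self_irr, mul_one]
      · rw [mul_eq_zero]
        refine Or.inr ?_
        by_contra h0
        have hs := restrict_eq_smul N ξ.2 β h0 hB
        obtain ⟨e, he⟩ := exists_classInner_nat (isCharacter_comp N.subtype (isCharacter_irr ξ))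
          (isCharacter_irr β)
        replace he : Cfsg.classInner (fun x : N => (ξ : G → ℂ) x) (β : N → ℂ) = (e : ℂ) := he
        rw [he] at hs
        by_cases hX : RestrIrr N ξ
        · apply h
          have : Cfsg.classInner ((⟨_, hX⟩ : Cfsg.IrrCharacter N) : N → ℂ) (β : N → ℂ) ≠ 0 := h0
          rw [classInner_irr] at this
          exact congrArg Subtype.val (not_not.mp fun hne => this (if_neg hne))
        · have h5 := hinner ξ ξ
          rw [hoff0 ξ hX, if_pos rfl, hs, classInner_smul_left, classInner_smul_right,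
            classInner_self_irr, mul_one, map_natCast] at h5
          have h6 : e * e = p := by exact_mod_cast h5
          have h7 : e ∣ p := ⟨e, h6.symm⟩
          rcases (Nat.dvd_prime hp).mp h7 with rfl | rfl
          · exact hp.one_lt.ne' (by simpa using h6.symm)
          · exact hp.one_lt.ne' (Nat.eq_of_mul_eq_mul_right hp.pos (h6.trans (one_mul e).symm))
    rw [← Int.cast_inj (α := ℂ)]
    push_cast
    exact h1
  refine ⟨B, F, fun ξ => (n ξ : ℤ), fun ξ => (n' ξ : ℤ), fun β => by simp [B], fun β hβ => ?_,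
    hmult n f hf hdec, hmult n' f' hf' hdec', fun e => funext fun ξ => ?_, ?_⟩
  · -- the size of a fibre
    rcases (F β).eq_empty_or_nonempty with h | ⟨ξ, hξ⟩
    · exact Or.inr h
    · left
      have e := (Finset.mem_filter.mp hξ).2
      have hX : RestrIrr N ξ := by rw [RestrIrr, e]; exact β.2
      have h1 : ∀ ξ' ∈ F β, moves Λ ξ ξ' = 1 := fun ξ' hξ' => by
        rw [hmoveX ξ hX, if_pos ((Finset.mem_filter.mp hξ').2.trans e.symm)]
      calc (F β).card = ∑ ξ' ∈ F β, moves Λ ξ ξ' := by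
            rw [Finset.sum_congr rfl h1, Finset.sum_const, smul_eq_mul, mul_one]
        _ = Λ.card := by
            unfold moves
            rw [← Finset.card_eq_sum_card_fiberwise]
            intro l hl
            exact Finset.mem_filter.mpr ⟨Finset.mem_univ _, (hres ξ l hl).trans e⟩
        _ = p := by rw [hΛc, hidx]
  · exact congrArg Nat.cast (Nat.cast_injective (R := ℂ) (by rw [← hn, ← hn', e]))
  · -- the contribution of each character
    let v : Cfsg.IrrCharacter G → ℤ := fun ξ =>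
      (p : ℤ) * ((n ξ : ℤ) * n' ξ) - ∑ ξ', (n ξ : ℤ) * n' ξ' * moves Λ ξ ξ'
    have hv : ∑ ξ, v ξ = c * ((p : ℤ) - 1) := by
      rw [Finset.sum_sub_distrib, ← Finset.mul_sum]
      exact hid
    have hv0 : ∀ ξ, ¬ RestrIrr N ξ → v ξ = 0 := fun ξ hX => by
      simp only [v, hoff0 ξ hX]
      rw [Finset.sum_eq_single ξ (fun x _ hx => by rw [if_neg hx]; simp) (by simp), if_pos rfl]
      ring
    have hdisj : ∀ β ∈ B, ∀ β' ∈ B, β ≠ β' → Disjoint (F β) (F β') := fun β _ β' _ hne =>
      Finset.disjoint_left.mpr fun ξ h1 h2 => hne (Subtype.ext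
        ((Finset.mem_filter.mp h1).2.symm.trans (Finset.mem_filter.mp h2).2))
    rw [← hv]
    calc ∑ β ∈ B, form p (F β) (fun ξ => (n ξ : ℤ)) (fun ξ => (n' ξ : ℤ))
        = ∑ β ∈ B, ∑ ξ ∈ F β, v ξ := by
          refine Finset.sum_congr rfl fun β _ => ?_
          simp only [form, v, Finset.sum_sub_distrib, ← Finset.mul_sum, Finset.sum_mul]
          congr 1
          refine Finset.sum_congr rfl fun ξ hξ => ?_
          have e := (Finset.mem_filter.mp hξ).2
          have hX : RestrIrr N ξ := by rw [RestrIrr, e]; exact β.2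
          rw [Finset.mul_sum, Finset.sum_filter]
          refine Finset.sum_congr rfl fun ξ' _ => ?_
          rw [hmoveX ξ hX, e]
          split_ifs with h <;> simp
      _ = ∑ ξ ∈ B.biUnion F, v ξ := (Finset.sum_biUnion hdisj).symm
      _ = ∑ ξ, v ξ := by
          refine Finset.sum_subset (Finset.subset_univ _) fun ξ _ hξ => hv0 ξ fun hX => hξ ?_
          refine Finset.mem_biUnion.mpr ⟨⟨_, hX⟩, Finset.mem_filter.mpr ⟨Finset.mem_univ _,
            fun g => ?_⟩, Finset.mem_filter.mpr ⟨Finset.mem_univ _, rfl⟩⟩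
          funext x
          rw [conjC_apply]
          exact isClassFunction_irr ξ (x : G) g

/-- Exactly one invariant constituent of multiplicity prime to `p`. -/
theorem unique_constituent {p : ℕ} (hp : p.Prime) (hidx : N.index = p) {f : G → ℂ}
    (hf : Cfsg.IsCharacter G f)
    (hoff : ∑ g : G, (if g ∈ N then 0 else f g * conj (f g)) = (Nat.card G : ℂ) - Nat.card N)
    :
    ∃ β : Cfsg.IrrCharacter N, (∀ g, conjC N g (β : N → ℂ) = (β : N → ℂ)) ∧
      ¬ p ∣ mres N hf β ∧
      ∀ β' : Cfsg.IrrCharacter N, (∀ g, conjC N g (β' : N → ℂ) = (β' : N → ℂ)) → β' ≠ β →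
        p ∣ mres N hf β' := by
  classical
  obtain ⟨B, F, n, n', hB, hF, hm, -, hnn, hsum⟩ := core N hp hidx hf hf 1 (by
    rw [Int.cast_one, one_mul, ← hoff])
  obtain rfl := hnn rfl
  rw [one_mul] at hsum
  have hp1 : (0 : ℤ) < (p : ℤ) - 1 := by have := hp.two_le; omega
  have hterm : ∀ β ∈ B, 0 ≤ form p (F β) n n ∧
      (form p (F β) n n ≠ 0 → (p : ℤ) - 1 ≤ form p (F β) n n) ∧
      (form p (F β) n n = 0 → (p : ℤ) ∣ mres N hf β) := by
    intro β hβ
    rcases hF β hβ with hc | h0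
    · by_cases hconst : ∀ i ∈ F β, ∀ j ∈ F β, n i = n j
      · have := (form_nonneg_or (F β) hc n).1 hconst
        refine ⟨this.ge, fun h => absurd this h, fun _ => ?_⟩
        obtain ⟨i₀, hi₀⟩ := Finset.card_pos.mp (hc.symm ▸ hp.pos)
        rw [hm β hβ, Finset.sum_congr rfl (fun i hi => hconst i hi i₀ hi₀), Finset.sum_const, hc,
          nsmul_eq_mul]
        exact Dvd.intro _ rfl
      · push Not at hconst
        have := (form_nonneg_or (F β) hc n).2 hconst
        exact ⟨by omega, fun _ => this, fun h => by omega⟩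
    · have : form p (F β) n n = 0 := by simp [form, h0]
      exact ⟨this.ge, fun h => absurd this h, fun _ => by rw [hm β hβ, h0]; simp⟩
  obtain ⟨β, hβ, hne⟩ := Finset.exists_ne_zero_of_sum_ne_zero (hsum.trans_ne hp1.ne')
  have hrest : ∀ β' ∈ B, β' ≠ β → form p (F β') n n = 0 := by
    intro β' hβ' hne'
    by_contra h
    have h1 := (hterm β hβ).2.1 hne
    have h2 := (hterm β' hβ').2.1 h
    have h3 := Finset.sum_le_sum_of_subset_of_nonneg (f := fun b => form p (F b) n n)
      (show {β', β} ⊆ B by intro x hx; simp at hx; rcases hx with rfl | rfl <;> assumption)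
      fun x hx _ => (hterm x hx).1
    rw [hsum, Finset.sum_pair hne'] at h3
    omega
  refine ⟨β, (hB β).mp hβ, fun hd => ?_, fun β' hinv hne' =>
    Int.natCast_dvd_natCast.mp ((hterm β' ((hB β').mpr hinv)).2.2 (hrest β' ((hB β').mpr hinv) hne'))⟩
  have h1 : form p (F β) n n = (p : ℤ) - 1 := by
    rw [← hsum, Finset.sum_eq_single β hrest (fun h => absurd hβ h)]
  rw [form, ← hm β hβ] at h1
  obtain ⟨k, hk⟩ := Int.natCast_dvd_natCast.mpr hd
  rw [hk] at h1
  have : (p : ℤ) ∣ 1 := ⟨1 - (∑ i ∈ F β, n i * n i) + p * k * k, by linear_combination h1⟩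
  exact hp.one_lt.ne' (by exact_mod_cast Int.eq_one_of_dvd_one (by positivity) this)

/-- Two characters orthogonal off `N` have different distinguished constituents. -/
theorem constituent_ne {p : ℕ} (hp : p.Prime) (hidx : N.index = p) {f f' : G → ℂ}
    (hf : Cfsg.IsCharacter G f) (hf' : Cfsg.IsCharacter G f')
    (hoff : ∑ g : G, (if g ∈ N then 0 else f g * conj (f' g)) = 0)
    (β : Cfsg.IrrCharacter N) (hβ : ∀ g, conjC N g (β : N → ℂ) = (β : N → ℂ))
    (h : ¬ p ∣ mres N hf β) (h' : ¬ p ∣ mres N hf' β) :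
    ∃ γ : Cfsg.IrrCharacter N, (∀ g, conjC N g (γ : N → ℂ) = (γ : N → ℂ)) ∧ γ ≠ β ∧
      ¬ p ∣ mres N hf γ ∧ ¬ p ∣ mres N hf' γ := by
  classical
  obtain ⟨B, F, n, n', hB, hF, hm, hm', -, hsum⟩ := core N hp hidx hf hf' 0 (by
    rw [Int.cast_zero, zero_mul]; exact hoff)
  by_contra hcon
  push Not at hcon
  rw [zero_mul] at hsum
  have hdvd : (p : ℤ) ∣ ∑ b ∈ B, (mres N hf b : ℤ) * mres N hf' b := by
    refine ⟨∑ b ∈ B, ∑ i ∈ F b, n i * n' i, ?_⟩
    rw [Finset.mul_sum, ← sub_eq_zero, ← Finset.sum_sub_distrib, ← neg_eq_zero,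
      ← Finset.sum_neg_distrib]
    rw [← hsum]
    refine Finset.sum_congr rfl fun b hb => ?_
    rw [form, hm b hb, hm' b hb]
    ring
  have hrest : (p : ℤ) ∣ ∑ b ∈ B.erase β, (mres N hf b : ℤ) * mres N hf' b :=
    Finset.dvd_sum fun b hb => by
      obtain ⟨hne, hb⟩ := Finset.mem_erase.mp hb
      by_cases h1 : p ∣ mres N hf b
      · exact dvd_mul_of_dvd_left (Int.natCast_dvd_natCast.mpr h1) _
      · exact dvd_mul_of_dvd_right (Int.natCast_dvd_natCast.mpr (hcon b ((hB b).mp hb) hne h1)) _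
  rw [← Finset.sum_erase_add B _ ((hB β).mpr hβ), dvd_add_right hrest] at hdvd
  rw [← Nat.cast_mul, Int.natCast_dvd_natCast, hp.dvd_mul] at hdvd
  exact hdvd.elim h h'

end Cfsg.Agent.Lib.RelMcKay.Basic
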