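import Mathlib
import Cfsg.Agent.Lib.BlocksChars5.GagolaQuot.ClassTwo

/-!
# Two commuting automorphisms of a `p`-group: a generator change making one of them trivial somewhere
-/

set_option autoImplicit false

namespace Cfsg.Agent.Lib.RelMcKay.Choose

universe u

variable {Γ : Type u} [Group Γ]

/-- If two elements normalise a nontrivial `p`-subgroup `P` and commute modulo its centraliser,
then some nontrivial central subgroup `U` of `P` normalised by both is centralised by the second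
member of a unimodular change of generators. -/
theorem choose_pair [Finite Γ] {p : ℕ} [Fact p.Prime] {P : Subgroup Γ} (hP : IsPGroup p P)
    (hne : P ≠ ⊥) {a b : Γ} (ha : a ∈ Subgroup.normalizer (P : Set Γ))
    (hb : b ∈ Subgroup.normalizer (P : Set Γ))
    (hc : ∀ q ∈ P, Commute (b * a * b⁻¹ * a⁻¹) q) :
    ∃ U : Subgroup Γ, U ≠ ⊥ ∧ U ≤ P ∧ (∀ u ∈ U, ∀ q ∈ P, Commute u q) ∧
      a ∈ Subgroup.normalizer (U : Set Γ) ∧ b ∈ Subgroup.normalizer (U : Set Γ) ∧
      ∃ s t x y : ℤ, s * y - t * x = 1 ∧ ∀ u ∈ U, Commute (a ^ x * b ^ y) u := by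
  classical
  set Z : Subgroup Γ := P ⊓ Subgroup.centralizer (P : Set Γ) with hZ
  have hZne : Z ≠ ⊥ := by
    haveI : Nontrivial P := P.nontrivial_iff_ne_bot.mpr hne
    intro h0
    obtain ⟨⟨z, hz⟩, hz1⟩ := Subgroup.ne_bot_iff_exists_ne_one.mp hP.bot_lt_center.ne'
    have hzc := Subgroup.mem_center_iff.mp hz
    have hzm : (z : Γ) ∈ Z := Subgroup.mem_inf.mpr ⟨z.2,
      Subgroup.mem_centralizer_iff.mpr fun q hq => congrArg Subtype.val (hzc ⟨q, hq⟩)⟩
    rw [h0, Subgroup.mem_bot] at hzm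
    exact hz1 (Subtype.ext (Subtype.ext hzm))
  have hnormZ : ∀ g ∈ Subgroup.normalizer (P : Set Γ), g ∈ Subgroup.normalizer (Z : Set Γ) := by
    intro g hg
    refine Subgroup.mem_normalizer_fintype fun z hz => ?_
    obtain ⟨hzP, hzC⟩ := Subgroup.mem_inf.mp hz
    refine Subgroup.mem_inf.mpr ⟨(Subgroup.mem_normalizer_iff.mp hg z).mp hzP,
      Subgroup.mem_centralizer_iff.mpr fun q hq => ?_⟩
    have hq' : g⁻¹ * q * g ∈ P := (Subgroup.mem_normalizer_iff''.mp hg q).mp hq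
    have h := Subgroup.mem_centralizer_iff.mp hzC _ hq'
    calc q * (g * z * g⁻¹) = g * ((g⁻¹ * q * g) * z) * g⁻¹ := by simp [mul_assoc]
      _ = g * (z * (g⁻¹ * q * g)) * g⁻¹ := by rw [h]
      _ = _ := by simp [mul_assoc]
  let good : Subgroup Γ → Prop := fun U => U ≠ ⊥ ∧ U ≤ Z ∧
    a ∈ Subgroup.normalizer (U : Set Γ) ∧ b ∈ Subgroup.normalizer (U : Set Γ)
  haveI : Finite (Subgroup Γ) := Finite.of_injective _ SetLike.coe_injective
  obtain ⟨U, ⟨hUne, hUZ, haU, hbU⟩, hmin⟩ := Set.Finite.exists_minimalFor (fun U : Subgroup Γ => Nat.card U)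
    {U | good U} (Set.toFinite _) ⟨Z, hZne, le_rfl, hnormZ a ha, hnormZ b hb⟩
  have hUcomm : ∀ u ∈ U, ∀ q ∈ P, Commute u q := fun u hu q hq =>
    (Subgroup.mem_centralizer_iff.mp (Subgroup.mem_inf.mp (hUZ hu)).2 q hq).symm
  refine ⟨U, hUne, hUZ.trans inf_le_left, hUcomm, haU, hbU, ?_⟩
  letI : CommGroup U := { (inferInstance : Group U) with
    mul_comm := fun u v => Subtype.ext
      (hUcomm u u.2 v (Subgroup.mem_inf.mp (hUZ v.2)).1).eq }
  haveI : Nontrivial U := U.nontrivial_iff_ne_bot.mpr hUne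
  set φ := U.normalizerMonoidHom with hφ
  let A : MulAut U := φ ⟨a, haU⟩
  let B : MulAut U := φ ⟨b, hbU⟩
  have hAB : Commute A B := by
    have hk : φ (⟨b, hbU⟩ * ⟨a, haU⟩ * (⟨b, hbU⟩ : Subgroup.normalizer (U : Set Γ))⁻¹ *
        (⟨a, haU⟩ : Subgroup.normalizer (U : Set Γ))⁻¹) = 1 := by
      refine MulEquiv.ext fun u => Subtype.ext ?_
      rw [hφ, Subgroup.normalizerMonoidHom_apply_apply_coe]
      show b * a * b⁻¹ * a⁻¹ * (u : Γ) * (b * a * b⁻¹ * a⁻¹)⁻¹ = (u : Γ)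
      rw [(hc u (Subgroup.mem_inf.mp (hUZ u.2)).1).eq, mul_inv_cancel_right]
    rw [map_mul, map_mul, map_mul, map_inv, map_inv, mul_inv_eq_one, mul_inv_eq_iff_eq_mul] at hk
    exact hk.symm
  let H : Subgroup (MulAut U) := Subgroup.closure {A, B}
  have hHc : ∀ f ∈ H, Commute f A ∧ Commute f B := by
    intro f hf
    have hle : H ≤ Subgroup.centralizer {A} ⊓ Subgroup.centralizer {B} := by
      refine (Subgroup.closure_le _).mpr ?_
      rintro g (rfl | rfl) <;> refine Subgroup.mem_inf.mpr ⟨?_, ?_⟩ <;>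
        rw [Subgroup.mem_centralizer_singleton_iff]
      exacts [hAB.eq, hAB.symm.eq]
    obtain ⟨h1, h2⟩ := Subgroup.mem_inf.mp (hle hf)
    exact ⟨Subgroup.mem_centralizer_singleton_iff.mp h1, Subgroup.mem_centralizer_singleton_iff.mp h2⟩
  have hcommH : ∀ f g : H, f * g = g * f := by
    intro f g
    refine Subtype.ext ?_
    have hle : H ≤ Subgroup.centralizer {(f : MulAut U)} := by
      refine (Subgroup.closure_le _).mpr ?_
      rintro k (rfl | rfl) <;> rw [SetLike.mem_coe, Subgroup.mem_centralizer_singleton_iff]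
      exacts [(hHc f f.2).1.symm.eq, (hHc f f.2).2.symm.eq]
    exact (Subgroup.mem_centralizer_singleton_iff.mp (hle g.2)).symm
  letI : MulDistribMulAction H U := MulDistribMulAction.compHom U H.subtype
  have hfix : ∀ (f : H) (u : U), u ≠ 1 → f • u = u → f = 1 := by
    intro f u hu hfu
    let F : Subgroup Γ :=
      { carrier := {g | ∃ hg : g ∈ U, (f : MulAut U) ⟨g, hg⟩ = ⟨g, hg⟩}
        one_mem' := ⟨U.one_mem, map_one (f : MulAut U)⟩
        mul_mem' := fun {g k} hg hk => ⟨U.mul_mem hg.1 hk.1, by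
          rw [show (⟨g * k, U.mul_mem hg.1 hk.1⟩ : U) = ⟨g, hg.1⟩ * ⟨k, hk.1⟩ from rfl, map_mul,
            hg.2, hk.2]⟩
        inv_mem' := fun {g} hg => ⟨U.inv_mem hg.1, by
          rw [show (⟨g⁻¹, U.inv_mem hg.1⟩ : U) = (⟨g, hg.1⟩ : U)⁻¹ from rfl, map_inv, hg.2]⟩ }
    have hFU : F ≤ U := fun g hg => hg.1
    have hFne : F ≠ ⊥ := fun h0 => hu (Subtype.ext (by
      have : (u : Γ) ∈ F := ⟨u.2, hfu⟩
      rwa [h0, Subgroup.mem_bot] at this))
    have hnormF : ∀ (c : Γ) (hcU : c ∈ Subgroup.normalizer (U : Set Γ)),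
        Commute (f : MulAut U) (φ ⟨c, hcU⟩) → c ∈ Subgroup.normalizer (F : Set Γ) := by
      intro c hcU hcm
      refine Subgroup.mem_normalizer_fintype fun g hg => ?_
      obtain ⟨hgU, hg'⟩ := hg
      refine ⟨(Subgroup.mem_normalizer_iff.mp hcU g).mp hgU, ?_⟩
      have h := DFunLike.congr_fun hcm.eq ⟨g, hgU⟩
      simp only [MulAut.mul_apply, hg'] at h
      exact h
    have hge : Nat.card U ≤ Nat.card F := by
      have hgood : good F := ⟨hFne, hFU.trans hUZ, hnormF a haU (hHc f f.2).1,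
        hnormF b hbU (hHc f f.2).2⟩
      rcases le_total (Nat.card U) (Nat.card F) with h | h
      · exact h
      · exact hmin hgood h
    have hFeq := Subgroup.eq_of_le_of_card_ge hFU hge
    refine Subtype.ext (MulEquiv.ext fun v => ?_)
    have : (v : Γ) ∈ F := hFeq.symm ▸ v.2
    exact this.2
  haveI : IsCyclic H := Cfsg.Agent.Lib.BlocksChars5.GagolaQuot.isCyclic_of_fixedPointFree hcommH hfix
  obtain ⟨g, hg⟩ := IsCyclic.exists_generator (α := H)
  obtain ⟨i, hi⟩ := hg ⟨A, Subgroup.subset_closure (by simp)⟩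
  obtain ⟨j, hj⟩ := hg ⟨B, Subgroup.subset_closure (by simp)⟩
  have hi' : (g : MulAut U) ^ i = A := congrArg Subtype.val hi
  have hj' : (g : MulAut U) ^ j = B := congrArg Subtype.val hj
  obtain ⟨s, t, x, y, hdet, hxy⟩ : ∃ s t x y : ℤ, s * y - t * x = 1 ∧ i * x + j * y = 0 := by
    by_cases h0 : Int.gcd i j = 0
    · obtain ⟨rfl, rfl⟩ := Int.gcd_eq_zero_iff.mp h0
      exact ⟨1, 0, 0, 1, by ring, by ring⟩
    · obtain ⟨i', hi'⟩ := Int.gcd_dvd_left i j
      obtain ⟨j', hj'⟩ := Int.gcd_dvd_right i j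
      have hb := Int.gcd_eq_gcd_ab i j
      refine ⟨Int.gcdA i j, Int.gcdB i j, -j', i', ?_, ?_⟩
      · have hd : ((Int.gcd i j : ℕ) : ℤ) ≠ 0 := by exact_mod_cast h0
        refine mul_left_cancel₀ hd ?_
        linear_combination -hb - (Int.gcdA i j) * hi' - (Int.gcdB i j) * hj'
      · generalize ((Int.gcd i j : ℕ) : ℤ) = D at hi' hj'
        subst hi'
        subst hj'
        ring
  refine ⟨s, t, x, y, hdet, fun u hu => ?_⟩
  have hone : φ ((⟨a, haU⟩ : Subgroup.normalizer (U : Set Γ)) ^ x *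
      (⟨b, hbU⟩ : Subgroup.normalizer (U : Set Γ)) ^ y) = 1 := by
    rw [map_mul, map_zpow, map_zpow]
    show A ^ x * B ^ y = 1
    rw [← hi', ← hj', ← zpow_mul, ← zpow_mul, ← zpow_add, hxy, zpow_zero]
  have h := congrArg Subtype.val (DFunLike.congr_fun hone ⟨u, hu⟩)
  rw [hφ, Subgroup.normalizerMonoidHom_apply_apply_coe] at h
  simp only [Subgroup.coe_mul, SubgroupClass.coe_zpow, MulAut.one_apply] at h
  exact (mul_inv_eq_iff_eq_mul.mp h)

end Cfsg.Agent.Lib.RelMcKay.Choose
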