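import Cfsg.Agent.Lib.RelMcKay.PExt

/-!
# Characters of degree prime to `p` over a character and over its extension to the derived part
-/

set_option autoImplicit false

namespace Cfsg.Agent.Lib.RelMcKay.Reduce

open scoped ComplexConjugate Classical
open Cfsg.Agent.Lib.Characters Cfsg.Agent.Lib.Characters.Basic Cfsg.Agent.Lib.Induced.Basic
open Cfsg.Agent.Lib.RelMcKay.Rel Cfsg.Agent.Lib.RelMcKay.Count
open Cfsg.Agent.Lib.RelMcKay.Pairs (liftI cntOver)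
open Cfsg.Agent.Lib.RelMcKay.Extend (Extends)

universe u

variable {G : Type u} [Group G] [Fintype G] {p : ℕ} [hp : Fact p.Prime] {K T S : Subgroup G}
  {θ : Cfsg.IrrCharacter K}

/-- An invariant character with a normal Sylow subgroup modulo it. -/
structure Data (p : ℕ) (K T S : Subgroup G) (θ : Cfsg.IrrCharacter K) : Prop where
  KT : K ≤ T
  ST : S ≤ T
  inv : T ≤ stab K (θ : K → ℂ)
  nor : T ≤ Subgroup.normalizer ((K ⊔ S : Subgroup G) : Set G)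
  pgrp : IsPGroup p S
  idx : ¬ p ∣ S.index
  deg : ¬ p ∣ Cfsg.charDegree (θ : K → ℂ)

omit [Fintype G] hp in
theorem comm_le_sup : K ⊔ ⁅S, S⁆ ≤ K ⊔ S := sup_le_sup_left (Subgroup.commutator_le.mpr
  fun _ ha _ hb => S.mul_mem (S.mul_mem (S.mul_mem ha hb) (S.inv_mem ha)) (S.inv_mem hb)) K

omit hp in
theorem Data.sn (h : Data p K T S θ) : S ≤ Subgroup.normalizer (K : Set G) := fun _ hs =>
  (h.inv (h.ST hs)).1

omit hp in
theorem Data.leA (h : Data p K T S θ) : K ⊔ S ≤ T := sup_le h.KT h.ST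

theorem Data.above (h : Data p K T S θ) (χ : Above p h.KT θ) :
    ∃ η : Cfsg.IrrCharacter (K ⊔ S : Subgroup G), m h.leA χ.1 η ≠ 0 ∧
      ∀ k : K, (η : (K ⊔ S : Subgroup G) → ℂ) (Subgroup.inclusion le_sup_left k) = (θ : K → ℂ) k := by
  obtain ⟨χ, hd, hm⟩ := χ
  have e : m h.KT χ θ = ∑ γ : Cfsg.IrrCharacter (K ⊔ S : Subgroup G),
      m h.leA χ γ * m le_sup_left γ θ :=
    Glauberman.mult_comp (Subgroup.inclusion h.leA)
      (Subgroup.inclusion (le_sup_left : K ≤ K ⊔ S)) _ (fun _ => rfl) χ θ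
  rw [e] at hm
  obtain ⟨η, -, hne⟩ := Finset.exists_ne_zero_of_sum_ne_zero hm
  obtain ⟨h1, h2⟩ := mul_ne_zero_iff.mp hne
  obtain ⟨t, ht⟩ := clifford_deg h.leA h.nor χ η h1
  have hη : ¬ p ∣ Cfsg.charDegree (η : (K ⊔ S : Subgroup G) → ℂ) := fun h0 =>
    hd (ht ▸ dvd_mul_of_dvd_right h0 _)
  have hA : K ⊔ S ≤ stab K (θ : K → ℂ) := h.leA.trans h.inv
  refine ⟨η, h1, PExt.ext_of h.pgrp h.sn hA η fun h0 => hη ?_⟩
  rw [(PExt.m_dvd_index le_sup_left hA η h2).1]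
  exact dvd_mul_of_dvd_left h0 _

theorem Data.empty (h : Data p K T S θ) (hne : ¬ Extends θ (K ⊔ S)) : cnt p h.KT θ = 0 := by
  haveI : IsEmpty (Above p h.KT θ) := ⟨fun χ => hne (by
    obtain ⟨η, -, hη⟩ := h.above χ
    exact ⟨le_sup_left, η, hη⟩)⟩
  exact Nat.card_of_isEmpty

omit hp in
theorem Data.nor₁ (h : Data p K T S θ) :
    T ≤ Subgroup.normalizer ((K ⊔ ⁅S, S⁆ : Subgroup G) : Set G) := fun g hg => by
  refine Subgroup.mem_normalizer_fintype fun z hz => ?_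
  have hle : K ⊔ ⁅S, S⁆ ≤ (K ⊔ ⁅S, S⁆).comap (MulAut.conj g).toMonoidHom := by
    refine sup_le (fun k hk => Subgroup.mem_sup_left
      ((Subgroup.mem_normalizer_iff.mp (h.inv hg).1 k).mp hk)) (Subgroup.commutator_le.mpr fun a ha b hb => ?_)
    refine PExt.commutator_sup_le h.sn ?_
    have hc : ∀ s ∈ S, g * s * g⁻¹ ∈ K ⊔ S := fun s hs =>
      (Subgroup.mem_normalizer_iff.mp (h.nor hg) s).mp (Subgroup.mem_sup_right hs)
    have := Subgroup.commutator_mem_commutator (hc a ha) (hc b hb)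
    simpa [commutatorElement_def, mul_assoc] using this
  simpa using hle hz

omit hp in
theorem Data.stab₁ (h : Data p K T S θ) (η : Cfsg.IrrCharacter (K ⊔ S : Subgroup G))
    (hη : ∀ k : K, (η : (K ⊔ S : Subgroup G) → ℂ) (Subgroup.inclusion le_sup_left k) = (θ : K → ℂ) k)
    (θ₁ : Cfsg.IrrCharacter (K ⊔ ⁅S, S⁆ : Subgroup G))
    (hθ₁ : ∀ y : (K ⊔ ⁅S, S⁆ : Subgroup G), (θ₁ : (K ⊔ ⁅S, S⁆ : Subgroup G) → ℂ) y =
      (η : (K ⊔ S : Subgroup G) → ℂ) (Subgroup.inclusion comm_le_sup y)) :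
    T ≤ stab (K ⊔ ⁅S, S⁆) (θ₁ : (K ⊔ ⁅S, S⁆ : Subgroup G) → ℂ) := by
  intro g hg
  refine ⟨h.nor₁ hg, fun x y hy => ?_⟩
  have hconj : ∀ k : K, (conjI (h.nor hg) η : (K ⊔ S : Subgroup G) → ℂ)
      (Subgroup.inclusion le_sup_left k) = (θ : K → ℂ) k := fun k => by
    rw [conjI_apply, show conjE (h.nor hg) (Subgroup.inclusion le_sup_left k) =
      Subgroup.inclusion le_sup_left (conjE (h.inv hg).1 k) from Subtype.ext rfl, hη]
    exact (invAt_iff (h.inv hg).1 _).mp (h.inv hg).2 k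
  have := PExt.ext_agree h.sn η (conjI (h.nor hg) η) hη hconj (Subgroup.inclusion comm_le_sup x) x.2
  rw [conjI_apply] at this
  rw [hθ₁, hθ₁, ← this]
  exact congrArg _ (Subtype.ext hy)

theorem Data.count (h : Data p K T S θ) (η : Cfsg.IrrCharacter (K ⊔ S : Subgroup G))
    (hη : ∀ k : K, (η : (K ⊔ S : Subgroup G) → ℂ) (Subgroup.inclusion le_sup_left k) = (θ : K → ℂ) k)
    (θ₁ : Cfsg.IrrCharacter (K ⊔ ⁅S, S⁆ : Subgroup G))
    (hθ₁ : ∀ y : (K ⊔ ⁅S, S⁆ : Subgroup G), (θ₁ : (K ⊔ ⁅S, S⁆ : Subgroup G) → ℂ) y =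
      (η : (K ⊔ S : Subgroup G) → ℂ) (Subgroup.inclusion comm_le_sup y)) :
    cnt p h.KT θ = cntOver (comm_le_sup.trans h.leA) θ₁ := by
  have hres : ∀ k : K, (θ₁ : (K ⊔ ⁅S, S⁆ : Subgroup G) → ℂ) (Subgroup.inclusion le_sup_left k) =
      (θ : K → ℂ) k := fun k => by
    rw [hθ₁, ← hη]; rfl
  have hA : K ⊔ S ≤ stab (K ⊔ ⁅S, S⁆) (θ₁ : (K ⊔ ⁅S, S⁆ : Subgroup G) → ℂ) :=
    h.leA.trans (h.stab₁ η hη θ₁ hθ₁)
  refine Nat.card_congr (Equiv.subtypeEquivRight fun χ => ⟨fun hχ => ?_, fun hm => ?_⟩)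
  · obtain ⟨η', hm', hη'⟩ := h.above ⟨χ, hχ⟩
    refine over_trans comm_le_sup h.leA hm' ?_
    rw [PExt.m_eq_one comm_le_sup (θ := θ₁) η' fun y => ?_]
    · exact one_ne_zero
    · rw [hθ₁]
      exact PExt.ext_agree h.sn η η' hη hη' (Subgroup.inclusion comm_le_sup y) y.2
  · refine ⟨fun hd => ?_, over_trans (le_sup_left : K ≤ K ⊔ ⁅S, S⁆) (comm_le_sup.trans h.leA) hm
      (by rw [PExt.m_eq_one le_sup_left θ₁ hres]; exact one_ne_zero)⟩
    have e : m (comm_le_sup.trans h.leA) χ θ₁ = ∑ γ : Cfsg.IrrCharacter (K ⊔ S : Subgroup G),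
        m h.leA χ γ * m comm_le_sup γ θ₁ :=
      Glauberman.mult_comp (Subgroup.inclusion h.leA)
        (Subgroup.inclusion (comm_le_sup : K ⊔ ⁅S, S⁆ ≤ K ⊔ S)) _ (fun _ => rfl) χ θ₁
    rw [e] at hm
    obtain ⟨η', -, hne⟩ := Finset.exists_ne_zero_of_sum_ne_zero hm
    obtain ⟨h1, h2⟩ := mul_ne_zero_iff.mp hne
    obtain ⟨l, -, hl⟩ := exists_twist (comm_le_sup : K ⊔ ⁅S, S⁆ ≤ K ⊔ S) (fun g hg => (hA hg).1)
      (fun x hx y hy => PExt.commutator_sup_le h.sn (Subgroup.commutator_mem_commutator hx hy))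
      η η' θ₁ (fun y => (hθ₁ y).symm) h2
    have hdeg : Cfsg.charDegree (η' : (K ⊔ S : Subgroup G) → ℂ) = Cfsg.charDegree (θ : K → ℂ) := by
      rw [← Nat.cast_inj (R := ℂ), ← coe_charDegree, ← coe_charDegree, hl, Basic.twist_apply, map_one,
        Units.val_one, one_mul, ← map_one (Subgroup.inclusion (le_sup_left : K ≤ K ⊔ S)), hη]
    haveI : ((K ⊔ S).subgroupOf T).Normal :=
      (Subgroup.normal_subgroupOf_iff_le_normalizer h.leA).mpr h.nor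
    obtain ⟨e, he, hdvd⟩ := BlocksChars5.Restrict.ratio_dvd_nat ((K ⊔ S).subgroupOf T) χ
      (liftI h.leA η') (by rw [inner_liftI]; exact_mod_cast h1)
    have e1 : Cfsg.charDegree (liftI h.leA η' : (K ⊔ S).subgroupOf T → ℂ) =
        Cfsg.charDegree (η' : (K ⊔ S : Subgroup G) → ℂ) := by
      simp only [Cfsg.charDegree]
      exact congrArg _ (congrArg Complex.re (congrArg (η' : (K ⊔ S : Subgroup G) → ℂ) (map_one _)))
    rw [he, e1, hdeg] at hd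
    rcases hp.out.dvd_mul.mp hd with h0 | h0
    · exact h.idx ((h0.trans hdvd).trans (PExt.index_sup_dvd le_sup_right h.leA))
    · exact h.deg h0

end Cfsg.Agent.Lib.RelMcKay.Reduce
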