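import Cfsg.Agent.Lib.RelMcKay.TwoGen
import Cfsg.Agent.Lib.RelMcKay.Reduce

/-!
# The count over an invariant character and over its correspondent
-/

set_option autoImplicit false

namespace Cfsg.Agent.Lib.RelMcKay.Core

open scoped ComplexConjugate Classical
open Cfsg.Agent.Lib.Characters Cfsg.Agent.Lib.Characters.Basic Cfsg.Agent.Lib.Induced.Basic
open Cfsg.Agent.Lib.RelMcKay.Rel Cfsg.Agent.Lib.RelMcKay.Count Cfsg.Agent.Lib.RelMcKay.Corr
open Cfsg.Agent.Lib.RelMcKay.Reduce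
open Cfsg.Agent.Lib.RelMcKay.Pairs (liftI)
open Cfsg.Agent.Lib.RelMcKay.Extend (Extends)

universe u

variable {G : Type u} [Group G] [Fintype G] {p : ℕ} [hp : Fact p.Prime]

omit [Fintype G] in
theorem sup_inf {L K S : Subgroup G} [hLn : L.Normal] (hL : L ≤ K) (hidx : ¬ p ∣ L.relIndex K)
    (hS : IsPGroup p S) {z : G} (hz : z ∈ S ⊔ L) (hzK : z ∈ K) : z ∈ L := by
  obtain ⟨s, hs, l, hl, rfl⟩ := Subgroup.mem_sup_of_normal_right.mp hz
  have hsK : s ∈ K := by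
    have := K.mul_mem hzK (K.inv_mem (hL hl))
    rwa [mul_inv_cancel_right] at this
  haveI : (L.subgroupOf K).Normal := hLn.subgroupOf K
  obtain ⟨e, he⟩ := hS ⟨s, hs⟩
  have h1 : s ∈ L := PExt.mem_of_coprime_pow (a := p ^ e) (b := L.relIndex K)
    (Nat.Coprime.pow_left e ((Nat.Prime.coprime_iff_not_dvd hp.out).mpr hidx))
    ((show s ^ p ^ e = 1 from congrArg Subtype.val he) ▸ L.one_mem)
    (Subgroup.mem_subgroupOf.mp (Subgroup.pow_index_mem (L.subgroupOf K) ⟨s, hsK⟩))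
  exact L.mul_mem h1 hl

/-- Extendibility to the Sylow part agrees. -/
theorem ext_iff {L K S : Subgroup G} [L.Normal] (hL : L ≤ K) (hidx : ¬ p ∣ L.relIndex K)
    (hS : IsPGroup p S) (hn : S ≤ Subgroup.normalizer (K : Set G)) {θ : Cfsg.IrrCharacter K}
    (hθ : InvBy S K (θ : K → ℂ)) {β : Cfsg.IrrCharacter (fixC L K S)}
    (hβ : InvBy S _ (β : fixC L K S → ℂ)) (hm : ¬ p ∣ m (fixC_le L K S) θ β) :
    Extends θ (K ⊔ S) ↔ Extends β (fixC L K S ⊔ S) := by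
  have hnC : S ≤ Subgroup.normalizer (fixC L K S : Set G) := le_normalizer_fixC hL hn
  have hA : K ⊔ S ≤ stab K (θ : K → ℂ) :=
    sup_le (le_stab (isClassFunction_irr θ)) fun s hs => ⟨hn hs, hθ s hs⟩
  have hB : fixC L K S ⊔ S ≤ stab (fixC L K S) (β : fixC L K S → ℂ) :=
    sup_le (le_stab (isClassFunction_irr β)) fun s hs => ⟨hnC hs, hβ s hs⟩
  have hBA : fixC L K S ⊔ S ≤ K ⊔ S := sup_le_sup_right (fixC_le L K S) S
  constructor
  · rintro ⟨_, η, hη⟩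
    have e : m ((fixC_le L K S).trans (le_sup_left : K ≤ K ⊔ S)) η β =
        ∑ ξ : Cfsg.IrrCharacter (fixC L K S ⊔ S : Subgroup G), m hBA η ξ * m le_sup_left ξ β :=
      Glauberman.mult_comp (Subgroup.inclusion hBA)
        (Subgroup.inclusion (le_sup_left : fixC L K S ≤ fixC L K S ⊔ S)) _ (fun _ => rfl) η β
    rw [PExt.m_of_restrict (fixC_le L K S) (le_sup_left : K ≤ K ⊔ S) η hη] at e
    obtain ⟨ξ, hξ⟩ : ∃ ξ : Cfsg.IrrCharacter (fixC L K S ⊔ S : Subgroup G),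
        ¬ p ∣ m le_sup_left ξ β := by
      by_contra hcon
      push Not at hcon
      exact hm (e ▸ Finset.dvd_sum fun ξ _ => dvd_mul_of_dvd_right (hcon ξ) _)
    exact ⟨le_sup_left, ξ, PExt.ext_of hS hnC hB ξ hξ⟩
  · rintro ⟨_, ξ, hξ⟩
    obtain ⟨B, hBdef⟩ : ∃ B, (fixC L K S ⊔ S).subgroupOf (K ⊔ S) = B := ⟨_, rfl⟩
    haveI : (K.subgroupOf (K ⊔ S)).Normal :=
      (Subgroup.normal_subgroupOf_iff_le_normalizer le_sup_left).mpr fun g hg => (hA hg).1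
    let eB : B ≃* (fixC L K S ⊔ S : Subgroup G) :=
      (MulEquiv.subgroupCongr hBdef.symm).trans (Subgroup.subgroupOfEquivOfLe hBA)
    let ξ' : Cfsg.IrrCharacter B := ⟨(ξ : (fixC L K S ⊔ S : Subgroup G) → ℂ) ∘ eB,
      isIrrCharacter_comp eB.toMonoidHom eB.surjective ξ.2⟩
    have hmem : ∀ n : K.subgroupOf (K ⊔ S),
        (n : (K ⊔ S : Subgroup G)) ∈ B ↔ ((n : (K ⊔ S : Subgroup G)) : G) ∈ fixC L K S := by
      intro n
      rw [← hBdef, Subgroup.mem_subgroupOf]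
      refine ⟨fun h => ?_, fun h => Subgroup.mem_sup_left h⟩
      obtain ⟨c, hc, s, hs, he⟩ := PExt.exists_mul_of_mem_sup hnC h
      have hsK : s ∈ K := by
        have := K.mul_mem (K.inv_mem (fixC_le L K S hc)) (Subgroup.mem_subgroupOf.mp n.2)
        rwa [he, inv_mul_cancel_left] at this
      exact he ▸ mul_mem hc (le_fixC hL (sup_inf hL hidx hS (Subgroup.mem_sup_left hs) hsK))
    refine (PExt.ext_up (p := p) (K.subgroupOf (K ⊔ S)) B (liftI le_sup_left θ)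
      (fun x => funext fun n => by
        rw [Clifford.Basic.conjC_apply]
        exact (hA x.2).2 _ _ rfl)
      ξ' (Nat.card (fixC L K S)) (m (fixC_le L K S) θ β) hm ?_ ?_).elim fun η hη => ?_
    · have hcB : Nat.card B = Nat.card (fixC L K S ⊔ S : Subgroup G) := Nat.card_congr eB.toEquiv
      have hcK : Nat.card (K.subgroupOf (K ⊔ S)) = Nat.card K :=
        Nat.card_congr (Subgroup.subgroupOfEquivOfLe le_sup_left).toEquiv
      have hr : (fixC L K S).relIndex (fixC L K S ⊔ S) = K.relIndex (K ⊔ S) := by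
        have htop : B ⊔ K.subgroupOf (K ⊔ S) = ⊤ := by
          rw [eq_top_iff]
          intro x _
          obtain ⟨k, hk, s, hs, he⟩ := PExt.exists_mul_of_mem_sup hn x.2
          rw [show x = ⟨k, Subgroup.mem_sup_left hk⟩ * ⟨s, Subgroup.mem_sup_right hs⟩ from Subtype.ext he]
          refine mul_mem (Subgroup.mem_sup_right (Subgroup.mem_subgroupOf.mpr hk)) (Subgroup.mem_sup_left ?_)
          rw [← hBdef, Subgroup.mem_subgroupOf]
          exact Subgroup.mem_sup_right hs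
        have h1 : (K.subgroupOf (K ⊔ S)).relIndex B = K.relIndex (K ⊔ S) := by
          rw [← Subgroup.relIndex_sup_right, htop, Subgroup.relIndex_top_right]
          rfl
        rw [← h1, ← Subgroup.inf_relIndex_right (K.subgroupOf (K ⊔ S)) B, ← Subgroup.relIndex_map_map_of_injective
          (f := (K ⊔ S : Subgroup G).subtype) _ _ (Subgroup.subtype_injective _)]
        congr 1
        · apply le_antisymm
          · intro c hc
            refine ⟨⟨c, Subgroup.mem_sup_left (fixC_le L K S hc)⟩, Subgroup.mem_inf.mpr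
              ⟨Subgroup.mem_subgroupOf.mpr (fixC_le L K S hc), ?_⟩, rfl⟩
            rw [← hBdef, Subgroup.mem_subgroupOf]
            exact Subgroup.mem_sup_left hc
          · rintro _ ⟨x, hx, rfl⟩
            obtain ⟨h1, h2⟩ := Subgroup.mem_inf.mp hx
            exact (hmem ⟨x, h1⟩).mp h2
        · rw [← hBdef, Subgroup.map_subgroupOf_eq_of_le hBA]
      have h1 := Subgroup.relIndex_mul_relIndex (⊥ : Subgroup G) _ _ bot_le
        (le_sup_left : fixC L K S ≤ fixC L K S ⊔ S)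
      have h2 := Subgroup.relIndex_mul_relIndex (⊥ : Subgroup G) _ _ bot_le (le_sup_left : K ≤ K ⊔ S)
      simp only [Subgroup.relIndex_bot_left] at h1 h2
      rw [hcB, hcK, ← h1, ← h2, hr]
      push_cast
      ring
    · have hcoe : (Nat.card (fixC L K S) : ℂ) * (m (fixC_le L K S) θ β : ℂ) =
          ∑ x : fixC L K S, (β : fixC L K S → ℂ) x *
            conj ((θ : K → ℂ) (Subgroup.inclusion (fixC_le L K S) x)) := by
        have h0 := congrArg conj (coe_m (fixC_le L K S) θ β)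
        rw [classInner_conj_symm, map_natCast] at h0
        rw [← h0, Cfsg.classInner, ← mul_assoc, mul_inv_cancel₀ (subgroup_card_ne_zero _), one_mul]
      rw [hcoe]
      let emb : fixC L K S → K.subgroupOf (K ⊔ S) := fun c =>
        ⟨⟨c, Subgroup.mem_sup_left (fixC_le L K S c.2)⟩, fixC_le L K S c.2⟩
      have hsplit := Finset.sum_subset (s₁ := Finset.univ.image emb) (Finset.subset_univ _)
        (f := fun n : K.subgroupOf (K ⊔ S) => Cfsg.extendByZero B (ξ' : B → ℂ) n *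
          conj ((liftI (H := K ⊔ S) le_sup_left θ : K.subgroupOf (K ⊔ S) → ℂ) n)) (fun n _ hn' => by
            rw [extendByZero_of_not_mem B _ fun h => hn' (Finset.mem_image.mpr
              ⟨⟨_, (hmem n).mp h⟩, Finset.mem_univ _, rfl⟩), zero_mul])
      rw [← hsplit, Finset.sum_image fun a _ b _ h => Subtype.ext
        (congrArg (fun z : K.subgroupOf (K ⊔ S) => ((z : (K ⊔ S : Subgroup G)) : G)) h)]
      refine Finset.sum_congr rfl fun c _ => ?_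
      rw [extendByZero_of_mem B _ ((hmem (emb c)).mpr c.2)]
      show (ξ : (fixC L K S ⊔ S : Subgroup G) → ℂ) (eB _) * _ = _
      congr 1
      · rw [← hξ c]
        exact congrArg _ (Subtype.ext rfl)
    · refine ⟨le_sup_left, η, PExt.ext_of hS hn hA η ?_⟩
      have e : Glauberman.mult (K.subgroupOf (K ⊔ S)).subtype η (liftI le_sup_left θ) =
          m le_sup_left η θ := by
        rw [← Nat.cast_inj (R := ℂ), ← Glauberman.coe_mult]
        exact inner_liftI le_sup_left θ η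
      rwa [e] at hη

/-- The counts agree. -/
theorem core {L K T S : Subgroup G} [L.Normal] (hL : L ≤ K) (hidx : ¬ p ∣ L.relIndex K)
    {θ : Cfsg.IrrCharacter K} (h : Data p K T S θ) {β : Cfsg.IrrCharacter (fixC L K S)}
    (hβ : InvBy S _ (β : fixC L K S → ℂ)) (hdβ : ¬ p ∣ Cfsg.charDegree (β : fixC L K S → ℂ))
    (hm : ¬ p ∣ m (fixC_le L K S) θ β)
    (hU : fixC L K S ≤ T ⊓ Subgroup.normalizer ((S ⊔ L : Subgroup G) : Set G)) :
    cnt p h.KT θ = cnt p hU β := by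
  obtain ⟨U, hUdef⟩ : ∃ U, T ⊓ Subgroup.normalizer ((S ⊔ L : Subgroup G) : Set G) = U := ⟨_, rfl⟩
  revert hU
  rw [hUdef]
  intro hU
  have hUT : U ≤ T := hUdef ▸ inf_le_left
  have hUN : U ≤ Subgroup.normalizer ((S ⊔ L : Subgroup G) : Set G) := hUdef ▸ inf_le_right
  have hS := h.pgrp
  have hn := h.sn
  have hθ : InvBy S K (θ : K → ℂ) := fun s hs => (h.inv (h.ST hs)).2
  have hSU : S ≤ U := hUdef ▸ le_inf h.ST (le_sup_left.trans Subgroup.le_normalizer)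
  have hUK : U ≤ Subgroup.normalizer (K : Set G) := fun g hg => (h.inv (hUT hg)).1
  have hUS : ∀ g ∈ U, ∀ s ∈ S, g * s * g⁻¹ ∈ S ⊔ L ∧ g⁻¹ * s * g ∈ S ⊔ L := fun g hg s hs =>
    ⟨(Subgroup.mem_normalizer_iff.mp (hUN hg) s).mp (Subgroup.mem_sup_left hs),
      (Subgroup.mem_normalizer_iff''.mp (hUN hg) s).mp (Subgroup.mem_sup_left hs)⟩
  have hUC : U ≤ Subgroup.normalizer (fixC L K S : Set G) := fun g hg =>
    mem_normalizer_fixC hL (hUK hg) fun s hs => (hUS g hg s hs).2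
  have hUinv : U ≤ stab (fixC L K S) (β : fixC L K S → ℂ) := fun g hg => ⟨hUC hg,
    (conj_corr hL hidx hS hn (hUK hg) (hUC hg) (fun s hs => (hUS g hg s hs).1) hθ h.deg hβ hm).mp
      (h.inv (hUT hg)).2⟩
  have hLC : L ≤ fixC L K S := le_fixC hL
  have hSLC : fixC L K S ⊔ S = fixC L K S ⊔ (S ⊔ L) := le_antisymm
    (sup_le_sup_left le_sup_left _)
    (sup_le le_sup_left (sup_le le_sup_right (hLC.trans le_sup_left)))
  have hC : Data p (fixC L K S) U S β :=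
    { KT := hU
      ST := hSU
      inv := hUinv
      nor := fun g hg => Subgroup.mem_normalizer_fintype fun z hz => by
        rw [SetLike.mem_coe, hSLC] at hz ⊢
        have hle : fixC L K S ⊔ (S ⊔ L) ≤
            (fixC L K S ⊔ (S ⊔ L)).comap (MulAut.conj g).toMonoidHom :=
          sup_le (fun c hc => Subgroup.mem_sup_left ((Subgroup.mem_normalizer_iff.mp (hUC hg) c).mp hc))
            fun c hc => Subgroup.mem_sup_right ((Subgroup.mem_normalizer_iff.mp (hUN hg) c).mp hc)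
        simpa using hle hz
      pgrp := hS
      idx := h.idx
      deg := hdβ }
  have hiff := ext_iff hL hidx hS hn hθ hβ hm
  by_cases hext : Extends θ (K ⊔ S)
  swap
  · rw [h.empty hext, hC.empty fun hx => hext (hiff.mpr hx)]
  obtain ⟨_, η, hη⟩ := hext
  obtain ⟨_, ξ, hξ⟩ := hiff.mp ⟨le_sup_left, η, hη⟩
  obtain ⟨θ₁, hθ₁, hθ₁η⟩ := Extend.exists_restrict (le_sup_left : K ≤ K ⊔ ⁅S, S⁆) comm_le_sup η hη
  obtain ⟨β₁, hβ₁, hβ₁ξ⟩ :=
    Extend.exists_restrict (le_sup_left : fixC L K S ≤ fixC L K S ⊔ ⁅S, S⁆) comm_le_sup ξ hξ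
  rw [h.count η hη θ₁ hθ₁η, hC.count ξ hξ β₁ hβ₁ξ]
  have hT₁ := h.stab₁ η hη θ₁ hθ₁η
  have hU₁ := hC.stab₁ ξ hξ β₁ hβ₁ξ
  have hcomm : ⁅S, S⁆ ≤ S := Subgroup.commutator_le.mpr
    fun _ ha _ hb => S.mul_mem (S.mul_mem (S.mul_mem ha hb) (S.inv_mem ha)) (S.inv_mem hb)
  have hKU : ∀ z ∈ K, z ∈ U → z ∈ fixC L K S := by
    intro z hzK hzU
    refine mem_fixC.mpr ⟨hzK, fun s hs => sup_inf hL hidx hS ?_ ?_⟩
    · rw [mul_assoc (s * z), mul_assoc s, ← mul_assoc z]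
      exact mul_mem (Subgroup.mem_sup_left hs) ((hUS z hzU _ (S.inv_mem hs)).1)
    · exact K.mul_mem ((Subgroup.mem_normalizer_iff.mp (hn hs) z).mp hzK) (K.inv_mem hzK)
  refine Pairs.cntOver_eq (comm_le_sup.trans h.leA) (comm_le_sup.trans hC.leA) hUT ?_ ?_ θ₁ β₁ hT₁ hU₁ ?_
  · refine le_antisymm (le_inf (sup_le_sup_right (fixC_le L K S) _) (comm_le_sup.trans hC.leA)) ?_
    rintro z ⟨hz, hzU⟩
    obtain ⟨k, hk, d, hd, rfl⟩ := PExt.exists_mul_of_mem_sup (hcomm.trans hn) hz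
    have hkU : k ∈ U := by
      have := U.mul_mem hzU (U.inv_mem (hSU (hcomm hd)))
      rwa [mul_inv_cancel_right] at this
    exact mul_mem (Subgroup.mem_sup_left (hKU k hk hkU)) (Subgroup.mem_sup_right hd)
  · intro x hx
    obtain ⟨a, ha, hN⟩ := PExt.frattini hS h.idx (le_sup_right : S ≤ K ⊔ S) (h.nor hx)
    obtain ⟨k, hk, s, hs, he⟩ := PExt.exists_mul_of_mem_sup hn (inv_mem ha)
    refine ⟨k, Subgroup.mem_sup_left hk, s * (a * x), mul_mem (hSU hs) ?_, ?_⟩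
    · rw [← hUdef]
      refine Subgroup.mem_inf.mpr ⟨T.mul_mem (h.leA ha) hx, ?_⟩
      refine Subgroup.mem_normalizer_fintype fun z hz => ?_
      obtain ⟨t, ht, l, hl, rfl⟩ := Subgroup.mem_sup_of_normal_right.mp hz
      have e : a * x * (t * l) * (a * x)⁻¹ =
          (a * x * t * (a * x)⁻¹) * (a * x * l * (a * x)⁻¹) := by simp [mul_assoc]
      rw [SetLike.mem_coe, e]
      exact mul_mem (Subgroup.mem_sup_left ((Subgroup.mem_normalizer_iff.mp hN t).mp ht))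
        (Subgroup.mem_sup_right (Subgroup.Normal.conj_mem inferInstance l hl _))
    · rw [← mul_assoc, ← he, inv_mul_cancel_left]
  intro x hx y hy hc
  obtain ⟨x₁, x₂, ex, rx, hx₁, hx₂, hxx, hrx, hx₁p, hx₂r⟩ := PExt.exists_parts (p := p) x
  obtain ⟨y₁, y₂, ey, ry, hy₁, hy₂, hyy, hry, hy₁p, hy₂r⟩ := PExt.exists_parts (p := p) y
  have hzU : ∀ {w z : G}, w ∈ U → z ∈ Subgroup.zpowers w → z ∈ U := fun hw hz =>
    Subgroup.zpowers_le.mpr hw hz
  have hr : ¬ p ∣ rx * ry := hp.out.not_dvd_mul hrx hry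
  have hcop : (p ^ (ex + ey)).Coprime (rx * ry) :=
    Nat.Coprime.pow_left _ ((Nat.Prime.coprime_iff_not_dvd hp.out).mpr hr)
  have q1 : x₁ ^ p ^ (ex + ey) = 1 := by rw [pow_add, pow_mul, hx₁p, one_pow]
  have q2 : y₁ ^ p ^ (ex + ey) = 1 := by rw [pow_add, mul_comm, pow_mul, hy₁p, one_pow]
  have q3 : x₂ ^ (rx * ry) = 1 := by rw [pow_mul, hx₂r, one_pow]
  have q4 : y₂ ^ (rx * ry) = 1 := by rw [mul_comm, pow_mul, hy₂r, one_pow]
  have hxK : ∀ {w : G}, w ∈ U → w ^ p ^ (ex + ey) = 1 → w ∈ K ⊔ S := fun hw he =>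
    PExt.mem_of_pow_prime le_sup_right h.leA h.nor h.idx (hUT hw) he
  have hxC : ∀ {w : G}, w ∈ U → w ^ p ^ (ex + ey) = 1 → w ∈ fixC L K S ⊔ S := fun hw he =>
    PExt.mem_of_pow_prime le_sup_right hC.leA hC.nor h.idx hw he
  have hcK : y * x * y⁻¹ * x⁻¹ ∈ K ⊔ ⁅S, S⁆ := sup_le_sup_right (fixC_le L K S) _ hc
  rw [Pairs.extends_split (hT₁ (hUT hx)) (hT₁ (hUT hy)) hcK hx₁ hx₂ hxx hy₁ hy₂ hyy hcop
      (q1 ▸ one_mem _) (q2 ▸ one_mem _) (q3 ▸ one_mem _) (q4 ▸ one_mem _)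
      (Extend.extends_mono (le_sup_left.trans le_sup_left) (sup_le (sup_le comm_le_sup
        (Subgroup.zpowers_le.mpr (hxK (hzU hx hx₁) q1))) (Subgroup.zpowers_le.mpr (hxK (hzU hy hy₁) q2)))
        ⟨comm_le_sup, η, fun k => (hθ₁η k).symm⟩),
    Pairs.extends_split (hU₁ hx) (hU₁ hy) hc hx₁ hx₂ hxx hy₁ hy₂ hyy hcop
      (q1 ▸ one_mem _) (q2 ▸ one_mem _) (q3 ▸ one_mem _) (q4 ▸ one_mem _)
      (Extend.extends_mono (le_sup_left.trans le_sup_left) (sup_le (sup_le comm_le_sup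
        (Subgroup.zpowers_le.mpr (hxC (hzU hx hx₁) q1))) (Subgroup.zpowers_le.mpr (hxC (hzU hy hy₁) q2)))
        ⟨comm_le_sup, ξ, fun k => (hβ₁ξ k).symm⟩)]
  -- the parts of order prime to `p`
  have hx₂U := hzU hx hx₂
  have hy₂U := hzU hy hy₂
  have hC₁n : U ≤ Subgroup.normalizer ((fixC L K S ⊔ ⁅S, S⁆ : Subgroup G) : Set G) := hC.nor₁
  have hc₂ := Pairs.comm_zpow (hC₁n hx) (hC₁n hy) hc hx₂ hy₂
  haveI : ((fixC L K S).subgroupOf U).Normal :=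
    (Subgroup.normal_subgroupOf_iff_le_normalizer hU).mpr hUC
  let π := QuotientGroup.mk' ((fixC L K S).subgroupOf U)
  have hπ : ∀ z : U, π z = 1 ↔ (z : G) ∈ fixC L K S := fun z => by
    rw [QuotientGroup.mk'_apply, QuotientGroup.eq_one_iff, Subgroup.mem_subgroupOf]
  have hC₁U : fixC L K S ⊔ ⁅S, S⁆ ≤ U := comm_le_sup.trans hC.leA
  obtain ⟨N, hN⟩ : ∃ N, ((fixC L K S ⊔ ⁅S, S⁆).subgroupOf U).map π = N := ⟨_, rfl⟩
  have hNp : IsPGroup p N := by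
    refine ((hS.comap_of_injective U.subtype U.subtype_injective).map π).to_le ?_
    rw [← hN]
    rintro _ ⟨z, hz, rfl⟩
    obtain ⟨c, hc', d, hd, he⟩ := PExt.exists_mul_of_mem_sup
      (hcomm.trans (hSU.trans hUC)) (Subgroup.mem_subgroupOf.mp hz)
    refine ⟨⟨d, hSU (hcomm hd)⟩, Subgroup.mem_subgroupOf.mpr (hcomm hd), ?_⟩
    rw [show z = ⟨c, hU hc'⟩ * ⟨d, hSU (hcomm hd)⟩ from Subtype.ext he, map_mul,
      (hπ ⟨c, hU hc'⟩).mpr hc', one_mul]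
  have hnorm : Subgroup.zpowers (π ⟨x₂, hx₂U⟩) ≤ Subgroup.normalizer (N : Set (U ⧸ (fixC L K S).subgroupOf U)) := by
    refine Subgroup.zpowers_le.mpr (Subgroup.mem_normalizer_fintype fun z hz => ?_)
    rw [SetLike.mem_coe, ← hN] at hz ⊢
    obtain ⟨w, hw, rfl⟩ := hz
    refine ⟨⟨x₂, hx₂U⟩ * w * (⟨x₂, hx₂U⟩ : U)⁻¹, Subgroup.mem_subgroupOf.mpr
      ((Subgroup.mem_normalizer_iff.mp (hC₁n hx₂U) _).mp (Subgroup.mem_subgroupOf.mp hw)), ?_⟩
    rw [map_mul, map_mul, map_inv]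
  have hcopN : (Nat.card (Subgroup.zpowers (π ⟨x₂, hx₂U⟩))).Coprime (Nat.card N) := by
    obtain ⟨f, hf⟩ := hNp.exists_card_eq
    rw [Nat.card_zpowers, hf]
    refine Nat.Coprime.pow_right f (Nat.Coprime.coprime_dvd_left (k := rx * ry) ?_
      ((Nat.Prime.coprime_iff_not_dvd hp.out).mpr hr).symm)
    refine orderOf_dvd_of_pow_eq_one ?_
    rw [← map_pow, hπ, Subgroup.coe_pow, q3]
    exact one_mem _
  have hk : ∀ a ∈ Subgroup.zpowers (π ⟨x₂, hx₂U⟩), a * π ⟨y₂, hy₂U⟩ * a⁻¹ * (π ⟨y₂, hy₂U⟩)⁻¹ ∈ N := by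
    rintro _ ⟨i, rfl⟩
    have h1 := Pairs.comm_zpow (hC₁n hx₂U) (hC₁n hy₂U) hc₂
      (Subgroup.zpow_mem_zpowers x₂ i) (Subgroup.mem_zpowers y₂)
    have h2 := inv_mem h1
    rw [← hN]
    refine ⟨⟨x₂, hx₂U⟩ ^ i * ⟨y₂, hy₂U⟩ * ((⟨x₂, hx₂U⟩ : U) ^ i)⁻¹ * (⟨y₂, hy₂U⟩ : U)⁻¹,
      Subgroup.mem_subgroupOf.mpr (by simpa [mul_assoc] using h2), ?_⟩
    simp only [map_mul, map_inv, map_zpow]
  obtain ⟨n₀, hn₀, hfix⟩ := Cfsg.Agent.Lib.Coprime.exists_fixed_mul hnorm hcopN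
    (Or.inl (Cfsg.Agent.Lib.Coprime.isSolvable_zpowers _)) hk
  obtain ⟨w, hw⟩ := QuotientGroup.mk'_surjective ((fixC L K S).subgroupOf U) (n₀ * π ⟨y₂, hy₂U⟩)
  obtain ⟨e', r', hr', hord⟩ : ∃ e' r', ¬ p ∣ r' ∧ orderOf (π w) = p ^ e' * r' :=
    Nat.exists_eq_pow_mul_and_not_dvd (orderOf_pos _).ne' p hp.out.one_lt.ne'
  obtain ⟨v, hv1, hv2⟩ := Nat.chineseRemainder (n := p ^ e') (m := rx * ry)
    (Nat.Coprime.pow_left _ ((Nat.Prime.coprime_iff_not_dvd hp.out).mpr hr)) 0 1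
  haveI : ((fixC L K S ⊔ ⁅S, S⁆).subgroupOf U).Normal :=
    (Subgroup.normal_subgroupOf_iff_le_normalizer hC₁U).mpr hC₁n
  let π₁ := QuotientGroup.mk' ((fixC L K S ⊔ ⁅S, S⁆).subgroupOf U)
  have hπ₁ : ∀ z : U, π₁ z = 1 ↔ (z : G) ∈ fixC L K S ⊔ ⁅S, S⁆ := fun z => by
    rw [QuotientGroup.mk'_apply, QuotientGroup.eq_one_iff, Subgroup.mem_subgroupOf]
  have hwy : π₁ w = π₁ ⟨y₂, hy₂U⟩ := by
    rw [← hN] at hn₀
    obtain ⟨n₁, hn₁, rfl⟩ := hn₀
    have h1 : π ((n₁ * ⟨y₂, hy₂U⟩)⁻¹ * w) = 1 := by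
      rw [map_mul, map_inv, map_mul, inv_mul_eq_one]
      exact hw.symm
    have h2 : π₁ ((n₁ * ⟨y₂, hy₂U⟩)⁻¹ * w) = 1 :=
      (hπ₁ _).mpr (Subgroup.mem_sup_left ((hπ _).mp h1))
    rw [map_mul, map_inv, map_mul, show π₁ n₁ = 1 from (hπ₁ _).mpr (Subgroup.mem_subgroupOf.mp hn₁),
      one_mul, inv_mul_eq_one] at h2
    exact h2.symm
  have hy' : (y₂)⁻¹ * ((w ^ v : U) : G) ∈ fixC L K S ⊔ ⁅S, S⁆ := by
    have h1 : π₁ ((⟨y₂, hy₂U⟩ : U)⁻¹ * w ^ v) = 1 := by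
      rw [map_mul, map_inv, map_pow, hwy, inv_mul_eq_one]
      have h2 : π₁ ⟨y₂, hy₂U⟩ ^ (rx * ry) = 1 := by
        rw [← map_pow, hπ₁, Subgroup.coe_pow, q4]
        exact one_mem _
      conv_lhs => rw [← pow_one (π₁ ⟨y₂, hy₂U⟩)]
      exact pow_eq_pow_iff_modEq.mpr (hv2.symm.of_dvd (orderOf_dvd_of_pow_eq_one h2))
    exact (hπ₁ _).mp h1
  have hw' : ((w ^ v : U) : G) ∈ U := (w ^ v).2
  have hpowC : ((w ^ v : U) : G) ^ (rx * ry * r') ∈ fixC L K S := by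
    obtain ⟨j, hj⟩ := (Nat.modEq_zero_iff_dvd).mp hv1
    have h1 : π ((w ^ v) ^ (rx * ry * r')) = 1 := by
      rw [← pow_mul, map_pow, ← orderOf_dvd_iff_pow_eq_one, hord, hj]
      exact ⟨j * (rx * ry), by ring⟩
    simpa using (hπ _).mp h1
  have hc' : ((w ^ v : U) : G) * x₂ * ((w ^ v : U) : G)⁻¹ * x₂⁻¹ ∈ fixC L K S := by
    have h0 : Commute (π w) (π ⟨x₂, hx₂U⟩) := by
      rw [show π w = n₀ * π ⟨y₂, hy₂U⟩ from hw]
      exact (Subgroup.mem_centralizer_iff.mp hfix _ (Subgroup.mem_zpowers _)).symm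
    have h1 : π (w ^ v * ⟨x₂, hx₂U⟩ * (w ^ v)⁻¹ * (⟨x₂, hx₂U⟩ : U)⁻¹) = 1 := by
      rw [map_mul, map_mul, map_mul, map_inv, map_inv, map_pow, (h0.pow_left v).eq, mul_inv_cancel_right,
        mul_inv_cancel]
    exact (hπ _).mp h1
  obtain ⟨y', hy'e⟩ : ∃ y', ((w ^ v : U) : G) = y' := ⟨_, rfl⟩
  rw [hy'e] at hy' hw' hpowC hc'
  have hC₁K₁ : fixC L K S ⊔ ⁅S, S⁆ ≤ K ⊔ ⁅S, S⁆ := sup_le_sup_right (fixC_le L K S) _
  rw [PExt.sup_congr (hC₁K₁.trans le_sup_left) hy', PExt.sup_congr le_sup_left hy',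
    Pairs.extends_lift le_sup_left hθ₁ (h.inv (hUT hx₂U)) (h.inv (hUT hw')) (hT₁ (hUT hx₂U))
      (hT₁ (hUT hw')) (fixC_le L K S hc'),
    Pairs.extends_lift le_sup_left hβ₁ (hUinv hx₂U) (hUinv hw') (hU₁ hx₂U) (hU₁ hw') hc']
  refine TwoGen.main _ K (fixC L K S) S rfl hL hidx hS hn rfl x₂ y'
    ⟨hUK hx₂U, hUK hw', hUN hx₂U, hUN hw', hc', rx * ry * r', hp.out.not_dvd_mul hr hr', ?_, hpowC⟩
    θ β hθ h.deg hβ hm (h.inv (hUT hx₂U)).2 (h.inv (hUT hw')).2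
  rw [pow_mul, q3, one_pow]
  exact one_mem _

end Cfsg.Agent.Lib.RelMcKay.Core
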