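import Cfsg.Agent.Lib.RelMcKay.StepUnique

/-!
# The relative Glauberman correspondence for a `p`-group

`S` is a `p`-subgroup normalising `K`, `L` a normal subgroup below `K` of index prime to `p` in `K`,
and `fixC L K S` is the preimage in `K` of the fixed points of `S` on `K / L`.  An `S`-invariant
character of `K` has exactly one `S`-invariant constituent on `fixC L K S` of multiplicity prime to
`p`.  No hypothesis is made on the order of `L`.
-/

set_option autoImplicit false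

namespace Cfsg.Agent.Lib.RelMcKay.Corr

open scoped ComplexConjugate Classical
open Cfsg.Agent.Lib.Characters Cfsg.Agent.Lib.Characters.Basic Cfsg.Agent.Lib.Induced.Basic
open Cfsg.Agent.Lib.RelMcKay.Rel

universe u

variable {G : Type u} [Group G]

/-- The elements of `K` fixed by `S` modulo `L`. -/
def fixC (L K S : Subgroup G) [L.Normal] : Subgroup G :=
  K ⊓ (Subgroup.centralizer ((QuotientGroup.mk' L) '' (S : Set G))).comap (QuotientGroup.mk' L)

theorem mem_fixC {L K S : Subgroup G} [L.Normal] {k : G} :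
    k ∈ fixC L K S ↔ k ∈ K ∧ ∀ s ∈ S, s * k * s⁻¹ * k⁻¹ ∈ L := by
  simp only [fixC, Subgroup.mem_inf, Subgroup.mem_comap, Subgroup.mem_centralizer_iff,
    Set.forall_mem_image, SetLike.mem_coe, Step.mk_comm, QuotientGroup.mk'_apply, commute_iff_eq]

theorem fixC_le (L K S : Subgroup G) [L.Normal] : fixC L K S ≤ K := inf_le_left

theorem le_fixC {L K S : Subgroup G} [L.Normal] (hL : L ≤ K) : L ≤ fixC L K S := fun l hl =>
  mem_fixC.mpr ⟨hL hl, fun s _ =>
    L.mul_mem (Subgroup.Normal.conj_mem inferInstance l hl s) (L.inv_mem hl)⟩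

theorem fixC_anti {L K S T : Subgroup G} [L.Normal] (h : T ≤ S) : fixC L K S ≤ fixC L K T :=
  fun _ hk => mem_fixC.mpr ⟨(mem_fixC.mp hk).1, fun s hs => (mem_fixC.mp hk).2 s (h hs)⟩

/-- An element normalising `K` and `S` modulo `L` normalises the fixed points. -/
theorem mem_normalizer_fixC [Finite G] {L K S : Subgroup G} [L.Normal] (hL : L ≤ K) {g : G}
    (hgK : g ∈ Subgroup.normalizer (K : Set G)) (hgS : ∀ s ∈ S, g⁻¹ * s * g ∈ S ⊔ L) :
    g ∈ Subgroup.normalizer (fixC L K S : Set G) := by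
  refine Subgroup.mem_normalizer_fintype fun k hk => ?_
  obtain ⟨hk, hks⟩ := mem_fixC.mp hk
  refine mem_fixC.mpr ⟨(Subgroup.mem_normalizer_iff.mp hgK k).mp hk, fun s hs => ?_⟩
  rw [Step.mk_comm]
  have h1 : ∀ t ∈ S ⊔ L, Commute (t : G ⧸ L) (k : G ⧸ L) := by
    have hle : S ⊔ L ≤ (Subgroup.centralizer {(k : G ⧸ L)}).comap (QuotientGroup.mk' L) := by
      refine sup_le (fun t ht => ?_) fun t ht => ?_ <;>
        rw [Subgroup.mem_comap, Subgroup.mem_centralizer_singleton_iff]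
      · exact ((Step.mk_comm L t k).mp (hks t ht)).eq
      · rw [QuotientGroup.mk'_apply, (QuotientGroup.eq_one_iff t).mpr ht, one_mul, mul_one]
    intro t ht
    exact Subgroup.mem_centralizer_singleton_iff.mp (hle ht)
  have h2 := h1 _ (hgS s hs)
  rw [commute_iff_eq] at h2 ⊢
  simp only [QuotientGroup.mk_mul, QuotientGroup.mk_inv] at h2 ⊢
  calc (s : G ⧸ L) * ((g : G ⧸ L) * k * (g : G ⧸ L)⁻¹)
      = (g : G ⧸ L) * (((g : G ⧸ L)⁻¹ * s * g) * k) * (g : G ⧸ L)⁻¹ := by simp [mul_assoc]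
    _ = _ := by rw [h2]; simp [mul_assoc]

variable [Fintype G] {p : ℕ} [hp : Fact p.Prime]

theorem le_normalizer_fixC {L K S : Subgroup G} [L.Normal] (hL : L ≤ K)
    (hn : S ≤ Subgroup.normalizer (K : Set G)) :
    S ≤ Subgroup.normalizer (fixC L K S : Set G) := fun g hg =>
  mem_normalizer_fixC hL (hn hg) fun _ hs =>
    Subgroup.mem_sup_left (S.mul_mem (S.mul_mem (S.inv_mem hg) hs) hg)

omit hp in
/-- Invariance is inherited by a conjugate. -/
theorem invBy_conjI {L H S : Subgroup G} [L.Normal] (hLH : L ≤ H)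
    (hSH : S ≤ Subgroup.normalizer (H : Set G)) {g : G}
    (hg : g ∈ Subgroup.normalizer (H : Set G)) (hgS : ∀ s ∈ S, g * s * g⁻¹ ∈ S ⊔ L)
    {β : Cfsg.IrrCharacter H} (hβ : InvBy S H (β : H → ℂ)) :
    InvBy S H (conjI hg β : H → ℂ) := by
  intro s hs x y hy
  have hle : S ⊔ L ≤ stab H (β : H → ℂ) := sup_le (fun t ht => ⟨hSH ht, hβ t ht⟩)
    (hLH.trans (le_stab (isClassFunction_irr β)))
  rw [conjI_apply, conjI_apply]
  exact (hle (hgS s hs)).2 _ _ (by simp [coe_conjE, hy, mul_assoc])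

theorem exists_normal_index_prime {S : Subgroup G} (hS : IsPGroup p S) (hne : S ≠ ⊥) :
    ∃ T : Subgroup G, ∃ x ∈ S, T ≤ S ∧ Nat.card T < Nat.card S ∧ x ^ p ∈ T ∧
      (∀ t ∈ T, x * t * x⁻¹ ∈ T) ∧ S ≤ T ⊔ Subgroup.zpowers x := by
  obtain ⟨n, hn⟩ := hS.exists_card_eq
  obtain ⟨n, rfl⟩ : ∃ k, n = k + 1 := by
    refine Nat.exists_eq_succ_of_ne_zero ?_
    rintro rfl
    exact hne (Subgroup.card_eq_one.mp (by simpa using hn))
  obtain ⟨T, hT⟩ := Sylow.exists_subgroup_card_pow_prime p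
    (show p ^ n ∣ Nat.card S from hn ▸ pow_dvd_pow p n.le_succ)
  have hidx : T.index = p := by
    have := T.card_mul_index
    rw [hT, hn, pow_succ] at this
    exact Nat.eq_of_mul_eq_mul_left (pow_pos hp.out.pos n) this
  haveI hTn : T.Normal := Subgroup.normal_of_index_eq_minFac_card (by
    rw [hidx, hn, Nat.pow_minFac n.succ_ne_zero, hp.out.minFac_eq])
  obtain ⟨x, hx⟩ : ∃ x : S, x ∉ T := by
    by_contra h
    push Not at h
    have : T = ⊤ := Subgroup.ext fun y => ⟨fun _ => Subgroup.mem_top y, fun _ => h y⟩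
    rw [this, Subgroup.index_top] at hidx
    exact hp.out.one_lt.ne hidx
  refine ⟨T.map S.subtype, x, x.2, Subgroup.map_subtype_le T, ?_, ⟨x ^ p, ?_, rfl⟩, ?_, ?_⟩
  · rw [Nat.card_congr (T.equivMapOfInjective _ S.subtype_injective).toEquiv.symm, hT, hn]
    exact pow_lt_pow_right₀ hp.out.one_lt n.lt_succ_self
  · have := Subgroup.pow_index_mem T x
    rwa [hidx] at this
  · rintro _ ⟨t, ht, rfl⟩
    exact ⟨x * t * x⁻¹, hTn.conj_mem t ht x, rfl⟩
  · intro s hs
    have htop : T ⊔ Subgroup.zpowers x = ⊤ := by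
      have hle : T ≤ T ⊔ Subgroup.zpowers x := le_sup_left
      have hdvd := Subgroup.index_dvd_of_le hle
      rw [hidx, Nat.dvd_prime hp.out] at hdvd
      rcases hdvd with h | h
      · exact Subgroup.index_eq_one.mp h
      · exfalso
        have hh := Subgroup.relIndex_mul_index hle
        rw [hidx, h] at hh
        exact hx (Subgroup.relIndex_eq_one.mp
          (Nat.eq_of_mul_eq_mul_right hp.out.pos (hh.trans (one_mul p).symm))
          (Subgroup.mem_sup_right (Subgroup.mem_zpowers x)))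
    have hmap : S ≤ (T ⊔ Subgroup.zpowers x).map S.subtype := by
      rw [htop]; exact fun s hs => ⟨⟨s, hs⟩, Subgroup.mem_top _, rfl⟩
    have := hmap hs
    rw [Subgroup.map_sup, MonoidHom.map_zpowers] at this
    exact this

variable {L K : Subgroup G} [hLn : L.Normal] (hL : L ≤ K) (hidx : ¬ p ∣ L.relIndex K)

include hL hidx in
theorem idx_fixC (S : Subgroup G) : ¬ p ∣ L.relIndex (fixC L K S) := fun hd => hidx (by
  rw [← Subgroup.relIndex_mul_relIndex L _ K (le_fixC hL) (fixC_le L K S)]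
  exact dvd_mul_of_dvd_left hd _)

include hL hidx in
/-- Uniqueness and injectivity, by induction on the order of the `p`-group. -/
theorem main : ∀ (n : ℕ) (S : Subgroup G), Nat.card S = n → IsPGroup p S →
    S ≤ Subgroup.normalizer (K : Set G) →
    (∀ (θ : Cfsg.IrrCharacter K) (β β' : Cfsg.IrrCharacter (fixC L K S)),
      InvBy S K (θ : K → ℂ) → ¬ p ∣ Cfsg.charDegree (θ : K → ℂ) →
      InvBy S (fixC L K S) (β : fixC L K S → ℂ) → InvBy S (fixC L K S) (β' : fixC L K S → ℂ) →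
      ¬ p ∣ m (fixC_le L K S) θ β → ¬ p ∣ m (fixC_le L K S) θ β' → β' = β) ∧
    (∀ (θ θ' : Cfsg.IrrCharacter K) (β : Cfsg.IrrCharacter (fixC L K S)),
      InvBy S K (θ : K → ℂ) → ¬ p ∣ Cfsg.charDegree (θ : K → ℂ) →
      InvBy S K (θ' : K → ℂ) → ¬ p ∣ Cfsg.charDegree (θ' : K → ℂ) →
      InvBy S (fixC L K S) (β : fixC L K S → ℂ) →
      ¬ p ∣ m (fixC_le L K S) θ β → ¬ p ∣ m (fixC_le L K S) θ' β → θ' = θ) := by
  intro n
  induction n using Nat.strong_induction_on with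
  | _ n ih =>
  intro S hcard hS hn
  rcases eq_or_ne S ⊥ with hbot | hne
  · have h0 : Step.Hyp p L K (fixC L K S) 1 :=
      { normal := hLn
        le := hL
        idx := hidx
        ord := ⟨0, by simp⟩
        norm := one_mem _
        fix := fun k => by
          rw [mem_fixC, hbot]
          exact and_congr_right fun _ => by simp
        pow := fun k _ => by simp }
    have hCK : fixC L K S = K := le_antisymm (fixC_le L K S) fun k hk =>
      mem_fixC.mpr ⟨hk, fun s hs => by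
        rw [hbot, Subgroup.mem_bot] at hs
        simp [hs]⟩
    exact ⟨fun θ β β' _ _ _ _ hm hm' => (Step.eq_of_m_top h0 hCK (θ' := θ) hm).1 hm',
      fun θ θ' β _ _ _ _ _ hm hm' => (Step.eq_of_m_top h0 hCK (β' := β) hm).2 hm'⟩
  obtain ⟨T, x, hxS, hTS, hlt, hxp, hxT, hgen⟩ := exists_normal_index_prime hS hne
  have hTp : IsPGroup p T := hS.to_le hTS
  have hTn : T ≤ Subgroup.normalizer (K : Set G) := hTS.trans hn
  obtain ⟨ihu, ihi⟩ := ih _ (hcard ▸ hlt) T rfl hTp hTn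
  set C₂ := fixC L K T with hC₂
  set C := fixC L K S with hC
  have hCC₂ : C ≤ C₂ := fixC_anti hTS
  have hxT' : ∀ s ∈ T, x⁻¹ * s * x ∈ T ⊔ L := fun s hs => Subgroup.mem_sup_left (by
    have hmem : x ∈ Subgroup.normalizer (T : Set G) := Subgroup.mem_normalizer_fintype hxT
    exact (Subgroup.mem_normalizer_iff''.mp hmem s).mp hs)
  have hxC₂ : x ∈ Subgroup.normalizer (C₂ : Set G) := mem_normalizer_fixC hL (hn hxS) hxT'
  have hSC₂ : S ≤ Subgroup.normalizer (C₂ : Set G) := hgen.trans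
    (sup_le (le_normalizer_fixC hL hTn) (Subgroup.zpowers_le.mpr hxC₂))
  have hSC : S ≤ Subgroup.normalizer (C : Set G) := le_normalizer_fixC hL hn
  obtain ⟨e, he⟩ : ∃ e, orderOf x = p ^ e := by
    obtain ⟨e, he⟩ := IsPGroup.iff_orderOf.mp hS ⟨x, hxS⟩
    exact ⟨e, by rw [← he, ← Subgroup.orderOf_coe]⟩
  have hyp : Step.Hyp p L C₂ C x :=
    { normal := hLn
      le := le_fixC hL
      idx := idx_fixC hL hidx T
      ord := ⟨e, he⟩
      norm := hxC₂
      fix := fun k => by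
        rw [hC, hC₂, mem_fixC, mem_fixC]
        refine ⟨fun hk => ⟨⟨hk.1, fun s hs => hk.2 s (hTS hs)⟩, hk.2 x hxS⟩,
          fun hk => ⟨hk.1.1, fun s hs => ?_⟩⟩
        rw [Step.mk_comm]
        have hle : T ⊔ Subgroup.zpowers x ≤
            (Subgroup.centralizer {(k : G ⧸ L)}).comap (QuotientGroup.mk' L) := by
          refine sup_le (fun t ht => ?_) (Subgroup.zpowers_le.mpr ?_) <;>
            rw [Subgroup.mem_comap, Subgroup.mem_centralizer_singleton_iff]
          · exact ((Step.mk_comm L t k).mp (hk.1.2 t ht)).eq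
          · exact ((Step.mk_comm L x k).mp hk.2).eq
        exact Subgroup.mem_centralizer_singleton_iff.mp (hle (hgen hs))
      pow := fun k hk => (mem_fixC.mp hk).2 _ hxp }
  -- the intermediate correspondent
  have middle : ∀ θ : Cfsg.IrrCharacter K, InvBy S K (θ : K → ℂ) →
      ¬ p ∣ Cfsg.charDegree (θ : K → ℂ) →
      ∃ γ : Cfsg.IrrCharacter C₂, InvBy T C₂ (γ : C₂ → ℂ) ∧ InvAt x C₂ (γ : C₂ → ℂ) ∧
        ¬ p ∣ m (fixC_le L K T) θ γ ∧
        ∀ β : Cfsg.IrrCharacter C, InvBy S C (β : C → ℂ) →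
          (m (fixC_le L K S) θ β : ZMod p) = (m (fixC_le L K T) θ γ : ZMod p) * m hCC₂ γ β := by
    intro θ hθ hd
    have hθT := invBy_mono hTS hθ
    obtain ⟨γ, hγ, hγm, -⟩ := exists_inv hTp (fixC_le L K T) (le_normalizer_fixC hL hTn) hTn hθT hd
    have hγx : InvAt x C₂ (γ : C₂ → ℂ) := by
      rw [invAt_iff_conjI hxC₂]
      refine ihu θ γ _ hθT hd hγ (invBy_conjI (le_fixC hL) (le_normalizer_fixC hL hTn) hxC₂
        (fun s hs => Subgroup.mem_sup_left (hxT s hs)) hγ) hγm ?_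
      rwa [m_conj_of_inv _ hxC₂ (hn hxS) (hθ x hxS)]
    refine ⟨γ, hγ, hγx, hγm, fun β hβ => ?_⟩
    rw [show m (fixC_le L K S) θ β = m (hCC₂.trans (fixC_le L K T)) θ β from rfl,
      m_trans hTp hCC₂ (fixC_le L K T) (hTS.trans hSC) (le_normalizer_fixC hL hTn) hTn hθT
        (invBy_mono hTS hβ)]
    refine Finset.sum_eq_single γ (fun δ hδ hne' => ?_) (fun h => ?_)
    · have hdv : p ∣ m (fixC_le L K T) θ δ := by
        by_contra hnd
        exact hne' (ihu θ γ δ hθT hd hγ (Finset.mem_filter.mp hδ).2 hγm hnd)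
      rw [(ZMod.natCast_eq_zero_iff _ _).mpr hdv, zero_mul]
    · exact (h (by simp only [Finset.mem_filter, Finset.mem_univ, true_and]; exact hγ)).elim
  have push : ∀ θ (γ : Cfsg.IrrCharacter C₂) (β : Cfsg.IrrCharacter C),
      ¬ p ∣ m (fixC_le L K S) θ β →
      (m (fixC_le L K S) θ β : ZMod p) = (m (fixC_le L K T) θ γ : ZMod p) * m hCC₂ γ β →
      ¬ p ∣ m hyp.Cle γ β := by
    intro θ γ β hm he' hd'
    apply hm
    rw [← ZMod.natCast_eq_zero_iff, he', (ZMod.natCast_eq_zero_iff _ _).mpr hd', mul_zero]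
  refine ⟨fun θ β β' hθ hd hβ hβ' hm hm' => ?_, fun θ θ' β hθ hd hθ' hd' hβ hm hm' => ?_⟩
  · obtain ⟨γ, -, hγx, -, hmul⟩ := middle θ hθ hd
    exact hyp.unique hγx (hβ x hxS) (hβ' x hxS) (push θ γ β hm (hmul β hβ))
      (push θ γ β' hm' (hmul β' hβ'))
  · obtain ⟨γ, hγ, hγx, hγm, hmul⟩ := middle θ hθ hd
    obtain ⟨γ', -, hγ'x, hγ'm, hmul'⟩ := middle θ' hθ' hd'
    obtain rfl := hyp.inj hγx hγ'x (hβ x hxS) (push θ γ β hm (hmul β hβ))
      (push θ' γ' β hm' (hmul' β hβ))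
    exact ihi θ θ' γ' (invBy_mono hTS hθ) hd (invBy_mono hTS hθ') hd' hγ hγm hγ'm

variable {S : Subgroup G} (hS : IsPGroup p S) (hn : S ≤ Subgroup.normalizer (K : Set G))

include hL hidx hS hn

theorem unique {θ : Cfsg.IrrCharacter K} {β β' : Cfsg.IrrCharacter (fixC L K S)}
    (hθ : InvBy S K (θ : K → ℂ)) (hd : ¬ p ∣ Cfsg.charDegree (θ : K → ℂ))
    (hβ : InvBy S _ (β : fixC L K S → ℂ)) (hβ' : InvBy S _ (β' : fixC L K S → ℂ))
    (hm : ¬ p ∣ m (fixC_le L K S) θ β) (hm' : ¬ p ∣ m (fixC_le L K S) θ β') : β' = β :=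
  (main hL hidx _ S rfl hS hn).1 θ β β' hθ hd hβ hβ' hm hm'

theorem inj {θ θ' : Cfsg.IrrCharacter K} {β : Cfsg.IrrCharacter (fixC L K S)}
    (hθ : InvBy S K (θ : K → ℂ)) (hd : ¬ p ∣ Cfsg.charDegree (θ : K → ℂ))
    (hθ' : InvBy S K (θ' : K → ℂ)) (hd' : ¬ p ∣ Cfsg.charDegree (θ' : K → ℂ))
    (hβ : InvBy S _ (β : fixC L K S → ℂ))
    (hm : ¬ p ∣ m (fixC_le L K S) θ β) (hm' : ¬ p ∣ m (fixC_le L K S) θ' β) : θ' = θ :=
  (main hL hidx _ S rfl hS hn).2 θ θ' β hθ hd hθ' hd' hβ hm hm'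

/-- The correspondent exists. -/
theorem exists_corr {θ : Cfsg.IrrCharacter K} (hθ : InvBy S K (θ : K → ℂ))
    (hd : ¬ p ∣ Cfsg.charDegree (θ : K → ℂ)) :
    ∃ β : Cfsg.IrrCharacter (fixC L K S), InvBy S _ (β : fixC L K S → ℂ) ∧
      ¬ p ∣ m (fixC_le L K S) θ β ∧ ¬ p ∣ Cfsg.charDegree (β : fixC L K S → ℂ) :=
  exists_inv hS (fixC_le L K S) (le_normalizer_fixC hL hn) hn hθ hd

/-- Every invariant character of the fixed points of degree prime to `p` is a correspondent. -/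
theorem surj {β : Cfsg.IrrCharacter (fixC L K S)} (hβ : InvBy S _ (β : fixC L K S → ℂ))
    (hd : ¬ p ∣ Cfsg.charDegree (β : fixC L K S → ℂ)) :
    ∃ θ : Cfsg.IrrCharacter K, InvBy S K (θ : K → ℂ) ∧ ¬ p ∣ Cfsg.charDegree (θ : K → ℂ) ∧
      ¬ p ∣ m (fixC_le L K S) θ β := by
  have hSC : S ≤ Subgroup.normalizer ((fixC L K S) : Set G) := le_normalizer_fixC hL hn
  let C' := (fixC L K S).subgroupOf K
  let e : C' ≃* (fixC L K S) := Subgroup.subgroupOfEquivOfLe (fixC_le L K S)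
  have hdeg : ∑ θ : Cfsg.IrrCharacter K, m (fixC_le L K S) θ β * Cfsg.charDegree (θ : K → ℂ) =
      (fixC L K S).relIndex K * Cfsg.charDegree (β : (fixC L K S) → ℂ) := by
    have hind := isClassFunction_indFun C' ((β : (fixC L K S) → ℂ) ∘ e)
    have h1 := congrFun (Complete.classFunction_eq_sum hind) 1
    rw [indFun_one, Finset.sum_apply] at h1
    rw [← Nat.cast_inj (R := ℂ)]
    push_cast
    rw [← coe_charDegree β, show ((fixC L K S).relIndex K : ℂ) = (C'.index : ℂ) from rfl]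
    have e1 : ((β : (fixC L K S) → ℂ) ∘ e) 1 = (β : (fixC L K S) → ℂ) 1 := congrArg (β : (fixC L K S) → ℂ) (map_one e)
    rw [← e1, h1]
    refine Finset.sum_congr rfl fun θ _ => ?_
    have h2 : Cfsg.classInner (Cfsg.indFun C' ((β : (fixC L K S) → ℂ) ∘ e)) (θ : K → ℂ) =
        (m (fixC_le L K S) θ β : ℂ) := by
      rw [frobenius_reciprocity _ _ (isClassFunction_irr θ), ← classInner_conj_symm,
        RelGlauberman.classInner_transport]
      refine Eq.trans (congrArg conj ?_) (map_natCast (starRingEnd ℂ) _)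
      exact coe_m (fixC_le L K S) θ β
    rw [Pi.smul_apply, smul_eq_mul, h2, coe_charDegree]
  have hz := sum_irr hS hn (fun θ => m (fixC_le L K S) θ β * Cfsg.charDegree (θ : K → ℂ))
    (fun g hg θ => by
      congr 1
      · conv_lhs => rw [← (invAt_iff_conjI (hSC hg) β).mp (hβ g hg)]
        exact m_conj _ (hSC hg) (hn hg) θ β
      · simp only [Cfsg.charDegree, conjI_apply, map_one])
  rw [hdeg] at hz
  have hne : (((fixC L K S).relIndex K * Cfsg.charDegree (β : (fixC L K S) → ℂ) : ℕ) : ZMod p) ≠ 0 := by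
    rw [Ne, ZMod.natCast_eq_zero_iff, hp.out.dvd_mul]
    rintro (h | h)
    · refine hidx ?_
      rw [← Subgroup.relIndex_mul_relIndex L (fixC L K S) K (le_fixC hL) (fixC_le L K S)]
      exact dvd_mul_of_dvd_right h _
    · exact hd h
  rw [hz] at hne
  obtain ⟨θ, hθ, hb⟩ := Finset.exists_ne_zero_of_sum_ne_zero hne
  rw [Ne, ZMod.natCast_eq_zero_iff, hp.out.dvd_mul, not_or] at hb
  exact ⟨θ, (Finset.mem_filter.mp hθ).2, hb.2, hb.1⟩

/-- The correspondence commutes with conjugation. -/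
theorem conj_corr {g : G} (hgK : g ∈ Subgroup.normalizer (K : Set G))
    (hgC : g ∈ Subgroup.normalizer (fixC L K S : Set G)) (hgS : ∀ s ∈ S, g * s * g⁻¹ ∈ S ⊔ L)
    {θ : Cfsg.IrrCharacter K} {β : Cfsg.IrrCharacter (fixC L K S)}
    (hθ : InvBy S K (θ : K → ℂ)) (hd : ¬ p ∣ Cfsg.charDegree (θ : K → ℂ))
    (hβ : InvBy S _ (β : fixC L K S → ℂ)) (hm : ¬ p ∣ m (fixC_le L K S) θ β) :
    InvAt g K (θ : K → ℂ) ↔ InvAt g (fixC L K S) (β : fixC L K S → ℂ) := by
  have hm' : ¬ p ∣ m (fixC_le L K S) (conjI hgK θ) (conjI hgC β) := by rwa [m_conj]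
  have hθ' : InvBy S K (conjI hgK θ : K → ℂ) := invBy_conjI hL hn hgK hgS hθ
  have hd' : ¬ p ∣ Cfsg.charDegree (conjI hgK θ : K → ℂ) := by
    simpa only [Cfsg.charDegree, conjI_apply, map_one] using hd
  have hβ' := invBy_conjI (le_fixC hL) (le_normalizer_fixC hL hn) hgC hgS hβ
  constructor
  · intro h
    rw [invAt_iff_conjI hgC]
    rw [(invAt_iff_conjI hgK θ).mp h] at hm'
    exact unique hL hidx hS hn hθ hd hβ hβ' hm hm'
  · intro h
    rw [invAt_iff_conjI hgK]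
    rw [(invAt_iff_conjI hgC β).mp h] at hm'
    exact inj hL hidx hS hn hθ hd hθ' hd' hβ hm hm'

end Cfsg.Agent.Lib.RelMcKay.Corr
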