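import Cfsg.Agent.Lib.RelMcKay.Pairs

/-!
# Counts of characters of degree prime to `p` over a character of a normal subgroup
-/

set_option autoImplicit false

namespace Cfsg.Agent.Lib.RelMcKay.Count

open scoped ComplexConjugate Classical
open Cfsg.Agent.Lib.Characters Cfsg.Agent.Lib.Characters.Basic Cfsg.Agent.Lib.Induced.Basic
open Cfsg.Agent.Lib.RelMcKay.Rel
open Cfsg.Agent.Lib.RelMcKay.Pairs (liftI)

universe u

variable {G : Type u} [Group G] [Fintype G] {p : ℕ}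

/-- The characters of `H` of degree prime to `p` over `θ`. -/
abbrev Above (p : ℕ) {K H : Subgroup G} (h : K ≤ H) (θ : Cfsg.IrrCharacter K) :=
  {χ : Cfsg.IrrCharacter H // ¬ p ∣ Cfsg.charDegree (χ : H → ℂ) ∧ m h χ θ ≠ 0}

/-- Their number. -/
noncomputable def cnt (p : ℕ) {K H : Subgroup G} (h : K ≤ H) (θ : Cfsg.IrrCharacter K) : ℕ :=
  Nat.card (Above p h θ)

theorem inner_liftI {K H : Subgroup G} (h : K ≤ H) (θ : Cfsg.IrrCharacter K)
    (χ : Cfsg.IrrCharacter H) :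
    Cfsg.classInner (fun k : K.subgroupOf H => (χ : H → ℂ) k) (liftI h θ : K.subgroupOf H → ℂ) =
      (m h χ θ : ℂ) := by
  rw [← coe_m]
  exact RelGlauberman.classInner_transport (Subgroup.subgroupOfEquivOfLe h) _ _

omit [Fintype G] in
/-- Counts do not depend on the ambient group. -/
theorem cnt_congr [Fintype G] {G' : Type u} [Group G'] [Fintype G'] {K H : Subgroup G}
    {K' H' : Subgroup G'} (h : K ≤ H) (h' : K' ≤ H') (e : K' ≃* K) (f : H' ≃* H)
    (hcomm : ∀ k : K', f (Subgroup.inclusion h' k) = Subgroup.inclusion h (e k))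
    (θ : Cfsg.IrrCharacter K) (θ' : Cfsg.IrrCharacter K')
    (hθ : ∀ k : K', (θ' : K' → ℂ) k = (θ : K → ℂ) (e k)) : cnt p h' θ' = cnt p h θ := by
  let φ : Cfsg.IrrCharacter H ≃ Cfsg.IrrCharacter H' :=
    { toFun := fun χ => ⟨(χ : H → ℂ) ∘ f, isIrrCharacter_comp f.toMonoidHom f.surjective χ.2⟩
      invFun := fun χ => ⟨(χ : H' → ℂ) ∘ f.symm,
        isIrrCharacter_comp f.symm.toMonoidHom f.symm.surjective χ.2⟩
      left_inv := fun χ => Subtype.ext (funext fun x => congrArg (χ : H → ℂ) (f.apply_symm_apply x))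
      right_inv := fun χ => Subtype.ext (funext fun x => congrArg (χ : H' → ℂ) (f.symm_apply_apply x)) }
  refine (Nat.card_congr (φ.subtypeEquiv fun χ => ?_)).symm
  have hm : m h' (φ χ) θ' = m h χ θ := by
    rw [← Nat.cast_inj (R := ℂ), ← coe_m, ← coe_m, show (θ' : K' → ℂ) = (θ : K → ℂ) ∘ e from funext hθ,
      RelGlauberman.classInner_transport]
    congr 1
    funext k
    show (χ : H → ℂ) (f (Subgroup.inclusion h' (e.symm k))) = _
    rw [hcomm, e.apply_symm_apply]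
  have hd : Cfsg.charDegree (φ χ : H' → ℂ) = Cfsg.charDegree (χ : H → ℂ) := by
    have e1 : (φ χ : H' → ℂ) 1 = (χ : H → ℂ) 1 := congrArg (χ : H → ℂ) (map_one f)
    simp only [Cfsg.charDegree, e1]
  rw [hm, hd]

/-- Clifford: the degree is multiplicity, orbit length and degree. -/
theorem clifford_deg {K H : Subgroup G} (h : K ≤ H) (hn : H ≤ Subgroup.normalizer (K : Set G))
    (χ : Cfsg.IrrCharacter H) (θ : Cfsg.IrrCharacter K) (hm : m h χ θ ≠ 0) :
    ∃ t : ℕ, Cfsg.charDegree (χ : H → ℂ) = m h χ θ * t * Cfsg.charDegree (θ : K → ℂ) := by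
  haveI : (K.subgroupOf H).Normal := (Subgroup.normal_subgroupOf_iff_le_normalizer h).mpr hn
  have h1 := Clifford.Basic.clifford_degree (K.subgroupOf H) χ.2 (liftI h θ)
    (by rw [inner_liftI]; exact_mod_cast hm)
  rw [inner_liftI, coe_charDegree, coe_charDegree,
    show Cfsg.charDegree (liftI h θ : K.subgroupOf H → ℂ) = Cfsg.charDegree (θ : K → ℂ) by
      simp only [Cfsg.charDegree]
      exact congrArg _ (congrArg Complex.re (congrArg (θ : K → ℂ) (map_one _)))] at h1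
  exact ⟨_, by exact_mod_cast h1⟩

/-- Lying over is transitive. -/
theorem over_trans {L K H : Subgroup G} (hLK : L ≤ K) (hKH : K ≤ H) {χ : Cfsg.IrrCharacter H}
    {θ : Cfsg.IrrCharacter K} {ν : Cfsg.IrrCharacter L} (h1 : m hKH χ θ ≠ 0) (h2 : m hLK θ ν ≠ 0) :
    m (hLK.trans hKH) χ ν ≠ 0 := by
  have e : m (hLK.trans hKH) χ ν = ∑ γ : Cfsg.IrrCharacter K, m hKH χ γ * m hLK γ ν :=
    Glauberman.mult_comp (Subgroup.inclusion hKH) (Subgroup.inclusion hLK) _ (fun _ => rfl) χ ν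
  intro h0
  rw [e, Finset.sum_eq_zero_iff] at h0
  exact mul_ne_zero h1 h2 (h0 θ (Finset.mem_univ _))

variable [hp : Fact p.Prime] {S : Subgroup G}

/-- A character of degree prime to `p` has an invariant constituent over `ν`. -/
theorem exists_under {L K H : Subgroup G} [L.Normal] (hLK : L ≤ K) (hKH : K ≤ H)
    (hn : H ≤ Subgroup.normalizer (K : Set G)) (hS : IsPGroup p S) (hSH : S ≤ H)
    {ν : Cfsg.IrrCharacter L} (hν : InvBy S L (ν : L → ℂ)) {χ : Cfsg.IrrCharacter H}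
    (hd : ¬ p ∣ Cfsg.charDegree (χ : H → ℂ)) (hm : m (hLK.trans hKH) χ ν ≠ 0) :
    ∃ θ : Cfsg.IrrCharacter K, InvBy S K (θ : K → ℂ) ∧ ¬ p ∣ Cfsg.charDegree (θ : K → ℂ) ∧
      m hKH χ θ ≠ 0 ∧ ¬ p ∣ m hLK θ ν := by
  obtain ⟨t, ht⟩ := clifford_deg (hLK.trans hKH)
    (fun g _ => by rw [Subgroup.normalizer_eq_top]; exact Subgroup.mem_top g) χ ν hm
  have hne : ((m (hLK.trans hKH) χ ν : ℕ) : ZMod p) ≠ 0 := by
    rw [Ne, ZMod.natCast_eq_zero_iff]
    exact fun h => hd (ht ▸ dvd_mul_of_dvd_left (dvd_mul_of_dvd_left h t) _)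
  rw [m_trans hS hLK hKH (fun g _ => by rw [Subgroup.normalizer_eq_top]; exact Subgroup.mem_top g)
    (hSH.trans hn) (hSH.trans Subgroup.le_normalizer)
    (fun g hg => invAt_of_mem (hSH hg) (isClassFunction_irr χ)) hν] at hne
  obtain ⟨θ, hθ, hb⟩ := Finset.exists_ne_zero_of_sum_ne_zero hne
  obtain ⟨h1, h2⟩ := mul_ne_zero_iff.mp hb
  rw [Ne, ZMod.natCast_eq_zero_iff] at h1 h2
  have h1' : m hKH χ θ ≠ 0 := fun h0 => h1 (h0 ▸ dvd_zero p)
  obtain ⟨t', ht'⟩ := clifford_deg hKH hn χ θ h1'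
  exact ⟨θ, (Finset.mem_filter.mp hθ).2, fun h => hd (ht' ▸ dvd_mul_of_dvd_right h _), h1', h2⟩

omit [Fintype G] hp in
theorem conjI_comp {K : Subgroup G} {a b : G} (ha : a ∈ Subgroup.normalizer (K : Set G))
    (hb : b ∈ Subgroup.normalizer (K : Set G)) (θ : Cfsg.IrrCharacter K) :
    conjI ha (conjI hb θ) = conjI (mul_mem hb ha) θ :=
  Subtype.ext (funext fun x => congrArg (θ : K → ℂ) (Subtype.ext (by simp [coe_conjE, mul_assoc])))

omit [Fintype G] hp in
theorem conjI_one {K : Subgroup G} (h : (1 : G) ∈ Subgroup.normalizer (K : Set G))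
    (θ : Cfsg.IrrCharacter K) : conjI h θ = θ :=
  Subtype.ext (funext fun x => congrArg (θ : K → ℂ) (Subtype.ext (by simp [coe_conjE])))

omit [Fintype G] hp in
theorem conjI_congr {K : Subgroup G} {a b : G} (ha : a ∈ Subgroup.normalizer (K : Set G))
    (hb : b ∈ Subgroup.normalizer (K : Set G)) (h : a = b) (θ : Cfsg.IrrCharacter K) :
    conjI ha θ = conjI hb θ := by subst h; rfl

/-- Conjugate by an element normalising `S`. -/
def Conj (S : Subgroup G) {K : Subgroup G} (θ θ' : Cfsg.IrrCharacter K) : Prop :=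
  ∃ g : G, g ∈ Subgroup.normalizer (S : Set G) ∧
    ∃ hg : g ∈ Subgroup.normalizer (K : Set G), conjI hg θ = θ'

/-- Two invariant constituents of one character are conjugate under the normaliser of `S`. -/
theorem orbit {K H : Subgroup G} (hKH : K ≤ H) (hn : H ≤ Subgroup.normalizer (K : Set G))
    (hS : IsPGroup p S) (hidx : ¬ p ∣ S.index) (hSH : S ≤ H) {χ : Cfsg.IrrCharacter H}
    {θ θ' : Cfsg.IrrCharacter K} (hθ : InvBy S K (θ : K → ℂ)) (hθ' : InvBy S K (θ' : K → ℂ))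
    (hm : m hKH χ θ ≠ 0) (hm' : m hKH χ θ' ≠ 0) : Conj S θ θ' := by
  haveI : (K.subgroupOf H).Normal := (Subgroup.normal_subgroupOf_iff_le_normalizer hKH).mpr hn
  obtain ⟨g, hg⟩ := Clifford.Basic.exists_conj_of_constituents (K.subgroupOf H) χ.2
    (θ := liftI hKH θ) (ψ := liftI hKH θ') (by rw [inner_liftI]; exact_mod_cast hm)
    (by rw [inner_liftI]; exact_mod_cast hm')
  have hgK : (g : G) ∈ Subgroup.normalizer (K : Set G) := hn g.2
  have hc : conjI hgK θ = θ' := Subtype.ext (funext fun k => by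
    have h1 := congrFun hg ⟨⟨k, hKH k.2⟩, k.2⟩
    rw [Clifford.Basic.conjC_apply] at h1
    exact h1)
  obtain ⟨T, hT⟩ : ∃ T, stab K (θ' : K → ℂ) = T := ⟨_, rfl⟩
  have hST : S ≤ T := hT ▸ fun s hs => ⟨hn (hSH hs), hθ' s hs⟩
  have hgT : ∀ s ∈ S, (g : G)⁻¹ * s * g ∈ T := fun s hs => by
    rw [← hT, ← hc]
    refine ⟨mul_mem (mul_mem (inv_mem hgK) (hn (hSH hs))) hgK, fun x y hy => ?_⟩
    rw [conjI_apply, conjI_apply]
    exact hθ s hs _ _ (by simp [coe_conjE, hy, mul_assoc])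
  have hTidx : ¬ p ∣ (S.subgroupOf T).index := fun h => hidx (by
    rw [← Subgroup.relIndex_mul_index hST]
    exact dvd_mul_of_dvd_left h _)
  let P₁ : Sylow p T := (hS.comap_of_injective T.subtype T.subtype_injective).toSylow hTidx
  let R : Subgroup T := (S.map (MulAut.conj (g : G)⁻¹).toMonoidHom).subgroupOf T
  have hR : IsPGroup p R := (hS.map _).comap_of_injective T.subtype T.subtype_injective
  obtain ⟨P₂, hP₂⟩ := hR.exists_le_sylow
  obtain ⟨t, ht⟩ := MulAction.exists_smul_eq T P₂ P₁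
  have key : ∀ s ∈ S, (t : G) * ((g : G)⁻¹ * s * g) * (t : G)⁻¹ ∈ S := fun s hs => by
    have h1 : (⟨_, hgT s hs⟩ : T) ∈ (P₂ : Subgroup T) := hP₂ (Subgroup.mem_subgroupOf.mpr
      ⟨s, hs, by simp [mul_assoc]⟩)
    have h2 : t * ⟨_, hgT s hs⟩ * t⁻¹ ∈ ((t • P₂ : Sylow p T) : Subgroup T) := by
      rw [Sylow.coe_subgroup_smul, Subgroup.mem_pointwise_smul_iff_inv_smul_mem]
      simpa [MulAut.smul_def, mul_assoc] using h1
    rw [ht] at h2
    exact Subgroup.mem_subgroupOf.mp h2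
  have hnormal : (g : G) * (t : G)⁻¹ ∈ Subgroup.normalizer (S : Set G) := by
    have h1 : (t : G) * (g : G)⁻¹ ∈ Subgroup.normalizer (S : Set G) :=
      Subgroup.mem_normalizer_fintype fun s hs => by simpa [mul_assoc] using key s hs
    have := inv_mem h1
    rwa [mul_inv_rev, inv_inv] at this
  have htK : ((t : G))⁻¹ ∈ stab K (θ' : K → ℂ) := by rw [hT]; exact inv_mem t.2
  refine ⟨_, hnormal, mul_mem hgK htK.1, ?_⟩
  rw [← conjI_comp htK.1 hgK, hc]
  exact (invAt_iff_conjI htK.1 θ').mp htK.2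

/-- The invariant characters of degree prime to `p` over `ν`. -/
abbrev Inv (p : ℕ) (S : Subgroup G) {L K : Subgroup G} (h : L ≤ K) (ν : Cfsg.IrrCharacter L) :=
  {θ : Cfsg.IrrCharacter K // InvBy S K (θ : K → ℂ) ∧ ¬ p ∣ Cfsg.charDegree (θ : K → ℂ) ∧
    m h θ ν ≠ 0}

omit [Fintype G] hp in
theorem conj_equiv {K : Subgroup G} (S : Subgroup G) :
    Equivalence (Conj S : Cfsg.IrrCharacter K → Cfsg.IrrCharacter K → Prop) := by
  refine ⟨fun θ => ⟨1, one_mem _, one_mem _, conjI_one _ θ⟩, ?_, ?_⟩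
  · rintro θ θ' ⟨g, hgS, hg, rfl⟩
    exact ⟨g⁻¹, inv_mem hgS, inv_mem hg, by
      rw [conjI_comp, conjI_congr _ (one_mem _) (mul_inv_cancel g), conjI_one]⟩
  · rintro θ θ' θ'' ⟨g, hgS, hg, rfl⟩ ⟨g', hgS', hg', rfl⟩
    exact ⟨g * g', mul_mem hgS hgS', mul_mem hg hg', (conjI_comp hg' hg θ).symm⟩

/-- The conjugacy relation on them. -/
@[reducible] def invSetoid (p : ℕ) (S : Subgroup G) {L K : Subgroup G} (h : L ≤ K)
    (ν : Cfsg.IrrCharacter L) : Setoid (Inv p S h ν) :=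
  ⟨fun a b => Conj S a.1 b.1,
    ⟨fun a => (conj_equiv S).refl a.1, fun h => (conj_equiv S).symm h,
      fun h h' => (conj_equiv S).trans h h'⟩⟩

/-- Decomposition of a count along the classes of invariant characters of an intermediate group. -/
theorem decomp {L K H : Subgroup G} [L.Normal] (hLK : L ≤ K) (hKH : K ≤ H)
    (hn : H ≤ Subgroup.normalizer (K : Set G)) (hS : IsPGroup p S) (hidx : ¬ p ∣ S.index)
    (hSH : S ≤ H) (hNS : Subgroup.normalizer (S : Set G) ≤ H)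
    {ν : Cfsg.IrrCharacter L} (hν : InvBy S L (ν : L → ℂ))
    [Fintype (Quotient (invSetoid p S hLK ν))] :
    cnt p (hLK.trans hKH) ν =
      ∑ c : Quotient (invSetoid p S hLK ν), cnt p hKH c.out.1 := by
  let F : (Σ c : Quotient (invSetoid p S hLK ν), Above p hKH c.out.1) →
      Above p (hLK.trans hKH) ν := fun x =>
    ⟨x.2.1, x.2.2.1, over_trans hLK hKH x.2.2.2 x.1.out.2.2.2⟩
  have hF : Function.Bijective F := by
    constructor
    · rintro ⟨c, χ, hχ⟩ ⟨c', χ', hχ'⟩ he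
      obtain rfl : χ = χ' := congrArg Subtype.val he
      obtain rfl : c = c' := by
        rw [← Quotient.out_eq c, ← Quotient.out_eq c']
        exact Quotient.sound (orbit hKH hn hS hidx hSH c.out.2.1 c'.out.2.1 hχ.2 hχ'.2)
      rfl
    · rintro ⟨χ, hd, hm⟩
      obtain ⟨θ, hθ, hθd, hmθ, hθν⟩ := exists_under hLK hKH hn hS hSH hν hd hm
      let a : Inv p S hLK ν := ⟨θ, hθ, hθd, fun h0 => hθν (h0 ▸ dvd_zero p)⟩
      let c : Quotient (invSetoid p S hLK ν) := Quotient.mk _ a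
      obtain ⟨g, hgS, hg, he⟩ : Conj S c.out.1 θ := Quotient.exact (Quotient.out_eq c)
      refine ⟨⟨c, χ, hd, ?_⟩, rfl⟩
      have hgH : g ∈ H := hNS hgS
      have h1 := m_conj_of_inv hKH hg (Subgroup.le_normalizer hgH)
        (invAt_of_mem hgH (isClassFunction_irr χ)) c.out.1
      rw [he] at h1
      exact h1 ▸ hmθ
  unfold cnt
  rw [← Nat.card_congr (Equiv.ofBijective F hF), Nat.card_sigma]

omit hp in
/-- Clifford correspondence, on counts. -/
theorem cnt_inertia [Fact p.Prime] {K H : Subgroup G} (h : K ≤ H)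
    (hn : H ≤ Subgroup.normalizer (K : Set G)) (θ : Cfsg.IrrCharacter K) {T : Subgroup G}
    (hKT : K ≤ T) (hT : ∀ g, g ∈ T ↔ g ∈ H ∧ InvAt g K (θ : K → ℂ))
    (hidx : ¬ p ∣ T.relIndex H) : cnt p h θ = cnt p hKT θ := by
  haveI : (K.subgroupOf H).Normal := (Subgroup.normal_subgroupOf_iff_le_normalizer h).mpr hn
  have hTH : T ≤ H := fun g hg => ((hT g).mp hg).1
  have hNT : K.subgroupOf H ≤ T.subgroupOf H := fun z hz => hKT hz
  have hine : T.subgroupOf H =
      Clifford.Basic.inertia (K.subgroupOf H) (liftI h θ : K.subgroupOf H → ℂ) := by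
    ext g
    rw [Subgroup.mem_subgroupOf, hT, Clifford.Basic.mem_inertia, invAt_iff (hn g.2)]
    refine ⟨fun hg => funext fun n => ?_, fun hg => ⟨g.2, fun k => ?_⟩⟩
    · rw [Clifford.Basic.conjC_apply]
      exact hg.2 (Subgroup.subgroupOfEquivOfLe h n)
    · have h1 := congrFun hg ((Subgroup.subgroupOfEquivOfLe h).symm k)
      rw [Clifford.Basic.conjC_apply] at h1
      exact h1
  rw [← cnt_congr hKT hNT (Subgroup.subgroupOfEquivOfLe h) (Subgroup.subgroupOfEquivOfLe hTH)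
    (fun _ => Subtype.ext rfl) θ (liftI h θ) (fun _ => rfl)]
  have hover : ∀ χ : Cfsg.IrrCharacter H, m h χ θ ≠ 0 ↔
      Cfsg.classInner (fun k : K.subgroupOf H => (χ : H → ℂ) k) (liftI h θ : K.subgroupOf H → ℂ) ≠ 0 :=
    fun χ => by rw [inner_liftI, Ne, Ne, Nat.cast_eq_zero]
  have hover' : ∀ ψ : Cfsg.IrrCharacter (T.subgroupOf H), m hNT ψ (liftI h θ) ≠ 0 ↔
      Cfsg.classInner ((ψ : T.subgroupOf H → ℂ) ∘ Subgroup.inclusion hNT)
        (liftI h θ : K.subgroupOf H → ℂ) ≠ 0 := fun ψ => by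
    rw [show ((ψ : T.subgroupOf H → ℂ) ∘ Subgroup.inclusion hNT) =
      fun x => (ψ : T.subgroupOf H → ℂ) (Subgroup.inclusion hNT x) from rfl, coe_m, Ne, Ne,
      Nat.cast_eq_zero]
  have hdeg : ∀ (ψ : Cfsg.IrrCharacter (T.subgroupOf H)) (χ : Cfsg.IrrCharacter H),
      Cfsg.indFun (T.subgroupOf H) (ψ : T.subgroupOf H → ℂ) = χ →
      (p ∣ Cfsg.charDegree (χ : H → ℂ) ↔ p ∣ Cfsg.charDegree (ψ : T.subgroupOf H → ℂ)) := by
    intro ψ χ he
    have h1 := congrFun he 1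
    rw [indFun_one, coe_charDegree, coe_charDegree, ← Nat.cast_mul, Nat.cast_inj] at h1
    rw [← h1]
    exact ⟨fun hd => ((Fact.out : p.Prime).dvd_mul.mp hd).resolve_left hidx,
      fun hd => dvd_mul_of_dvd_right hd _⟩
  have hex : ∀ a : Above p hNT (liftI h θ), ∃ b : Above p h θ,
      Cfsg.indFun (T.subgroupOf H) (a.1 : T.subgroupOf H → ℂ) = (b.1 : H → ℂ) := fun a => by
    obtain ⟨χ, hχ, hχθ, -⟩ := RelGlauberman.correspondence (K.subgroupOf H) (liftI h θ)
      (T.subgroupOf H) hNT hine a.1 ((hover' a.1).mp a.2.2)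
    exact ⟨⟨χ, fun hd => a.2.1 ((hdeg a.1 χ hχ).mp hd), (hover χ).mpr hχθ⟩, hχ⟩
  choose F hF using hex
  refine (Nat.card_congr (Equiv.ofBijective F ⟨fun a b he => ?_, fun b => ?_⟩)).symm
  · exact Subtype.ext (RelGlauberman.indFun_injective (K.subgroupOf H) (liftI h θ)
      (T.subgroupOf H) hNT hine ((hover' a.1).mp a.2.2) ((hover' b.1).mp b.2.2)
      (by rw [hF a, hF b, he]))
  · obtain ⟨ψ, hψ, hind⟩ := RelGlauberman.exists_over (K.subgroupOf H) (liftI h θ)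
      (T.subgroupOf H) hNT hine ((hover b.1).mp b.2.2)
    refine ⟨⟨ψ, fun hd => b.2.1 ((hdeg ψ b.1 hind).mpr hd), (hover' ψ).mpr hψ⟩,
      Subtype.ext (Subtype.ext ?_)⟩
    rw [← hF]
    exact hind

end Cfsg.Agent.Lib.RelMcKay.Count
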