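import Cfsg.Agent.Lib.RelMcKay.Corr
import Cfsg.Agent.Lib.Clifford.Monomial

/-!
# Extendibility over two commuting elements modulo a normal subgroup
-/

set_option autoImplicit false

namespace Cfsg.Agent.Lib.RelMcKay.Extend

open scoped ComplexConjugate Classical
open Cfsg.Agent.Lib.Characters Cfsg.Agent.Lib.Characters.Basic Cfsg.Agent.Lib.Induced.Basic
open Cfsg.Agent.Lib.RelMcKay.Rel
open Cfsg.Agent.Lib.RelMcKay.Step (exists_zpow_of_mem_sup)

universe u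

variable {G : Type u} [Group G]

/-- `θ` extends to `A`. -/
def Extends {K : Subgroup G} (θ : Cfsg.IrrCharacter K) (A : Subgroup G) : Prop :=
  ∃ (h : K ≤ A) (η : Cfsg.IrrCharacter A),
    ∀ k : K, (η : A → ℂ) (Subgroup.inclusion h k) = (θ : K → ℂ) k

variable [Fintype G]

/-- The restriction of an extension. -/
theorem exists_restrict {K A B : Subgroup G} {θ : Cfsg.IrrCharacter K} (hKB : K ≤ B) (hBA : B ≤ A)
    (η : Cfsg.IrrCharacter A)
    (hη : ∀ k : K, (η : A → ℂ) (Subgroup.inclusion (hKB.trans hBA) k) = (θ : K → ℂ) k) :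
    ∃ ξ : Cfsg.IrrCharacter B, (∀ k : K, (ξ : B → ℂ) (Subgroup.inclusion hKB k) = (θ : K → ℂ) k) ∧
      ∀ y : B, (ξ : B → ℂ) y = (η : A → ℂ) (Subgroup.inclusion hBA y) := by
  refine ⟨⟨fun y => (η : A → ℂ) (Subgroup.inclusion hBA y), ?_⟩, fun k => hη k, fun _ => rfl⟩
  refine Lib.Clifford.Monomial.isIrr_of_comp_irr (Subgroup.inclusion hKB)
    (isCharacter_comp (Subgroup.inclusion hBA) (isCharacter_irr η)) ?_
  convert θ.2 using 1
  funext k
  exact hη k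

theorem extends_mono {K A B : Subgroup G} {θ : Cfsg.IrrCharacter K} (hKB : K ≤ B) (hBA : B ≤ A)
    (h : Extends θ A) : Extends θ B := by
  obtain ⟨_, η, hη⟩ := h
  obtain ⟨ξ, hξ, -⟩ := exists_restrict hKB hBA η hη
  exact ⟨hKB, ξ, hξ⟩

theorem extends_of_cyclic {K A : Subgroup G} (θ : Cfsg.IrrCharacter K) (hKA : K ≤ A)
    (hA : A ≤ stab K (θ : K → ℂ)) {g : G} (hg : g ∈ A) (hgen : A ≤ K ⊔ Subgroup.zpowers g) :
    Extends θ A :=
  ⟨hKA, exists_ext_cyclic hKA θ hA hg hgen⟩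

/-- Commutators in `K ⊔ zpowers a` lie in `K`. -/
theorem comm_mem {K : Subgroup G} {a : G} (ha : a ∈ Subgroup.normalizer (K : Set G)) {x y : G}
    (hx : x ∈ K ⊔ Subgroup.zpowers a) (hy : y ∈ K ⊔ Subgroup.zpowers a) :
    x * y * x⁻¹ * y⁻¹ ∈ K := by
  set B := K ⊔ Subgroup.zpowers a
  haveI : (K.subgroupOf B).Normal := (Subgroup.normal_subgroupOf_iff_le_normalizer le_sup_left).mpr
    (sup_le Subgroup.le_normalizer (Subgroup.zpowers_le.mpr ha))
  have hdec : ∀ z : B, ∃ i : ℤ, ((z : B) : B ⧸ K.subgroupOf B) =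
      ((⟨a, Subgroup.mem_sup_right (Subgroup.mem_zpowers a)⟩ : B) : B ⧸ K.subgroupOf B) ^ i := by
    intro z
    obtain ⟨d, i, hd, hz⟩ := exists_zpow_of_mem_sup ha z.2
    refine ⟨i, ?_⟩
    rw [← QuotientGroup.mk_zpow, eq_comm, QuotientGroup.eq, Subgroup.mem_subgroupOf]
    simp [hz, hd]
  obtain ⟨i, hi⟩ := hdec ⟨x, hx⟩
  obtain ⟨j, hj⟩ := hdec ⟨y, hy⟩
  have : (((⟨x, hx⟩ : B) * ⟨y, hy⟩ * (⟨x, hx⟩ : B)⁻¹ * (⟨y, hy⟩ : B)⁻¹ : B) :
      B ⧸ K.subgroupOf B) = 1 := by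
    rw [QuotientGroup.mk_mul, QuotientGroup.mk_mul, QuotientGroup.mk_mul, QuotientGroup.mk_inv,
      QuotientGroup.mk_inv, hi, hj, (Commute.zpow_zpow_self _ i j).eq, mul_inv_cancel_right,
      mul_inv_cancel]
  exact Subgroup.mem_subgroupOf.mp ((QuotientGroup.eq_one_iff _).mp this)

/-- An extension over an abelian quotient is nonzero somewhere on every coset. -/
theorem exists_ne_zero {K B : Subgroup G} (h : K ≤ B) (hn : B ≤ Subgroup.normalizer (K : Set G))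
    (hab : ∀ x ∈ B, ∀ y ∈ B, x * y * x⁻¹ * y⁻¹ ∈ K) (θ : Cfsg.IrrCharacter K)
    (η : Cfsg.IrrCharacter B)
    (hη : ∀ k : K, (η : B → ℂ) (Subgroup.inclusion h k) = (θ : K → ℂ) k) (x : B) :
    ∃ k : K, (η : B → ℂ) (x * Subgroup.inclusion h k) ≠ 0 := by
  haveI : (K.subgroupOf B).Normal := (Subgroup.normal_subgroupOf_iff_le_normalizer h).mpr hn
  let e : K.subgroupOf B ≃* K := Subgroup.subgroupOfEquivOfLe h
  have hsum := Step.coset_norm (K.subgroupOf B)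
    (fun a b => Subgroup.mem_subgroupOf.mpr (hab a a.2 b b.2)) η
    ⟨(θ : K → ℂ) ∘ e, isIrrCharacter_comp e.toMonoidHom e.surjective θ.2⟩ (fun n => hη (e n)) x
  by_contra hcon
  push Not at hcon
  rw [Finset.sum_eq_zero fun n _ => by
    rw [show (η : B → ℂ) (x * n) = 0 from hcon (e n), zero_mul]] at hsum
  exact subgroup_card_ne_zero (K.subgroupOf B) hsum.symm

/-- A twist fixing an extension is trivial. -/
theorem twist_trivial {K B : Subgroup G} (h : K ≤ B) (hn : B ≤ Subgroup.normalizer (K : Set G))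
    (hab : ∀ x ∈ B, ∀ y ∈ B, x * y * x⁻¹ * y⁻¹ ∈ K) (θ : Cfsg.IrrCharacter K)
    (η : Cfsg.IrrCharacter B)
    (hη : ∀ k : K, (η : B → ℂ) (Subgroup.inclusion h k) = (θ : K → ℂ) k) {l : B →* ℂˣ}
    (hl : ∀ x : B, (x : G) ∈ K → l x = 1)
    (heq : ∀ y : B, (l y : ℂ) * (η : B → ℂ) y = (η : B → ℂ) y) (x : B) : l x = 1 := by
  obtain ⟨k, hk⟩ := exists_ne_zero h hn hab θ η hη x
  have h1 := heq (x * Subgroup.inclusion h k)
  rw [map_mul, hl (Subgroup.inclusion h k) k.2, mul_one] at h1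
  exact Units.ext (mul_right_cancel₀ hk (h1.trans (one_mul _).symm))

variable {K : Subgroup G} {θ : Cfsg.IrrCharacter K} {a b : G}

theorem normalizer_sup (ha : a ∈ Subgroup.normalizer (K : Set G))
    (hb : b ∈ Subgroup.normalizer (K : Set G)) (hc : b * a * b⁻¹ * a⁻¹ ∈ K) :
    b ∈ Subgroup.normalizer ((K ⊔ Subgroup.zpowers a : Subgroup G) : Set G) := by
  refine Subgroup.mem_normalizer_fintype fun g hg => ?_
  obtain ⟨d, i, hd, rfl⟩ := exists_zpow_of_mem_sup ha hg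
  have e : b * (a ^ i * d) * b⁻¹ = (b * a * b⁻¹ * a⁻¹ * a) ^ i * (b * d * b⁻¹) := by
    rw [inv_mul_cancel_right, conj_zpow]
    simp [mul_assoc]
  rw [e]
  exact mul_mem (zpow_mem (mul_mem (Subgroup.mem_sup_left hc)
      (Subgroup.mem_sup_right (Subgroup.mem_zpowers a))) i)
    (Subgroup.mem_sup_left ((Subgroup.mem_normalizer_iff.mp hb d).mp hd))

/-- The action of `b` on the extensions of `θ` to `K ⊔ zpowers a` is a translation. -/
theorem exists_shift (ha : a ∈ stab K (θ : K → ℂ)) (hb : b ∈ stab K (θ : K → ℂ))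
    (hc : b * a * b⁻¹ * a⁻¹ ∈ K) (η : Cfsg.IrrCharacter (K ⊔ Subgroup.zpowers a : Subgroup G))
    (hη : ∀ k : K, (η : (K ⊔ Subgroup.zpowers a : Subgroup G) → ℂ)
      (Subgroup.inclusion le_sup_left k) = (θ : K → ℂ) k) :
    ∃ l : (K ⊔ Subgroup.zpowers a : Subgroup G) →* ℂˣ,
      (∀ x : (K ⊔ Subgroup.zpowers a : Subgroup G), (x : G) ∈ K → l x = 1) ∧
      conjI (normalizer_sup ha.1 hb.1 hc) η = Basic.twist l η := by
  have hn : (K ⊔ Subgroup.zpowers a) ≤ Subgroup.normalizer (K : Set G) :=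
    sup_le Subgroup.le_normalizer (Subgroup.zpowers_le.mpr ha.1)
  refine exists_twist (le_sup_left : K ≤ (K ⊔ Subgroup.zpowers a)) hn (fun x hx y hy => comm_mem ha.1 hx hy) η
    (conjI (normalizer_sup ha.1 hb.1 hc) η) θ hη ?_
  intro h0
  have h1 := coe_m (le_sup_left : K ≤ (K ⊔ Subgroup.zpowers a)) (conjI (normalizer_sup ha.1 hb.1 hc) η) θ
  rw [h0, Nat.cast_zero] at h1
  have e : (fun k : K => (conjI (normalizer_sup ha.1 hb.1 hc) η : (K ⊔ Subgroup.zpowers a : Subgroup G) → ℂ)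
      (Subgroup.inclusion le_sup_left k)) = (θ : K → ℂ) := by
    funext k
    rw [conjI_apply]
    have hk : b * (k : G) * b⁻¹ ∈ K := (Subgroup.mem_normalizer_iff.mp hb.1 _).mp k.2
    rw [show conjE (normalizer_sup ha.1 hb.1 hc) (Subgroup.inclusion le_sup_left k) =
      Subgroup.inclusion le_sup_left (⟨_, hk⟩ : K) from Subtype.ext rfl, hη]
    exact hb.2 k _ rfl
  rw [e, classInner_self_irr] at h1
  exact one_ne_zero h1

/-- If one extension is fixed by `b`, all of them are. -/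
theorem fix_all (ha : a ∈ stab K (θ : K → ℂ)) (hb : b ∈ stab K (θ : K → ℂ))
    (hc : b * a * b⁻¹ * a⁻¹ ∈ K) (η η' : Cfsg.IrrCharacter (K ⊔ Subgroup.zpowers a : Subgroup G))
    (hη : ∀ k : K, (η : (K ⊔ Subgroup.zpowers a : Subgroup G) → ℂ)
      (Subgroup.inclusion le_sup_left k) = (θ : K → ℂ) k)
    (hη' : ∀ k : K, (η' : (K ⊔ Subgroup.zpowers a : Subgroup G) → ℂ)
      (Subgroup.inclusion le_sup_left k) = (θ : K → ℂ) k)
    (hfix : InvAt b _ (η : (K ⊔ Subgroup.zpowers a : Subgroup G) → ℂ)) :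
    InvAt b _ (η' : (K ⊔ Subgroup.zpowers a : Subgroup G) → ℂ) := by
  have hn : (K ⊔ Subgroup.zpowers a) ≤ Subgroup.normalizer (K : Set G) :=
    sup_le Subgroup.le_normalizer (Subgroup.zpowers_le.mpr ha.1)
  obtain ⟨l, hl, rfl⟩ := exists_twist (le_sup_left : K ≤ (K ⊔ Subgroup.zpowers a)) hn
    (fun x hx y hy => comm_mem ha.1 hx hy) η η' θ hη (fun h0 => by
      have h1 := coe_m (le_sup_left : K ≤ (K ⊔ Subgroup.zpowers a)) η' θ
      rw [h0, Nat.cast_zero, funext hη', classInner_self_irr] at h1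
      exact one_ne_zero h1)
  rw [invAt_iff (normalizer_sup ha.1 hb.1 hc)] at hfix ⊢
  intro x
  rw [Basic.twist_apply, Basic.twist_apply, hfix]
  congr 2
  obtain ⟨d, i, hd, hx⟩ := exists_zpow_of_mem_sup ha.1 x.2
  set a₀ : (K ⊔ Subgroup.zpowers a : Subgroup G) := ⟨a, Subgroup.mem_sup_right (Subgroup.mem_zpowers a)⟩
  have ex : x = a₀ ^ i * ⟨d, Subgroup.mem_sup_left hd⟩ := Subtype.ext (by simpa [a₀] using hx)
  rw [ex, map_mul, map_mul, map_mul, map_zpow, map_zpow, map_zpow,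
    hl ⟨d, Subgroup.mem_sup_left hd⟩ hd,
    hl (conjE (normalizer_sup ha.1 hb.1 hc) ⟨d, Subgroup.mem_sup_left hd⟩)
      ((Subgroup.mem_normalizer_iff.mp hb.1 d).mp hd)]
  congr 2
  rw [show conjE (normalizer_sup ha.1 hb.1 hc) a₀ =
      ⟨b * a * b⁻¹ * a⁻¹, Subgroup.mem_sup_left hc⟩ * a₀ from
    Subtype.ext (by simp [a₀, coe_conjE]), map_mul, hl ⟨_, Subgroup.mem_sup_left hc⟩ hc, one_mul]

/-- Extendibility to `⟨K, a, b⟩` is the invariance of an extension to `⟨K, a⟩`. -/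
theorem extends_iff (ha : a ∈ stab K (θ : K → ℂ)) (hb : b ∈ stab K (θ : K → ℂ))
    (hc : b * a * b⁻¹ * a⁻¹ ∈ K) (η : Cfsg.IrrCharacter (K ⊔ Subgroup.zpowers a : Subgroup G))
    (hη : ∀ k : K, (η : (K ⊔ Subgroup.zpowers a : Subgroup G) → ℂ)
      (Subgroup.inclusion le_sup_left k) = (θ : K → ℂ) k) :
    Extends θ ((K ⊔ Subgroup.zpowers a) ⊔ Subgroup.zpowers b) ↔
      InvAt b _ (η : (K ⊔ Subgroup.zpowers a : Subgroup G) → ℂ) := by
  have hbB := normalizer_sup ha.1 hb.1 hc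
  constructor
  · rintro ⟨hKA, E, hE⟩
    obtain ⟨ξ, hξ, hξE⟩ := exists_restrict (le_sup_left : K ≤ (K ⊔ Subgroup.zpowers a)) le_sup_left E hE
    refine fix_all ha hb hc ξ η hξ hη ?_
    rw [invAt_iff hbB]
    intro y
    rw [hξE, hξE]
    have : Subgroup.inclusion (le_sup_left : (K ⊔ Subgroup.zpowers a) ≤ (K ⊔ Subgroup.zpowers a) ⊔ Subgroup.zpowers b) (conjE hbB y) =
        ⟨b, Subgroup.mem_sup_right (Subgroup.mem_zpowers b)⟩ * Subgroup.inclusion le_sup_left y *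
          (⟨b, Subgroup.mem_sup_right (Subgroup.mem_zpowers b)⟩ : ↥((K ⊔ Subgroup.zpowers a) ⊔ Subgroup.zpowers b))⁻¹ :=
      Subtype.ext rfl
    rw [this, isClassFunction_irr E]
  · intro h
    obtain ⟨E, hE⟩ := exists_ext_cyclic (le_sup_left : (K ⊔ Subgroup.zpowers a) ≤ (K ⊔ Subgroup.zpowers a) ⊔ Subgroup.zpowers b) η
      (sup_le (le_stab (isClassFunction_irr η)) (Subgroup.zpowers_le.mpr ⟨hbB, h⟩))
      (Subgroup.mem_sup_right (Subgroup.mem_zpowers b)) le_rfl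
    refine ⟨(le_sup_left : K ≤ (K ⊔ Subgroup.zpowers a)).trans le_sup_left, E, fun k => ?_⟩
    rw [← hη k, ← hE]
    rfl

/-- Invariance of an extension can be checked on two generators. -/
theorem fix_of_parts (ha : a ∈ stab K (θ : K → ℂ)) (hb : b ∈ stab K (θ : K → ℂ))
    (hc : b * a * b⁻¹ * a⁻¹ ∈ K) (η : Cfsg.IrrCharacter (K ⊔ Subgroup.zpowers a : Subgroup G))
    (hη : ∀ k : K, (η : (K ⊔ Subgroup.zpowers a : Subgroup G) → ℂ)
      (Subgroup.inclusion le_sup_left k) = (θ : K → ℂ) k)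
    {a₁ a₂ : G} (h₁ : a₁ ∈ Subgroup.zpowers a) (h₂ : a₂ ∈ Subgroup.zpowers a) (h12 : a₁ * a₂ = a)
    (he₁ : Extends θ ((K ⊔ Subgroup.zpowers a₁) ⊔ Subgroup.zpowers b))
    (he₂ : Extends θ ((K ⊔ Subgroup.zpowers a₂) ⊔ Subgroup.zpowers b)) :
    InvAt b _ (η : (K ⊔ Subgroup.zpowers a : Subgroup G) → ℂ) := by
  obtain ⟨l, hl, hshift⟩ := exists_shift ha hb hc η hη
  have hn : (K ⊔ Subgroup.zpowers a) ≤ Subgroup.normalizer (K : Set G) :=
    sup_le Subgroup.le_normalizer (Subgroup.zpowers_le.mpr ha.1)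
  have hbB := normalizer_sup ha.1 hb.1 hc
  have key : ∀ z : G, z ∈ Subgroup.zpowers a →
      Extends θ ((K ⊔ Subgroup.zpowers z) ⊔ Subgroup.zpowers b) →
      ∀ hz : z ∈ (K ⊔ Subgroup.zpowers a), l ⟨z, hz⟩ = 1 := by
    intro z hz he hzB
    have hzs : z ∈ stab K (θ : K → ℂ) := Subgroup.zpowers_le.mpr ha hz
    have hcz : b * z * b⁻¹ * z⁻¹ ∈ K := by
      obtain ⟨i, rfl⟩ := hz
      have e : b * a ^ i * b⁻¹ = (b * a * b⁻¹ * a⁻¹ * a) ^ i := by
        rw [inv_mul_cancel_right, conj_zpow]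
      have hmem : b * a * b⁻¹ * a⁻¹ ∈ (K ⊔ Subgroup.zpowers a) := Subgroup.mem_sup_left hc
      have ha' : a ∈ (K ⊔ Subgroup.zpowers a) := Subgroup.mem_sup_right (Subgroup.mem_zpowers a)
      haveI : (K.subgroupOf (K ⊔ Subgroup.zpowers a)).Normal :=
        (Subgroup.normal_subgroupOf_iff_le_normalizer le_sup_left).mpr hn
      have h1 : ((⟨b * a * b⁻¹ * a⁻¹, hmem⟩ * ⟨a, ha'⟩   : (K ⊔ Subgroup.zpowers a : Subgroup G)) : ↥(K ⊔ Subgroup.zpowers a) ⧸ K.subgroupOf (K ⊔ Subgroup.zpowers a)) ^ i =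
          ((⟨a, ha'⟩   : (K ⊔ Subgroup.zpowers a : Subgroup G)) : ↥(K ⊔ Subgroup.zpowers a) ⧸ K.subgroupOf (K ⊔ Subgroup.zpowers a)) ^ i := by
        rw [QuotientGroup.mk_mul, (QuotientGroup.eq_one_iff (⟨_, hmem⟩ : (K ⊔ Subgroup.zpowers a : Subgroup G))).mpr
          (Subgroup.mem_subgroupOf.mpr hc), one_mul]
      rw [← QuotientGroup.mk_zpow, ← QuotientGroup.mk_zpow, QuotientGroup.eq_iff_div_mem,
        Subgroup.mem_subgroupOf, div_eq_mul_inv] at h1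
      show b * a ^ i * b⁻¹ * (a ^ i)⁻¹ ∈ K
      rw [e]
      simpa using h1
    set B' := K ⊔ Subgroup.zpowers z
    have hle : B' ≤ (K ⊔ Subgroup.zpowers a) := sup_le le_sup_left (Subgroup.zpowers_le.mpr hzB)
    obtain ⟨ξ, hξ, hξη⟩ := exists_restrict (le_sup_left : K ≤ B') hle η hη
    have hfix := (extends_iff hzs hb hcz ξ hξ).mp he
    rw [invAt_iff (normalizer_sup hzs.1 hb.1 hcz)] at hfix
    have htriv := twist_trivial (le_sup_left : K ≤ B') (hle.trans hn)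
      (fun x hx y hy => comm_mem hzs.1 hx hy) θ ξ hξ (l := l.comp (Subgroup.inclusion hle))
      (fun x hx => hl _ hx) (fun y => ?_) ⟨z, Subgroup.mem_sup_right (Subgroup.mem_zpowers z)⟩
    · exact htriv
    · have h2 := congrFun (congrArg Subtype.val hshift) (Subgroup.inclusion hle y)
      rw [conjI_apply, Basic.twist_apply] at h2
      rw [MonoidHom.comp_apply, hξη, ← h2]
      refine Eq.trans ?_ ((hfix y).trans (hξη y))
      rw [hξη]
      exact congrArg (η : (K ⊔ Subgroup.zpowers a : Subgroup G) → ℂ) (Subtype.ext rfl)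
  have h1B : a₁ ∈ (K ⊔ Subgroup.zpowers a) := Subgroup.mem_sup_right h₁
  have h2B : a₂ ∈ (K ⊔ Subgroup.zpowers a) := Subgroup.mem_sup_right h₂
  rw [invAt_iff hbB]
  intro x
  have h2 := congrFun (congrArg Subtype.val hshift) x
  rw [conjI_apply, Basic.twist_apply] at h2
  rw [h2]
  obtain ⟨d, i, hd, hx⟩ := exists_zpow_of_mem_sup ha.1 x.2
  have ha0 : l ⟨a, Subgroup.mem_sup_right (Subgroup.mem_zpowers a)⟩ = 1 := by
    rw [show (⟨a, Subgroup.mem_sup_right (Subgroup.mem_zpowers a)⟩ : (K ⊔ Subgroup.zpowers a : Subgroup G)) = ⟨a₁, h1B⟩ * ⟨a₂, h2B⟩ from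
      Subtype.ext h12.symm, map_mul, key a₁ h₁ he₁ h1B, key a₂ h₂ he₂ h2B, one_mul]
  rw [show x = (⟨a, Subgroup.mem_sup_right (Subgroup.mem_zpowers a)⟩ : (K ⊔ Subgroup.zpowers a : Subgroup G)) ^ i *
      ⟨d, Subgroup.mem_sup_left hd⟩ from Subtype.ext (by simpa using hx), map_mul, map_zpow, ha0,
    one_zpow, one_mul, hl ⟨d, Subgroup.mem_sup_left hd⟩ hd, Units.val_one, one_mul]

end Cfsg.Agent.Lib.RelMcKay.Extend
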