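import Cfsg.Agent.Lib.RelMcKay.Core
import Cfsg.Agent.Lib.PSolvable.Basic

/-!
# The relative count in a `p`-soluble group, by induction
-/

set_option autoImplicit false

namespace Cfsg.Agent.Lib.RelMcKay.Main

open scoped ComplexConjugate Classical
open Cfsg.Agent.Lib.Characters Cfsg.Agent.Lib.Characters.Basic Cfsg.Agent.Lib.Induced.Basic
open Cfsg.Agent.Lib.RelMcKay.Rel Cfsg.Agent.Lib.RelMcKay.Count Cfsg.Agent.Lib.RelMcKay.Corr
open Cfsg.Agent.Lib.RelMcKay.Pairs (liftI)

universe u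

variable {p : ℕ} [hp : Fact p.Prime]

section

variable {G : Type u} [Group G]

omit hp in
theorem normalizer_le_normalizer_sup [Finite G] {S L : Subgroup G} [L.Normal] :
    Subgroup.normalizer (S : Set G) ≤ Subgroup.normalizer ((S ⊔ L : Subgroup G) : Set G) := by
  intro g hg
  refine Subgroup.mem_normalizer_fintype fun z hz => ?_
  have hle : S ⊔ L ≤ (S ⊔ L).comap (MulAut.conj g).toMonoidHom := sup_le
    (fun s hs => Subgroup.mem_sup_left ((Subgroup.mem_normalizer_iff.mp hg s).mp hs))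
    (fun l hl => Subgroup.mem_sup_right (Subgroup.Normal.conj_mem inferInstance l hl g))
  simpa using hle hz

omit hp in
theorem normalizer_sup_mono [Finite G] {S L M : Subgroup G} [M.Normal] (hLM : L ≤ M) :
    Subgroup.normalizer ((S ⊔ L : Subgroup G) : Set G) ≤
      Subgroup.normalizer ((S ⊔ M : Subgroup G) : Set G) := by
  intro g hg
  refine Subgroup.mem_normalizer_fintype fun z hz => ?_
  have hle : S ⊔ M ≤ (S ⊔ M).comap (MulAut.conj g).toMonoidHom := sup_le
    (fun s hs => (sup_le_sup_left hLM S) ((Subgroup.mem_normalizer_iff.mp hg s).mp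
      (Subgroup.mem_sup_left hs)))
    (fun m hm => Subgroup.mem_sup_right (Subgroup.Normal.conj_mem inferInstance m hm g))
  simpa using hle hz

/-- A normal subgroup which is a `p`-group modulo `L` lies below the Sylow subgroup times `L`. -/
theorem le_sup_of_pow [Finite G] {S L M : Subgroup G} [L.Normal] [hM : M.Normal]
    (hS : IsPGroup p S) (hidx : ¬ p ∣ S.index) {a : ℕ} (ha : L.relIndex M = p ^ a) : M ≤ S ⊔ L := by
  let π := QuotientGroup.mk' L
  have hπ : Function.Surjective π := QuotientGroup.mk'_surjective L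
  have hMp : IsPGroup p (M.map π) := by
    refine IsPGroup.of_card (n := a) ?_
    rw [← ha, ← Subgroup.relIndex_ker, QuotientGroup.ker_mk']
  haveI : (M.map π).Normal := hM.map π hπ
  have hdvd : ¬ p ∣ (S.map π).index := fun h => hidx (h.trans (Subgroup.index_map_dvd S hπ))
  let P : Sylow p (G ⧸ L) := (hS.map π).toSylow hdvd
  have h1 : M.map π ⊔ S.map π = S.map π :=
    P.is_maximal' (IsPGroup.to_sup_of_normal_left hMp (hS.map π)) le_sup_right
  have h2 : M ≤ (S.map π).comap π := fun m hm => (h1.le) (Subgroup.mem_sup_left ⟨m, hm, rfl⟩)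
  rw [Subgroup.comap_map_eq, QuotientGroup.ker_mk'] at h2
  exact h2

variable [Fintype G]

omit hp in
theorem cnt_conj {K H : Subgroup G} (h : K ≤ H) {g : G} (hgH : g ∈ H)
    (hgK : g ∈ Subgroup.normalizer (K : Set G)) (θ : Cfsg.IrrCharacter K) :
    cnt p h (conjI hgK θ) = cnt p h θ :=
  cnt_congr h h (conjE hgK) (conjE (Subgroup.le_normalizer hgH)) (fun _ => Subtype.ext rfl) θ
    (conjI hgK θ) fun _ => rfl

/-- The case of a `p'`-quotient with normal Sylow part: the two decompositions correspond. -/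
theorem coprime_case {L M S : Subgroup G} [L.Normal] [hMn : M.Normal] (hLM : L ≤ M)
    (hidx : ¬ p ∣ L.relIndex M) (hS : IsPGroup p S) (hSidx : ¬ p ∣ S.index)
    (hnor : ∀ g : G, g ∈ Subgroup.normalizer ((M ⊔ S : Subgroup G) : Set G))
    {ν : Cfsg.IrrCharacter L} (hν : InvBy S L (ν : L → ℂ))
    (h : L ≤ Subgroup.normalizer ((S ⊔ L : Subgroup G) : Set G)) :
    cnt p (le_top : L ≤ ⊤) ν = cnt p h ν := by
  obtain ⟨N, hN⟩ : ∃ N, Subgroup.normalizer ((S ⊔ L : Subgroup G) : Set G) = N := ⟨_, rfl⟩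
  revert h
  rw [hN]
  intro h
  have hnorm : ∀ g : G, g ∈ Subgroup.normalizer (M : Set G) := fun g => by
    rw [Subgroup.normalizer_eq_top]; exact Subgroup.mem_top g
  have hnormL : ∀ g : G, g ∈ Subgroup.normalizer (L : Set G) := fun g => by
    rw [Subgroup.normalizer_eq_top]; exact Subgroup.mem_top g
  have hn : S ≤ Subgroup.normalizer (M : Set G) := fun g _ => hnorm g
  have hSN : S ≤ N := hN ▸ le_sup_left.trans Subgroup.le_normalizer
  have hNS : Subgroup.normalizer (S : Set G) ≤ N := hN ▸ normalizer_le_normalizer_sup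
  have hconjS : ∀ g ∈ N, ∀ s ∈ S, g * s * g⁻¹ ∈ S ⊔ L ∧ g⁻¹ * s * g ∈ S ⊔ L := fun g hg s hs => by
    rw [← hN] at hg
    exact ⟨(Subgroup.mem_normalizer_iff.mp hg s).mp (Subgroup.mem_sup_left hs),
      (Subgroup.mem_normalizer_iff''.mp hg s).mp (Subgroup.mem_sup_left hs)⟩
  have hNC : N ≤ Subgroup.normalizer (fixC L M S : Set G) := fun g hg =>
    mem_normalizer_fixC hLM (hnorm g) fun s hs => (hconjS g hg s hs).2
  have hCN : fixC L M S ≤ N := by
    intro c hc
    rw [← hN]
    refine Subgroup.mem_normalizer_fintype fun z hz => ?_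
    have hle : S ⊔ L ≤ (S ⊔ L).comap (MulAut.conj c).toMonoidHom := sup_le (fun s hs => by
      have h1 := (mem_fixC.mp hc).2 s hs
      have e : c * s * c⁻¹ = (s * c * s⁻¹ * c⁻¹)⁻¹ * s := by simp [mul_assoc]
      show c * s * c⁻¹ ∈ S ⊔ L
      rw [e]
      exact mul_mem (Subgroup.mem_sup_right (inv_mem h1)) (Subgroup.mem_sup_left hs))
      (fun l hl => Subgroup.mem_sup_right (Subgroup.Normal.conj_mem inferInstance l hl c))
    simpa using hle hz
  have hSC : S ≤ Subgroup.normalizer (fixC L M S : Set G) := hSN.trans hNC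
  have hLC : L ≤ fixC L M S := le_fixC hLM
  haveI : Fintype (Quotient (invSetoid p S hLM ν)) := Fintype.ofFinite _
  haveI : Fintype (Quotient (invSetoid p S hLC ν)) := Fintype.ofFinite _
  rw [decomp hLM (le_top : M ≤ ⊤) (fun g _ => hnorm g) hS hSidx le_top le_top hν,
    decomp hLC hCN hNC hS hSidx hSN hNS hν]
  -- multiplicities over `ν` through the correspondent
  have hmν : ∀ (θ : Cfsg.IrrCharacter M) (β : Cfsg.IrrCharacter (fixC L M S)),
      InvBy S M (θ : M → ℂ) → ¬ p ∣ Cfsg.charDegree (θ : M → ℂ) →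
      InvBy S _ (β : fixC L M S → ℂ) → ¬ p ∣ m (fixC_le L M S) θ β →
      (m hLM θ ν : ZMod p) = (m (fixC_le L M S) θ β : ZMod p) * m hLC β ν := by
    intro θ β hθ hd hβ hm
    rw [show m hLM θ ν = m (hLC.trans (fixC_le L M S)) θ ν from rfl,
      m_trans hS hLC (fixC_le L M S) (fun g _ => hnormL g) hSC hn hθ hν]
    refine Finset.sum_eq_single β (fun δ hδ hne => ?_) (fun h0 => ?_)
    · have hdv : p ∣ m (fixC_le L M S) θ δ := by
        by_contra hnd
        exact hne (unique hLM hidx hS hn hθ hd hβ (Finset.mem_filter.mp hδ).2 hm hnd)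
      rw [(ZMod.natCast_eq_zero_iff _ _).mpr hdv, zero_mul]
    · exact (h0 (by simp only [Finset.mem_filter, Finset.mem_univ, true_and]; exact hβ)).elim
  have hnd : ∀ {K : Subgroup G} (hLK : L ≤ K) (θ : Cfsg.IrrCharacter K),
      ¬ p ∣ Cfsg.charDegree (θ : K → ℂ) → m hLK θ ν ≠ 0 → ((m hLK θ ν : ℕ) : ZMod p) ≠ 0 := by
    intro K hLK θ hd hm
    obtain ⟨t, ht⟩ := clifford_deg hLK (fun g _ => hnormL g) θ ν hm
    rw [Ne, ZMod.natCast_eq_zero_iff]
    exact fun h0 => hd (ht ▸ dvd_mul_of_dvd_left (dvd_mul_of_dvd_left h0 t) _)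
  have hex : ∀ a : Inv p S hLM ν, ∃ b : Inv p S hLC ν, ¬ p ∣ m (fixC_le L M S) a.1 b.1 := by
    rintro ⟨θ, hθ, hd, hm⟩
    obtain ⟨β, hβ, hmβ, hdβ⟩ := exists_corr hLM hidx hS hn hθ hd
    refine ⟨⟨β, hβ, hdβ, fun h0 => ?_⟩, hmβ⟩
    apply hnd hLM θ hd hm
    rw [hmν θ β hθ hd hβ hmβ, h0, Nat.cast_zero, mul_zero]
  choose F hF using hex
  have hnC : ∀ g ∈ Subgroup.normalizer (S : Set G), g ∈ Subgroup.normalizer (fixC L M S : Set G) :=
    fun g hg => hNC (hNS hg)
  have hgS : ∀ g ∈ Subgroup.normalizer (S : Set G), ∀ s ∈ S, g * s * g⁻¹ ∈ S ⊔ L :=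
    fun g hg s hs => (hconjS g (hNS hg) s hs).1
  have hresp : ∀ a b : Inv p S hLM ν, Conj S a.1 b.1 ↔ Conj S (F a).1 (F b).1 := by
    intro a b
    constructor
    · rintro ⟨g, hg, hgM, he⟩
      refine ⟨g, hg, hnC g hg, unique hLM hidx hS hn b.2.1 b.2.2.1 (F b).2.1
        (invBy_conjI hLC hSC (hnC g hg) (hgS g hg) (F a).2.1) (hF b) ?_⟩
      rw [← he, m_conj]
      exact hF a
    · rintro ⟨g, hg, hgC, he⟩
      refine ⟨g, hg, hnorm g, inj hLM hidx hS hn b.2.1 b.2.2.1
        (invBy_conjI hLM hn (hnorm g) (hgS g hg) a.2.1) ?_ (F b).2.1 (hF b) ?_⟩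
      · simpa only [Cfsg.charDegree, conjI_apply, map_one] using a.2.2.1
      · rw [← he, m_conj]
        exact hF a
  let Φ : Quotient (invSetoid p S hLM ν) → Quotient (invSetoid p S hLC ν) :=
    Quotient.map F fun a b hab => (hresp a b).mp hab
  have hΦ : Function.Bijective Φ := by
    constructor
    · intro c c'
      induction c using Quotient.inductionOn with
      | _ a =>
        induction c' using Quotient.inductionOn with
        | _ b => exact fun he => Quotient.sound ((hresp a b).mpr (Quotient.exact he))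
    · intro c
      induction c using Quotient.inductionOn with
      | _ b =>
        obtain ⟨θ, hθ, hd, hm⟩ := surj hLM hidx hS hn b.2.1 b.2.2.1
        have hθν : m hLM θ ν ≠ 0 := by
          intro h0
          have h1 := hmν θ b.1 hθ hd b.2.1 hm
          rw [h0, Nat.cast_zero, eq_comm, mul_eq_zero] at h1
          exact h1.elim (fun h2 => hm ((ZMod.natCast_eq_zero_iff _ _).mp h2))
            (hnd hLC b.1 b.2.2.1 b.2.2.2)
        refine ⟨Quotient.mk _ ⟨θ, hθ, hd, hθν⟩, ?_⟩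
        have e : F ⟨θ, hθ, hd, hθν⟩ = b := Subtype.ext
          (unique hLM hidx hS hn hθ hd b.2.1 (F ⟨θ, hθ, hd, hθν⟩).2.1 hm (hF ⟨θ, hθ, hd, hθν⟩))
        show Quotient.mk _ (F _) = _
        rw [e]
  refine Fintype.sum_bijective Φ hΦ _ _ fun c => ?_
  induction c using Quotient.inductionOn with
  | _ a₀ =>
  obtain ⟨a, ha⟩ : ∃ a : Inv p S hLM ν, (Quotient.mk (invSetoid p S hLM ν) a₀).out = a := ⟨_, rfl⟩
  have hmk : Quotient.mk (invSetoid p S hLM ν) a = Quotient.mk (invSetoid p S hLM ν) a₀ :=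
    ha ▸ Quotient.out_eq _
  rw [ha, ← hmk, show Φ (Quotient.mk _ a) = Quotient.mk _ (F a) from rfl]
  obtain ⟨g, hg, hgC, he⟩ : Conj S (Quotient.mk (invSetoid p S hLC ν) (F a)).out.1 (F a).1 :=
    Quotient.exact (Quotient.out_eq (Quotient.mk (invSetoid p S hLC ν) (F a)))
  rw [← cnt_conj hCN (hNS hg) hgC, he]
  obtain ⟨T, hT⟩ : ∃ T, stab M (a.1 : M → ℂ) = T := ⟨_, rfl⟩
  have hMT : M ≤ T := hT ▸ le_stab (isClassFunction_irr a.1)
  have hST : S ≤ T := hT ▸ fun s hs => ⟨hnorm s, a.2.1 s hs⟩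
  rw [cnt_inertia (le_top : M ≤ ⊤) (fun g _ => hnorm g) a.1 hMT (fun g => by
    rw [← hT, mem_stab]
    exact ⟨fun h0 => ⟨Subgroup.mem_top g, h0.2⟩, fun h0 => ⟨hnorm g, h0.2⟩⟩)
    (fun h0 => hSidx (h0.trans (PExt.index_sup_dvd hST le_top)))]
  have hCU : fixC L M S ≤ T ⊓ N := le_inf ((fixC_le L M S).trans hMT) hCN
  rw [cnt_inertia hCN hNC (F a).1 (T := T ⊓ N) hCU (fun g => by
    rw [Subgroup.mem_inf, ← hT, mem_stab]
    refine ⟨fun h0 => ⟨h0.2, ?_⟩, fun h0 => ⟨⟨hnorm g, ?_⟩, h0.1⟩⟩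
    · exact (conj_corr hLM hidx hS hn (hnorm g) (hNC h0.2) (fun s hs => (hconjS g h0.2 s hs).1)
        a.2.1 a.2.2.1 (F a).2.1 (hF a)).mp h0.1.2
    · exact (conj_corr hLM hidx hS hn (hnorm g) (hNC h0.1) (fun s hs => (hconjS g h0.1 s hs).1)
        a.2.1 a.2.2.1 (F a).2.1 (hF a)).mpr h0.2)
    (fun h0 => hSidx (h0.trans (PExt.index_sup_dvd (le_inf hST hSN) inf_le_right)))]
  have hdata : Reduce.Data p M T S a.1 :=
    { KT := hMT
      ST := hST
      inv := hT.ge
      nor := fun g _ => hnor g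
      pgrp := hS
      idx := hSidx
      deg := a.2.2.1 }
  revert hCU
  rw [← hN]
  intro hCU
  exact Core.core hLM hidx hdata (F a).2.1 (F a).2.2.1 (hF a) hCU

end

/-- The relative count. -/
theorem main : ∀ (n : ℕ) (G : Type u) [Group G] [Fintype G] (L : Subgroup G) [L.Normal]
    (S : Subgroup G), Nat.card G + L.index = n → Cfsg.IsPSolvable p G → IsPGroup p S →
    ¬ p ∣ S.index → ∀ (ν : Cfsg.IrrCharacter L), InvBy S L (ν : L → ℂ) →
    ∀ h : L ≤ Subgroup.normalizer ((S ⊔ L : Subgroup G) : Set G),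
    cnt p (le_top : L ≤ ⊤) ν = cnt p h ν := by
  intro n
  induction n using Nat.strong_induction_on with
  | _ n ih =>
  intro G _ _ L _ S hn hps hS hSidx ν hν h
  by_cases hNtop : Subgroup.normalizer ((S ⊔ L : Subgroup G) : Set G) = ⊤
  · revert h
    rw [hNtop]
    intro h
    rfl
  have hLtop : L ≠ ⊤ := by
    rintro rfl
    apply hNtop
    rw [sup_top_eq, Subgroup.normalizer_eq_top]
  obtain ⟨M, hMn, hLM, hM⟩ := PSolvable.exists_step hps L hLtop
  have hnorm : ∀ g : G, g ∈ Subgroup.normalizer (M : Set G) := fun g => by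
    rw [Subgroup.normalizer_eq_top]; exact Subgroup.mem_top g
  obtain ⟨N', hN'⟩ : ∃ N', Subgroup.normalizer ((S ⊔ M : Subgroup G) : Set G) = N' := ⟨_, rfl⟩
  have hNN' : Subgroup.normalizer ((S ⊔ L : Subgroup G) : Set G) ≤ N' :=
    hN' ▸ normalizer_sup_mono hLM.le
  have hSN' : S ≤ N' := (le_sup_left.trans Subgroup.le_normalizer).trans hNN'
  have hMN' : M ≤ N' := hN' ▸ le_sup_right.trans Subgroup.le_normalizer
  have hNSN' : Subgroup.normalizer (S : Set G) ≤ N' :=
    normalizer_le_normalizer_sup.trans hNN'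
  have hMidx : M.index < L.index := by
    have h1 := Subgroup.relIndex_mul_index hLM.le
    have h2 : L.relIndex M ≠ 1 := fun h2 => hLM.not_ge (Subgroup.relIndex_eq_one.mp h2)
    have h3 : L.relIndex M ≠ 0 := fun h3 => by
      rw [h3, zero_mul] at h1
      exact Subgroup.index_ne_zero_of_finite h1.symm
    have h4 : 0 < M.index := Nat.pos_of_ne_zero Subgroup.index_ne_zero_of_finite
    calc M.index = 1 * M.index := (one_mul _).symm
      _ < L.relIndex M * M.index := Nat.mul_lt_mul_of_pos_right (by omega) h4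
      _ = L.index := h1
  haveI : Fintype (Quotient (invSetoid p S hLM.le ν)) := Fintype.ofFinite _
  have h1 : cnt p (le_top : L ≤ ⊤) ν = cnt p (hLM.le.trans hMN') ν := by
    rw [decomp hLM.le (le_top : M ≤ ⊤) (fun g _ => hnorm g) hS hSidx le_top le_top hν,
      decomp hLM.le hMN' (fun g _ => hnorm g) hS hSidx hSN' hNSN' hν]
    refine Finset.sum_congr rfl fun c _ => ?_
    have h2 := ih (Nat.card G + M.index) (by omega) G M S rfl hps hS hSidx c.out.1 c.out.2.1
      (le_sup_right.trans Subgroup.le_normalizer)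
    rw [h2]
    congr 1
  by_cases hN'top : N' = ⊤
  · rcases hM with ⟨a, ha⟩ | hc
    · exfalso
      apply hNtop
      have e : S ⊔ L = S ⊔ M := le_antisymm (sup_le_sup_left hLM.le S)
        (sup_le le_sup_left (le_sup_of_pow hS hSidx ha))
      rw [e, hN', hN'top]
    · refine coprime_case hLM.le ((Nat.Prime.coprime_iff_not_dvd hp.out).mp hc.symm) hS hSidx
        (fun g => ?_) hν h
      rw [sup_comm, hN', hN'top]
      exact Subgroup.mem_top g
  rw [h1]
  have hLN' : L ≤ N' := hLM.le.trans hMN'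
  have hSL : S ⊔ L ≤ N' := sup_le hSN' hLN'
  have hcard : Nat.card N' + (L.subgroupOf N').index < n := by
    have h2 : Nat.card N' < Nat.card G := lt_of_le_of_ne (Subgroup.card_le_card_group N')
      fun h2 => hN'top (Subgroup.eq_top_of_card_eq N' h2)
    have h3 : (L.subgroupOf N').index ≤ L.index := Nat.le_of_dvd
      (Nat.pos_of_ne_zero Subgroup.index_ne_zero_of_finite)
      (Subgroup.relIndex_dvd_index_of_normal L N')
    omega
  haveI : (L.subgroupOf N').Normal := Subgroup.Normal.subgroupOf inferInstance N'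
  have hSidx' : ¬ p ∣ (S.subgroupOf N').index := fun h2 => hSidx (by
    rw [← Subgroup.relIndex_mul_index hSN']
    exact dvd_mul_of_dvd_left h2 _)
  have hnorm' : Subgroup.normalizer ((S.subgroupOf N' ⊔ L.subgroupOf N' : Subgroup N') : Set N') =
      (Subgroup.normalizer ((S ⊔ L : Subgroup G) : Set G)).subgroupOf N' := by
    rw [← Subgroup.subgroupOf_sup hSN' hLN']
    ext x
    rw [Subgroup.mem_subgroupOf]
    refine ⟨fun hx => Subgroup.mem_normalizer_fintype fun z hz => ?_,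
      fun hx => Subgroup.mem_normalizer_fintype fun z hz => ?_⟩
    · exact Subgroup.mem_subgroupOf.mp
        ((Subgroup.mem_normalizer_iff.mp hx ⟨z, hSL hz⟩).mp (Subgroup.mem_subgroupOf.mpr hz))
    · exact Subgroup.mem_subgroupOf.mpr
        ((Subgroup.mem_normalizer_iff.mp hx z).mp (Subgroup.mem_subgroupOf.mp hz))
  have h2 := ih _ hcard N' (L.subgroupOf N') (S.subgroupOf N') rfl
    (PSolvable.isPSolvable_subgroup hps N') (hS.comap_of_injective N'.subtype N'.subtype_injective)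
    hSidx' (liftI hLN' ν) (fun s hs x y hy => hν s (Subgroup.mem_subgroupOf.mp hs) _ _
      (congrArg Subtype.val hy)) (le_sup_right.trans Subgroup.le_normalizer)
  rw [← cnt_congr hLN' (le_top : L.subgroupOf N' ≤ ⊤) (Subgroup.subgroupOfEquivOfLe hLN')
    Subgroup.topEquiv (fun _ => Subtype.ext rfl) ν (liftI hLN' ν) (fun _ => rfl), h2]
  exact cnt_congr h _ (Subgroup.subgroupOfEquivOfLe hLN')
    ((MulEquiv.subgroupCongr hnorm').trans (Subgroup.subgroupOfEquivOfLe hNN'))
    (fun _ => Subtype.ext rfl) ν (liftI hLN' ν) (fun _ => rfl)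

end Cfsg.Agent.Lib.RelMcKay.Main
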