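import Cfsg.Agent.Lib.RelMcKay.Count
import Cfsg.Agent.Lib.BlocksChars5.Restrict

/-!
# Extensions over a normal `p`-quotient
-/

set_option autoImplicit false

namespace Cfsg.Agent.Lib.RelMcKay.PExt

open scoped ComplexConjugate Classical
open Cfsg.Agent.Lib.Characters Cfsg.Agent.Lib.Characters.Basic Cfsg.Agent.Lib.Induced.Basic
open Cfsg.Agent.Lib.RelMcKay.Rel Cfsg.Agent.Lib.RelMcKay.Count
open Cfsg.Agent.Lib.RelMcKay.Pairs (liftI cntOver)
open Cfsg.Agent.Lib.RelMcKay.Extend (Extends)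

universe u

variable {G : Type u} [Group G] {p : ℕ} [hp : Fact p.Prime]

omit hp in
theorem mem_of_coprime_pow {L : Subgroup G} {z : G} {a b : ℕ} (hab : a.Coprime b) (ha : z ^ a ∈ L)
    (hb : z ^ b ∈ L) : z ∈ L := by
  have hb' := Nat.gcd_eq_gcd_ab a b
  rw [hab.gcd_eq_one] at hb'
  have e : z = (z ^ a) ^ Nat.gcdA a b * (z ^ b) ^ Nat.gcdB a b := by
    rw [← zpow_natCast, ← zpow_natCast _ b, ← zpow_mul, ← zpow_mul, ← zpow_add, ← hb', Nat.cast_one,
      zpow_one]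
  rw [e]
  exact L.mul_mem (L.zpow_mem ha _) (L.zpow_mem hb _)

/-- The two parts of an element. -/
theorem exists_parts [Finite G] (x : G) :
    ∃ (x₁ x₂ : G) (e r : ℕ), x₁ ∈ Subgroup.zpowers x ∧ x₂ ∈ Subgroup.zpowers x ∧ x₁ * x₂ = x ∧
      ¬ p ∣ r ∧ x₁ ^ p ^ e = 1 ∧ x₂ ^ r = 1 := by
  obtain ⟨e, r, hr, ho⟩ : ∃ e r, ¬ p ∣ r ∧ orderOf x = p ^ e * r :=
    Nat.exists_eq_pow_mul_and_not_dvd (orderOf_pos x).ne' p hp.out.one_lt.ne'
  have hg : Nat.gcd (p ^ e) r = 1 :=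
    Nat.Coprime.pow_left e ((Nat.Prime.coprime_iff_not_dvd hp.out).mpr hr)
  have hb := Nat.gcd_eq_gcd_ab (p ^ e) r
  rw [hg] at hb
  refine ⟨(x ^ r) ^ Nat.gcdB (p ^ e) r, (x ^ p ^ e) ^ Nat.gcdA (p ^ e) r, e, r,
    Subgroup.zpow_mem _ (Subgroup.pow_mem _ (Subgroup.mem_zpowers x) _) _,
    Subgroup.zpow_mem _ (Subgroup.pow_mem _ (Subgroup.mem_zpowers x) _) _, ?_, hr, ?_, ?_⟩
  · rw [← zpow_natCast, ← zpow_natCast _ (p ^ e), ← zpow_mul, ← zpow_mul, ← zpow_add, add_comm, ← hb,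
      Nat.cast_one, zpow_one]
  · rw [← zpow_natCast _ (p ^ e), ← zpow_mul, mul_comm, zpow_mul, zpow_natCast, ← pow_mul,
      mul_comm r, ← ho, pow_orderOf_eq_one, one_zpow]
  · rw [← zpow_natCast _ r, ← zpow_mul, mul_comm, zpow_mul, zpow_natCast, ← pow_mul, ← ho,
      pow_orderOf_eq_one, one_zpow]

omit hp in
theorem exists_mul_of_mem_sup {K S : Subgroup G} (hn : S ≤ Subgroup.normalizer (K : Set G)) {z : G}
    (hz : z ∈ K ⊔ S) : ∃ k ∈ K, ∃ s ∈ S, z = k * s := by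
  have h : z ∈ ((K ⊔ S : Subgroup G) : Set G) := hz
  rw [Subgroup.coe_mul_of_right_le_normalizer_left _ _ hn] at h
  obtain ⟨k, hk, s, hs, rfl⟩ := h
  exact ⟨k, hk, s, hs, rfl⟩

omit hp in
/-- Replacing a generator by one congruent to it. -/
theorem sup_congr {D X : Subgroup G} (hDX : D ≤ X) {y y' : G} (h : y⁻¹ * y' ∈ D) :
    X ⊔ Subgroup.zpowers y = X ⊔ Subgroup.zpowers y' := by
  refine le_antisymm (sup_le le_sup_left (Subgroup.zpowers_le.mpr ?_))
    (sup_le le_sup_left (Subgroup.zpowers_le.mpr ?_))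
  · have h1 : y' * (y⁻¹ * y')⁻¹ ∈ X ⊔ Subgroup.zpowers y' :=
      mul_mem (Subgroup.mem_sup_right (Subgroup.mem_zpowers y')) (inv_mem (Subgroup.mem_sup_left (hDX h)))
    simpa using h1
  · have h1 : y * (y⁻¹ * y') ∈ X ⊔ Subgroup.zpowers y :=
      mul_mem (Subgroup.mem_sup_right (Subgroup.mem_zpowers y)) (Subgroup.mem_sup_left (hDX h))
    rwa [mul_inv_cancel_left] at h1

variable [Fintype G] {S : Subgroup G}

omit [Fintype G] hp in
theorem index_sup_dvd {A T : Subgroup G} (hSA : S ≤ A) (hAT : A ≤ T) :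
    A.relIndex T ∣ S.index := by
  rw [← Subgroup.relIndex_mul_index (hSA.trans hAT)]
  exact dvd_mul_of_dvd_left (Subgroup.relIndex_dvd_of_le_left T hSA) _

omit [Fintype G] in
/-- A `p`-element of `T` lies in a normal subgroup containing a Sylow subgroup. -/
theorem mem_of_pow_prime {A T : Subgroup G} (hSA : S ≤ A) (hAT : A ≤ T)
    (hTA : T ≤ Subgroup.normalizer (A : Set G)) (hidx : ¬ p ∣ S.index) {z : G} (hz : z ∈ T) {e : ℕ}
    (hze : z ^ p ^ e = 1) : z ∈ A := by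
  haveI : (A.subgroupOf T).Normal := (Subgroup.normal_subgroupOf_iff_le_normalizer hAT).mpr hTA
  refine mem_of_coprime_pow (a := p ^ e) (b := A.relIndex T) ?_ (hze ▸ A.one_mem) ?_
  · exact Nat.Coprime.pow_left e ((Nat.Prime.coprime_iff_not_dvd hp.out).mpr
      fun h => hidx (h.trans (index_sup_dvd hSA hAT)))
  · exact Subgroup.mem_subgroupOf.mp (Subgroup.pow_index_mem (A.subgroupOf T) ⟨z, hz⟩)

/-- Frattini. -/
theorem frattini (hS : IsPGroup p S) (hidx : ¬ p ∣ S.index) {A : Subgroup G} (hSA : S ≤ A) {g : G}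
    (hg : g ∈ Subgroup.normalizer (A : Set G)) :
    ∃ a ∈ A, a * g ∈ Subgroup.normalizer (S : Set G) := by
  have hAidx : ¬ p ∣ (S.subgroupOf A).index := fun h => hidx (by
    rw [← Subgroup.relIndex_mul_index hSA]
    exact dvd_mul_of_dvd_left h _)
  let P₁ : Sylow p A := (hS.comap_of_injective A.subtype A.subtype_injective).toSylow hAidx
  let R : Subgroup A := (S.map (MulAut.conj g).toMonoidHom).subgroupOf A
  have hR : IsPGroup p R := (hS.map _).comap_of_injective A.subtype A.subtype_injective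
  obtain ⟨P₂, hP₂⟩ := hR.exists_le_sylow
  obtain ⟨a, ha⟩ := MulAction.exists_smul_eq A P₂ P₁
  refine ⟨a, a.2, Subgroup.mem_normalizer_fintype fun s hs => ?_⟩
  have hgs : g * s * g⁻¹ ∈ A := (Subgroup.mem_normalizer_iff.mp hg s).mp (hSA hs)
  have h1 : (⟨_, hgs⟩ : A) ∈ (P₂ : Subgroup A) :=
    hP₂ (Subgroup.mem_subgroupOf.mpr ⟨s, hs, by simp [mul_assoc]⟩)
  have h2 : a * ⟨_, hgs⟩ * a⁻¹ ∈ ((a • P₂ : Sylow p A) : Subgroup A) := by
    rw [Sylow.coe_subgroup_smul, Subgroup.mem_pointwise_smul_iff_inv_smul_mem]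
    simpa [MulAut.smul_def, mul_assoc] using h1
  rw [ha] at h2
  have h3 := Subgroup.mem_subgroupOf.mp h2
  simpa [mul_assoc] using h3

omit [Fintype G] hp in
/-- The index over `K` inside `K ⊔ S` is a power of `p`. -/
theorem index_pow [Finite G] [Fact p.Prime] {K : Subgroup G} (hS : IsPGroup p S)
    (hn : S ≤ Subgroup.normalizer (K : Set G)) : ∃ e, K.relIndex (K ⊔ S) = p ^ e := by
  haveI : (K.subgroupOf (K ⊔ S)).Normal := (Subgroup.normal_subgroupOf_iff_le_normalizer le_sup_left).mpr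
    (sup_le Subgroup.le_normalizer hn)
  have hP : IsPGroup p (↥(K ⊔ S) ⧸ K.subgroupOf (K ⊔ S)) := fun q => by
    obtain ⟨z, rfl⟩ := QuotientGroup.mk_surjective q
    obtain ⟨k, hk, s, hs, hz⟩ := exists_mul_of_mem_sup hn z.2
    obtain ⟨e, he⟩ := hS ⟨s, hs⟩
    refine ⟨e, ?_⟩
    have hzs : (z : ↥(K ⊔ S) ⧸ K.subgroupOf (K ⊔ S)) =
        ((⟨s, Subgroup.mem_sup_right hs⟩ : ↥(K ⊔ S)) : ↥(K ⊔ S) ⧸ K.subgroupOf (K ⊔ S)) := by
      rw [show z = ⟨k, Subgroup.mem_sup_left hk⟩ * ⟨s, Subgroup.mem_sup_right hs⟩ from Subtype.ext hz,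
        QuotientGroup.mk_mul, (QuotientGroup.eq_one_iff _).mpr (Subgroup.mem_subgroupOf.mpr hk), one_mul]
    rw [hzs, ← QuotientGroup.mk_pow, QuotientGroup.eq_one_iff, Subgroup.mem_subgroupOf,
      Subgroup.coe_pow]
    rw [show s ^ p ^ e = 1 from congrArg Subtype.val he]
    exact K.one_mem
  obtain ⟨e, he⟩ := hP.exists_card_eq
  exact ⟨e, he⟩

omit hp in
/-- The multiplicity over an invariant character divides the index. -/
theorem m_dvd_index {K A : Subgroup G} (h : K ≤ A) {θ : Cfsg.IrrCharacter K}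
    (hA : A ≤ stab K (θ : K → ℂ)) (η : Cfsg.IrrCharacter A) (hm : m h η θ ≠ 0) :
    Cfsg.charDegree (η : A → ℂ) = m h η θ * Cfsg.charDegree (θ : K → ℂ) ∧
      m h η θ ∣ K.relIndex A := by
  haveI : (K.subgroupOf A).Normal :=
    (Subgroup.normal_subgroupOf_iff_le_normalizer h).mpr fun g hg => (hA hg).1
  have hd : Cfsg.charDegree (η : A → ℂ) = m h η θ * Cfsg.charDegree (θ : K → ℂ) := by
    have h1 := restrict_eq h η θ hA hm 1
    rw [map_one, coe_charDegree, coe_charDegree] at h1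
    exact_mod_cast h1
  refine ⟨hd, ?_⟩
  obtain ⟨e, he, hdvd⟩ := BlocksChars5.Restrict.ratio_dvd_nat (K.subgroupOf A) η (liftI h θ)
    (by rw [inner_liftI]; exact_mod_cast hm)
  have e1 : Cfsg.charDegree (liftI h θ : K.subgroupOf A → ℂ) = Cfsg.charDegree (θ : K → ℂ) := by
    simp only [Cfsg.charDegree]
    exact congrArg _ (congrArg Complex.re (congrArg (θ : K → ℂ) (map_one _)))
  rw [e1, hd] at he
  have hθ0 : Cfsg.charDegree (θ : K → ℂ) ≠ 0 := fun h0 =>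
    apply_one_ne_zero θ (by rw [coe_charDegree, h0, Nat.cast_zero])
  rw [Nat.eq_of_mul_eq_mul_right (Nat.pos_of_ne_zero hθ0) he]
  exact hdvd

/-- Multiplicity prime to `p` over a `p`-quotient gives an extension. -/
theorem ext_of {K : Subgroup G} (hS : IsPGroup p S) (hn : S ≤ Subgroup.normalizer (K : Set G))
    {θ : Cfsg.IrrCharacter K} (hA : K ⊔ S ≤ stab K (θ : K → ℂ))
    (η : Cfsg.IrrCharacter (K ⊔ S : Subgroup G)) (hm : ¬ p ∣ m le_sup_left η θ) :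
    ∀ k : K, (η : (K ⊔ S : Subgroup G) → ℂ) (Subgroup.inclusion le_sup_left k) = (θ : K → ℂ) k := by
  have hm0 : m le_sup_left η θ ≠ 0 := fun h0 => hm (h0 ▸ dvd_zero p)
  obtain ⟨e, he⟩ := index_pow hS hn
  have hdvd := (m_dvd_index le_sup_left hA η hm0).2
  rw [he] at hdvd
  obtain ⟨i, -, hi⟩ := (Nat.dvd_prime_pow hp.out).mp hdvd
  have hi0 : i = 0 := by
    by_contra h0
    exact hm (hi ▸ dvd_pow_self p h0)
  intro k
  rw [restrict_eq le_sup_left η θ hA hm0 k, hi, hi0, pow_zero, Nat.cast_one, one_mul]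

omit hp in
theorem m_of_restrict {C K A : Subgroup G} (hCK : C ≤ K) (hKA : K ≤ A) {θ : Cfsg.IrrCharacter K}
    (η : Cfsg.IrrCharacter A)
    (hη : ∀ k : K, (η : A → ℂ) (Subgroup.inclusion hKA k) = (θ : K → ℂ) k)
    (β : Cfsg.IrrCharacter C) : m (hCK.trans hKA) η β = m hCK θ β := by
  rw [← Nat.cast_inj (R := ℂ), ← coe_m, ← coe_m]
  congr 1
  funext x
  rw [← hη]
  rfl

omit hp in
theorem m_eq_one {K A : Subgroup G} (h : K ≤ A) {θ : Cfsg.IrrCharacter K} (η : Cfsg.IrrCharacter A)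
    (hη : ∀ k : K, (η : A → ℂ) (Subgroup.inclusion h k) = (θ : K → ℂ) k) : m h η θ = 1 := by
  rw [← Nat.cast_inj (R := ℂ), ← coe_m, funext hη, classInner_self_irr, Nat.cast_one]

omit [Fintype G] hp in
theorem commutator_sup_le {K : Subgroup G} (hn : S ≤ Subgroup.normalizer (K : Set G)) :
    ⁅K ⊔ S, K ⊔ S⁆ ≤ K ⊔ ⁅S, S⁆ := by
  haveI : (K.subgroupOf (K ⊔ S)).Normal := (Subgroup.normal_subgroupOf_iff_le_normalizer le_sup_left).mpr
    (sup_le Subgroup.le_normalizer hn)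
  let q := QuotientGroup.mk' (K.subgroupOf (K ⊔ S))
  have hq : ∀ z : ↥(K ⊔ S), ∃ s : S, q z = q (Subgroup.inclusion le_sup_right s) := fun z => by
    obtain ⟨k, hk, s, hs, hz⟩ := exists_mul_of_mem_sup hn z.2
    refine ⟨⟨s, hs⟩, ?_⟩
    rw [show z = ⟨k, Subgroup.mem_sup_left hk⟩ * Subgroup.inclusion le_sup_right (⟨s, hs⟩ : S) from
      Subtype.ext hz, map_mul, show q ⟨k, Subgroup.mem_sup_left hk⟩ = 1 from
        (QuotientGroup.eq_one_iff _).mpr (Subgroup.mem_subgroupOf.mpr hk), one_mul]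
  rw [Subgroup.commutator_le]
  intro a ha b hb
  obtain ⟨s, hs⟩ := hq ⟨a, ha⟩
  obtain ⟨t, ht⟩ := hq ⟨b, hb⟩
  have hker : q ((⟨a, ha⟩ * ⟨b, hb⟩ * (⟨a, ha⟩ : ↥(K ⊔ S))⁻¹ * (⟨b, hb⟩ : ↥(K ⊔ S))⁻¹) *
      (Subgroup.inclusion le_sup_right s * Subgroup.inclusion le_sup_right t *
        (Subgroup.inclusion le_sup_right s)⁻¹ * (Subgroup.inclusion le_sup_right t)⁻¹)⁻¹) = 1 := by
    simp only [map_mul, map_inv, hs, ht, mul_inv_cancel]
  have h1 : a * b * a⁻¹ * b⁻¹ * ((s : G) * t * (s : G)⁻¹ * (t : G)⁻¹)⁻¹ ∈ K := by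
    have h2 := Subgroup.mem_subgroupOf.mp ((QuotientGroup.eq_one_iff _).mp hker)
    simpa using h2
  have h3 : (s : G) * t * (s : G)⁻¹ * (t : G)⁻¹ ∈ ⁅S, S⁆ := Subgroup.commutator_mem_commutator s.2 t.2
  have h4 := mul_mem (Subgroup.mem_sup_left (T := ⁅S, S⁆) h1) (Subgroup.mem_sup_right (S := K) h3)
  rwa [inv_mul_cancel_right] at h4

omit hp in
/-- Two extensions agree on the commutator part. -/
theorem ext_agree {K : Subgroup G} (hn : S ≤ Subgroup.normalizer (K : Set G))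
    {θ : Cfsg.IrrCharacter K} (η η' : Cfsg.IrrCharacter (K ⊔ S : Subgroup G))
    (hη : ∀ k : K, (η : (K ⊔ S : Subgroup G) → ℂ) (Subgroup.inclusion le_sup_left k) = (θ : K → ℂ) k)
    (hη' : ∀ k : K, (η' : (K ⊔ S : Subgroup G) → ℂ) (Subgroup.inclusion le_sup_left k) = (θ : K → ℂ) k)
    (x : (K ⊔ S : Subgroup G)) (hx : (x : G) ∈ K ⊔ ⁅S, S⁆) :
    (η' : (K ⊔ S : Subgroup G) → ℂ) x = (η : (K ⊔ S : Subgroup G) → ℂ) x := by
  haveI : (K.subgroupOf (K ⊔ S)).Normal := (Subgroup.normal_subgroupOf_iff_le_normalizer le_sup_left).mpr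
    (sup_le Subgroup.le_normalizer hn)
  have hker : (QuotientGroup.mk' (K.subgroupOf (K ⊔ S))).ker = K.subgroupOf (K ⊔ S) :=
    QuotientGroup.ker_mk' _
  haveI : Fintype (↥(K ⊔ S) ⧸ K.subgroupOf (K ⊔ S)) := Fintype.ofFinite _
  have hres : ∀ n : K.subgroupOf (K ⊔ S), (η : (K ⊔ S : Subgroup G) → ℂ) n =
      (liftI (H := K ⊔ S) le_sup_left θ : K.subgroupOf (K ⊔ S) → ℂ) n := fun n =>
    hη (Subgroup.subgroupOfEquivOfLe le_sup_left n)
  obtain ⟨-, -, hgal⟩ := RelGlauberman.gallagher_quot (K.subgroupOf (K ⊔ S))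
    (QuotientGroup.mk'_surjective _) hker (θ := liftI (H := K ⊔ S) le_sup_left θ) (χ := η) hres
  obtain ⟨β, hβ⟩ := hgal η' (by rw [inner_liftI, m_eq_one le_sup_left η' hη', Nat.cast_one]; exact one_ne_zero)
  have h1 : (β : (↥(K ⊔ S) ⧸ K.subgroupOf (K ⊔ S)) → ℂ) 1 = 1 := by
    have h2 := congrFun hβ 1
    simp only [RelGlauberman.twist, map_one] at h2
    have e : (η' : (K ⊔ S : Subgroup G) → ℂ) 1 = (η : (K ⊔ S : Subgroup G) → ℂ) 1 := by
      rw [← map_one (Subgroup.inclusion (le_sup_left : K ≤ K ⊔ S)), hη, hη']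
    rw [e] at h2
    exact (mul_eq_right₀ (apply_one_ne_zero η)).mp h2.symm
  let l : ↥(K ⊔ S) →* ℂˣ :=
    (Linear.degOneHom (isCharacter_irr β) h1).comp (QuotientGroup.mk' (K.subgroupOf (K ⊔ S)))
  have hle : K ⊔ ⁅S, S⁆ ≤ l.ker.map (K ⊔ S : Subgroup G).subtype := by
    refine sup_le (fun k hk => ⟨⟨k, Subgroup.mem_sup_left hk⟩, ?_, rfl⟩) (Subgroup.commutator_le.mpr ?_)
    · show l _ = 1
      rw [MonoidHom.comp_apply, show QuotientGroup.mk' (K.subgroupOf (K ⊔ S))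
        (⟨k, Subgroup.mem_sup_left hk⟩ : ↥(K ⊔ S)) = 1 from
          (QuotientGroup.eq_one_iff _).mpr (Subgroup.mem_subgroupOf.mpr hk), map_one]
    · intro a ha b hb
      refine ⟨(⟨a, Subgroup.mem_sup_right ha⟩ : ↥(K ⊔ S)) * ⟨b, Subgroup.mem_sup_right hb⟩ *
        (⟨a, Subgroup.mem_sup_right ha⟩ : ↥(K ⊔ S))⁻¹ * (⟨b, Subgroup.mem_sup_right hb⟩ : ↥(K ⊔ S))⁻¹,
        ?_, rfl⟩
      show l _ = 1
      rw [map_mul, map_mul, map_mul, map_inv, map_inv, mul_comm (l ⟨a, _⟩), mul_inv_cancel_right,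
        mul_inv_cancel]
  obtain ⟨z, hz, hzx⟩ := hle hx
  obtain rfl : z = x := Subtype.ext hzx
  have h3 := congrFun hβ z
  simp only [RelGlauberman.twist] at h3
  rw [h3]
  have h4 : (l z : ℂ) = 1 := by rw [show l z = 1 from hz, Units.val_one]
  rw [show (β : (↥(K ⊔ S) ⧸ K.subgroupOf (K ⊔ S)) → ℂ) (QuotientGroup.mk' (K.subgroupOf (K ⊔ S)) z) = (l z : ℂ) from
    (Linear.degOneHom_apply (isCharacter_irr β) h1 _).symm, h4, one_mul]

omit [Fintype G] in
/-- An induced character carries multiplicity prime to `p` upwards. -/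
theorem ext_up {X : Type u} [Group X] [Fintype X] (N : Subgroup X) [N.Normal] (B : Subgroup X)
    (θ : Cfsg.IrrCharacter N) (hinv : ∀ x : X, Clifford.Basic.conjC N x (θ : N → ℂ) = (θ : N → ℂ))
    (ξ : Cfsg.IrrCharacter B) (c k : ℕ) (hk : ¬ p ∣ k)
    (hcard : (Nat.card X : ℂ) * (c : ℂ) = (Nat.card N : ℂ) * Nat.card B)
    (hsum : ∑ n : N, Cfsg.extendByZero B (ξ : B → ℂ) n * conj ((θ : N → ℂ) n) = (c : ℂ) * k) :
    ∃ η : Cfsg.IrrCharacter X, ¬ p ∣ Glauberman.mult N.subtype η θ := by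
  by_contra hcon
  push Not at hcon
  have hind := Lib.Induced.Character.isCharacter_indFun B (isCharacter_irr ξ)
  have hval : Cfsg.classInner (fun n : N => Cfsg.indFun B (ξ : B → ℂ) n) (θ : N → ℂ) = (k : ℂ) := by
    simp only [Cfsg.classInner, Cfsg.indFun, mul_assoc, Finset.sum_mul, ← Finset.mul_sum]
    rw [Finset.sum_comm]
    have hx : ∀ x : X, ∑ n : N, Cfsg.extendByZero B (ξ : B → ℂ) (x⁻¹ * (n * x)) *
        conj ((θ : N → ℂ) n) = (c : ℂ) * k := by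
      intro x
      rw [← hsum]
      refine (Fintype.sum_equiv (MulAut.conjNormal x).toEquiv _ _ fun n => ?_).symm
      have e : (θ : N → ℂ) (MulAut.conjNormal x n) = (θ : N → ℂ) n := congrFun (hinv x) n
      show _ = Cfsg.extendByZero B (ξ : B → ℂ) _ * conj ((θ : N → ℂ) (MulAut.conjNormal x n))
      rw [e, MulEquiv.toEquiv_eq_coe, MulEquiv.coe_toEquiv, MulAut.conjNormal_apply]
      simp [mul_assoc]
    simp only [hx, Finset.sum_const, Finset.card_univ, nsmul_eq_mul, ← Nat.card_eq_fintype_card]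
    have hN : (Nat.card N : ℂ) ≠ 0 := subgroup_card_ne_zero N
    have hB : (Nat.card B : ℂ) ≠ 0 := subgroup_card_ne_zero B
    field_simp
    linear_combination (k : ℂ) * hcard
  let n : Cfsg.IrrCharacter X → ℕ := fun η =>
    Classical.choose (exists_classInner_nat hind (isCharacter_irr η))
  have hn : ∀ η : Cfsg.IrrCharacter X,
      Cfsg.classInner (Cfsg.indFun B (ξ : B → ℂ)) (η : X → ℂ) = (n η : ℂ) := fun η =>
    Classical.choose_spec (exists_classInner_nat hind (isCharacter_irr η))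
  have hdec : Cfsg.indFun B (ξ : B → ℂ) = ∑ η, (n η : ℂ) • (η : X → ℂ) := by
    simp only [← hn]
    exact Complete.classFunction_eq_sum (isClassFunction_indFun B (ξ : B → ℂ))
  rw [show (fun x : N => Cfsg.indFun B (ξ : B → ℂ) x) =
      ∑ η, (n η : ℂ) • fun x : N => (η : X → ℂ) x from funext fun x => by
        rw [hdec]; simp [Finset.sum_apply], classInner_sum_left] at hval
  have hnat : ∑ η, n η * Glauberman.mult N.subtype η θ = k := by
    rw [← Nat.cast_inj (R := ℂ), ← hval]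
    push_cast
    refine Finset.sum_congr rfl fun η _ => ?_
    rw [classInner_smul_left, ← Glauberman.coe_mult]
    rfl
  exact hk (hnat ▸ Finset.dvd_sum fun η _ => dvd_mul_of_dvd_right (hcon η) _)

end Cfsg.Agent.Lib.RelMcKay.PExt
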