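import Cfsg.Agent.Lib.RelMcKay.Special

/-!
# Pairs of elements, and comparison of two counts by classes
-/

set_option autoImplicit false

namespace Cfsg.Agent.Lib.RelMcKay.Pairs

open scoped ComplexConjugate Classical
open Cfsg.Agent.Lib.Characters Cfsg.Agent.Lib.Characters.Basic Cfsg.Agent.Lib.Induced.Basic
open Cfsg.Agent.Lib.RelMcKay.Rel Cfsg.Agent.Lib.RelMcKay.Extend

universe u

variable {G : Type u} [Group G]

/-- Powers of commuting elements commute modulo `K`. -/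
theorem comm_zpow {K : Subgroup G} {a b : G} (ha : a ∈ Subgroup.normalizer (K : Set G))
    (hb : b ∈ Subgroup.normalizer (K : Set G)) (hc : b * a * b⁻¹ * a⁻¹ ∈ K) {a' b' : G}
    (ha' : a' ∈ Subgroup.zpowers a) (hb' : b' ∈ Subgroup.zpowers b) :
    b' * a' * b'⁻¹ * a'⁻¹ ∈ K := by
  obtain ⟨i, rfl⟩ := ha'
  obtain ⟨j, rfl⟩ := hb'
  let q := QuotientGroup.mk' (K.subgroupOf (Subgroup.normalizer (K : Set G)))
  have hone : ∀ z : Subgroup.normalizer (K : Set G), q z = 1 ↔ (z : G) ∈ K := fun z => by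
    rw [QuotientGroup.mk'_apply, QuotientGroup.eq_one_iff, Subgroup.mem_subgroupOf]
  have h1 : Commute (q ⟨b, hb⟩) (q ⟨a, ha⟩) := by
    have h : q (⟨b, hb⟩ * ⟨a, ha⟩ * (⟨b, hb⟩ : Subgroup.normalizer (K : Set G))⁻¹ *
        (⟨a, ha⟩ : Subgroup.normalizer (K : Set G))⁻¹) = 1 := (hone _).mpr hc
    rwa [map_mul, map_mul, map_mul, map_inv, map_inv, mul_inv_eq_one, mul_inv_eq_iff_eq_mul] at h
  have h2 : q ((⟨b, hb⟩ : Subgroup.normalizer (K : Set G)) ^ j * ⟨a, ha⟩ ^ i *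
      ((⟨b, hb⟩ : Subgroup.normalizer (K : Set G)) ^ j)⁻¹ *
        ((⟨a, ha⟩ : Subgroup.normalizer (K : Set G)) ^ i)⁻¹) = 1 := by
    rw [map_mul, map_mul, map_mul, map_inv, map_inv, map_zpow, map_zpow, (h1.zpow_zpow j i).eq,
      mul_inv_cancel_right, mul_inv_cancel]
  simpa using (hone _).mp h2

variable [Fintype G]

/-- Extendibility over a pair follows from that over the parts of one member. -/
theorem extends_of_parts {K : Subgroup G} {θ : Cfsg.IrrCharacter K} {a b a₁ a₂ : G}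
    (ha : a ∈ stab K (θ : K → ℂ)) (hb : b ∈ stab K (θ : K → ℂ)) (hc : b * a * b⁻¹ * a⁻¹ ∈ K)
    (h₁ : a₁ ∈ Subgroup.zpowers a) (h₂ : a₂ ∈ Subgroup.zpowers a) (h12 : a₁ * a₂ = a)
    (he₁ : Extends θ ((K ⊔ Subgroup.zpowers a₁) ⊔ Subgroup.zpowers b))
    (he₂ : Extends θ ((K ⊔ Subgroup.zpowers a₂) ⊔ Subgroup.zpowers b)) :
    Extends θ ((K ⊔ Subgroup.zpowers a) ⊔ Subgroup.zpowers b) := by
  obtain ⟨η, hη⟩ := exists_ext_cyclic (le_sup_left : K ≤ K ⊔ Subgroup.zpowers a) θ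
    (sup_le (le_stab (isClassFunction_irr θ)) (Subgroup.zpowers_le.mpr ha))
    (Subgroup.mem_sup_right (Subgroup.mem_zpowers a)) le_rfl
  exact (extends_iff ha hb hc η hη).mpr (fix_of_parts ha hb hc η hη h₁ h₂ h12 he₁ he₂)

/-- Splitting a commuting pair. -/
theorem extends_split {K : Subgroup G} {θ : Cfsg.IrrCharacter K} {a b a₁ a₂ b₁ b₂ : G}
    (ha : a ∈ stab K (θ : K → ℂ)) (hb : b ∈ stab K (θ : K → ℂ)) (hc : b * a * b⁻¹ * a⁻¹ ∈ K)
    (ha₁ : a₁ ∈ Subgroup.zpowers a) (ha₂ : a₂ ∈ Subgroup.zpowers a) (haa : a₁ * a₂ = a)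
    (hb₁ : b₁ ∈ Subgroup.zpowers b) (hb₂ : b₂ ∈ Subgroup.zpowers b) (hbb : b₁ * b₂ = b)
    {q r : ℕ} (hqr : q.Coprime r) (ha₁q : a₁ ^ q ∈ K) (hb₁q : b₁ ^ q ∈ K) (ha₂r : a₂ ^ r ∈ K)
    (hb₂r : b₂ ^ r ∈ K) (h11 : Extends θ ((K ⊔ Subgroup.zpowers a₁) ⊔ Subgroup.zpowers b₁)) :
    Extends θ ((K ⊔ Subgroup.zpowers a) ⊔ Subgroup.zpowers b) ↔
      Extends θ ((K ⊔ Subgroup.zpowers a₂) ⊔ Subgroup.zpowers b₂) := by
  refine ⟨fun h => extends_mono (le_sup_left.trans le_sup_left) (sup_le_sup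
    (sup_le_sup_left (Subgroup.zpowers_le.mpr ha₂) K) (Subgroup.zpowers_le.mpr hb₂)) h, fun h22 => ?_⟩
  have hsa : ∀ {z : G}, z ∈ Subgroup.zpowers a → z ∈ stab K (θ : K → ℂ) := fun hz =>
    Subgroup.zpowers_le.mpr ha hz
  have hsb : ∀ {z : G}, z ∈ Subgroup.zpowers b → z ∈ stab K (θ : K → ℂ) := fun hz =>
    Subgroup.zpowers_le.mpr hb hz
  have hcc : ∀ {z w : G}, z ∈ Subgroup.zpowers a → w ∈ Subgroup.zpowers b →
      w * z * w⁻¹ * z⁻¹ ∈ K ∧ z * w * z⁻¹ * w⁻¹ ∈ K := fun {z w} hz hw => by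
    have h1 := comm_zpow ha.1 hb.1 hc hz hw
    refine ⟨h1, ?_⟩
    have h2 := K.inv_mem h1
    rwa [mul_inv_rev, mul_inv_rev, mul_inv_rev, inv_inv, inv_inv, ← mul_assoc, ← mul_assoc] at h2
  have h12 := extends_coprime' ha₁ hb₂ ha₁q hb₂r hqr hsa hsb hcc
  have h21 := extends_coprime' ha₂ hb₁ ha₂r hb₁q hqr.symm hsa hsb hcc
  refine extends_of_parts ha hb hc ha₁ ha₂ haa ?_ ?_
  · rw [sup_right_comm]
    exact extends_of_parts hb (hsa ha₁) (hcc ha₁ (Subgroup.mem_zpowers b)).2 hb₁ hb₂ hbb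
      (sup_right_comm K _ _ ▸ h11) (sup_right_comm K _ _ ▸ h12)
  · rw [sup_right_comm]
    exact extends_of_parts hb (hsa ha₂) (hcc ha₂ (Subgroup.mem_zpowers b)).2 hb₁ hb₂ hbb
      (sup_right_comm K _ _ ▸ h21) (sup_right_comm K _ _ ▸ h22)
where
  extends_coprime' {K : Subgroup G} {θ : Cfsg.IrrCharacter K} {a b z w : G} {i j : ℕ}
      (hz : z ∈ Subgroup.zpowers a) (hw : w ∈ Subgroup.zpowers b) (hzi : z ^ i ∈ K) (hwj : w ^ j ∈ K)
      (hij : i.Coprime j) (hsa : ∀ {z : G}, z ∈ Subgroup.zpowers a → z ∈ stab K (θ : K → ℂ))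
      (hsb : ∀ {z : G}, z ∈ Subgroup.zpowers b → z ∈ stab K (θ : K → ℂ))
      (hcc : ∀ {z w : G}, z ∈ Subgroup.zpowers a → w ∈ Subgroup.zpowers b →
        w * z * w⁻¹ * z⁻¹ ∈ K ∧ z * w * z⁻¹ * w⁻¹ ∈ K) :
      Extends θ ((K ⊔ Subgroup.zpowers z) ⊔ Subgroup.zpowers w) :=
    Special.extends_coprime (hsa hz) (hsb hw) (hcc hz hw).1 hzi hwj hij

/-- Extendibility of the restriction and of a character extending it agree on a pair commuting
modulo the smaller group. -/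
theorem extends_lift {K K₁ : Subgroup G} (hK : K ≤ K₁) {θ : Cfsg.IrrCharacter K}
    {θ₁ : Cfsg.IrrCharacter K₁}
    (hres : ∀ k : K, (θ₁ : K₁ → ℂ) (Subgroup.inclusion hK k) = (θ : K → ℂ) k) {a b : G}
    (ha : a ∈ stab K (θ : K → ℂ)) (hb : b ∈ stab K (θ : K → ℂ))
    (ha' : a ∈ stab K₁ (θ₁ : K₁ → ℂ)) (hb' : b ∈ stab K₁ (θ₁ : K₁ → ℂ))
    (hc : b * a * b⁻¹ * a⁻¹ ∈ K) :
    Extends θ₁ ((K₁ ⊔ Subgroup.zpowers a) ⊔ Subgroup.zpowers b) ↔
      Extends θ ((K ⊔ Subgroup.zpowers a) ⊔ Subgroup.zpowers b) := by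
  obtain ⟨η, hη⟩ := exists_ext_cyclic (le_sup_left : K₁ ≤ K₁ ⊔ Subgroup.zpowers a) θ₁
    (sup_le (le_stab (isClassFunction_irr θ₁)) (Subgroup.zpowers_le.mpr ha'))
    (Subgroup.mem_sup_right (Subgroup.mem_zpowers a)) le_rfl
  have hle : K ⊔ Subgroup.zpowers a ≤ K₁ ⊔ Subgroup.zpowers a := sup_le_sup_right hK _
  obtain ⟨ξ, hξ, hξη⟩ := exists_restrict (θ := θ) (le_sup_left : K ≤ K ⊔ Subgroup.zpowers a) hle η
    (fun k => by rw [← hres k, ← hη]; rfl)
  rw [extends_iff ha' hb' (hK hc) η hη, extends_iff ha hb hc ξ hξ,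
    invAt_iff (normalizer_sup ha'.1 hb'.1 (hK hc)), invAt_iff (normalizer_sup ha.1 hb.1 hc)]
  refine ⟨fun h y => ?_, fun h x => ?_⟩
  · rw [hξη, hξη]
    refine Eq.trans ?_ (h (Subgroup.inclusion hle y))
    exact congrArg _ (Subtype.ext rfl)
  · obtain ⟨l, hl, hshift⟩ := exists_shift ha' hb' (hK hc) η hη
    have h2 := fun z => congrFun (congrArg Subtype.val hshift) z
    simp only [conjI_apply, Basic.twist_apply] at h2
    have htriv := twist_trivial (le_sup_left : K ≤ K ⊔ Subgroup.zpowers a)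
      (sup_le Subgroup.le_normalizer (Subgroup.zpowers_le.mpr ha.1))
      (fun x hx y hy => comm_mem ha.1 hx hy) θ ξ hξ (l := l.comp (Subgroup.inclusion hle))
      (fun y hy => hl _ (hK hy)) (fun y => by
        rw [MonoidHom.comp_apply, hξη, ← h2]
        refine Eq.trans ?_ ((h y).trans (hξη y))
        rw [hξη]
        exact congrArg _ (Subtype.ext rfl))
      ⟨a, Subgroup.mem_sup_right (Subgroup.mem_zpowers a)⟩
    rw [h2]
    obtain ⟨d, i, hd, hx⟩ := Step.exists_zpow_of_mem_sup ha'.1 x.2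
    have hx' : x = (Subgroup.inclusion hle ⟨a, Subgroup.mem_sup_right (Subgroup.mem_zpowers a)⟩) ^ i *
        ⟨d, Subgroup.mem_sup_left hd⟩ := Subtype.ext (by simpa using hx)
    rw [hx', map_mul, map_zpow]
    rw [MonoidHom.comp_apply] at htriv
    rw [htriv, one_zpow, one_mul, hl ⟨d, Subgroup.mem_sup_left hd⟩ hd, Units.val_one, one_mul]

/-- The number of characters of `H` lying over `θ`. -/
noncomputable def cntOver {K H : Subgroup G} (h : K ≤ H) (θ : Cfsg.IrrCharacter K) : ℕ :=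
  Nat.card {χ : Cfsg.IrrCharacter H // m h χ θ ≠ 0}

/-- A character of `K` as a character of `K.subgroupOf H`. -/
noncomputable def liftI {K H : Subgroup G} (h : K ≤ H) (θ : Cfsg.IrrCharacter K) :
    Cfsg.IrrCharacter (K.subgroupOf H) :=
  ⟨(θ : K → ℂ) ∘ Subgroup.subgroupOfEquivOfLe h,
    isIrrCharacter_comp (Subgroup.subgroupOfEquivOfLe h).toMonoidHom
      (Subgroup.subgroupOfEquivOfLe h).surjective θ.2⟩

theorem over_liftI {K H : Subgroup G} (h : K ≤ H) (θ : Cfsg.IrrCharacter K)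
    (χ : Cfsg.IrrCharacter H) : Good.Over (liftI h θ) χ ↔ m h χ θ ≠ 0 := by
  have e : Cfsg.classInner (fun k : K.subgroupOf H => (χ : H → ℂ) k) (liftI h θ : K.subgroupOf H → ℂ) =
      (m h χ θ : ℂ) := by
    rw [← coe_m]
    exact RelGlauberman.classInner_transport (Subgroup.subgroupOfEquivOfLe h) _ _
  rw [Good.Over, e, Ne, Nat.cast_eq_zero]

omit [Fintype G] in
theorem sup_zpowers_subgroupOf {K H : Subgroup G} (h : K ≤ H) (x y : H) :
    (K.subgroupOf H ⊔ Subgroup.zpowers x) ⊔ Subgroup.zpowers y =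
      (K ⊔ Subgroup.zpowers (x : G) ⊔ Subgroup.zpowers (y : G)).subgroupOf H := by
  apply Subgroup.map_injective H.subtype_injective
  rw [Subgroup.map_sup, Subgroup.map_sup, MonoidHom.map_zpowers, MonoidHom.map_zpowers,
    Subgroup.map_subgroupOf_eq_of_le h, Subgroup.map_subgroupOf_eq_of_le (sup_le (sup_le h
      (Subgroup.zpowers_le.mpr x.2)) (Subgroup.zpowers_le.mpr y.2))]
  rfl

theorem extends_liftI {K H A : Subgroup G} (h : K ≤ H) (hA : A ≤ H) (θ : Cfsg.IrrCharacter K) :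
    Extends (liftI h θ) (A.subgroupOf H) ↔ Extends θ A := by
  let e := Subgroup.subgroupOfEquivOfLe hA
  constructor
  · rintro ⟨hle, η, hη⟩
    have hKA : K ≤ A := fun k hk => hle (x := ⟨k, h hk⟩) hk
    refine ⟨hKA, ⟨(η : A.subgroupOf H → ℂ) ∘ e.symm,
      isIrrCharacter_comp e.symm.toMonoidHom e.symm.surjective η.2⟩, fun k => ?_⟩
    exact (hη ⟨⟨k, h k.2⟩, k.2⟩)
  · rintro ⟨hle, η, hη⟩
    exact ⟨fun k hk => hle hk, ⟨(η : A → ℂ) ∘ e, isIrrCharacter_comp e.toMonoidHom e.surjective η.2⟩,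
      fun k => hη ⟨((k : H) : G), k.2⟩⟩

/-- The class condition, inside the ambient group. -/
def GoodIn {K : Subgroup G} (H : Subgroup G) (θ : Cfsg.IrrCharacter K) (x : G) : Prop :=
  ∀ y ∈ H, y * x * y⁻¹ * x⁻¹ ∈ K → Extends θ ((K ⊔ Subgroup.zpowers x) ⊔ Subgroup.zpowers y)

theorem good_iff {K H : Subgroup G} (h : K ≤ H) (θ : Cfsg.IrrCharacter K) (x : H) :
    Good.IsGood (liftI h θ) x ↔ GoodIn H θ (x : G) := by
  refine ⟨fun hg y hy hc => ?_, fun hg y hc => ?_⟩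
  · have := hg ⟨y, hy⟩ hc
    rwa [sup_zpowers_subgroupOf h, extends_liftI h (sup_le (sup_le h
      (Subgroup.zpowers_le.mpr x.2)) (Subgroup.zpowers_le.mpr hy))] at this
  · rw [sup_zpowers_subgroupOf h, extends_liftI h (sup_le (sup_le h
      (Subgroup.zpowers_le.mpr x.2)) (Subgroup.zpowers_le.mpr y.2))]
    exact hg y y.2 hc

theorem liftI_inv {K H : Subgroup G} (h : K ≤ H) (θ : Cfsg.IrrCharacter K)
    (hH : H ≤ stab K (θ : K → ℂ)) (g : H) :
    InvAt g (K.subgroupOf H) (liftI h θ : K.subgroupOf H → ℂ) := fun x y hy =>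
  (hH g.2).2 _ _ (congrArg Subtype.val hy)

/-- Equal counts from a bijection of the quotients respecting extendibility of pairs. -/
theorem cntOver_eq {K H K' H' : Subgroup G} (h : K ≤ H) (h' : K' ≤ H') (hH' : H' ≤ H)
    (hKK : K' = K ⊓ H') (hgen : ∀ x ∈ H, ∃ k ∈ K, ∃ y ∈ H', x = k * y)
    (θ : Cfsg.IrrCharacter K) (θ' : Cfsg.IrrCharacter K') (hH : H ≤ stab K (θ : K → ℂ))
    (hH'' : H' ≤ stab K' (θ' : K' → ℂ))
    (hpair : ∀ x ∈ H', ∀ y ∈ H', y * x * y⁻¹ * x⁻¹ ∈ K' →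
      (Extends θ ((K ⊔ Subgroup.zpowers x) ⊔ Subgroup.zpowers y) ↔
        Extends θ' ((K' ⊔ Subgroup.zpowers x) ⊔ Subgroup.zpowers y))) :
    cntOver h θ = cntOver h' θ' := by
  haveI hn : (K.subgroupOf H).Normal :=
    (Subgroup.normal_subgroupOf_iff_le_normalizer h).mpr fun g hg => (hH hg).1
  haveI hn' : (K'.subgroupOf H').Normal :=
    (Subgroup.normal_subgroupOf_iff_le_normalizer h').mpr fun g hg => (hH'' hg).1
  have hgood : ∀ x ∈ H', GoodIn H θ x ↔ GoodIn H' θ' x := by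
    intro x hx
    refine ⟨fun hg y hy hc => (hpair x hx y hy hc).mp (hg y (hH' hy) (by
      rw [hKK] at hc; exact hc.1)), fun hg y hy hc => ?_⟩
    obtain ⟨k, hk, y', hy', rfl⟩ := hgen y hy
    have hyK : y' ∈ Subgroup.normalizer (K : Set G) := (hH (hH' hy')).1
    have hxK : x ∈ Subgroup.normalizer (K : Set G) := (hH (hH' hx)).1
    have hc' : y' * x * y'⁻¹ * x⁻¹ ∈ K' := by
      rw [hKK]
      refine Subgroup.mem_inf.mpr ⟨?_,
        H'.mul_mem (H'.mul_mem (H'.mul_mem hy' hx) (H'.inv_mem hy')) (H'.inv_mem hx)⟩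
      have e : y' * x * y'⁻¹ * x⁻¹ =
          k⁻¹ * (k * y' * x * (k * y')⁻¹ * x⁻¹) * (x * k * x⁻¹) := by simp [mul_assoc]
      rw [e]
      exact K.mul_mem (K.mul_mem (K.inv_mem hk) hc) ((Subgroup.mem_normalizer_iff.mp hxK k).mp hk)
    have hsup : K ⊔ Subgroup.zpowers x ⊔ Subgroup.zpowers (k * y') =
        K ⊔ Subgroup.zpowers x ⊔ Subgroup.zpowers y' := by
      refine le_antisymm (sup_le le_sup_left (Subgroup.zpowers_le.mpr ?_))
        (sup_le le_sup_left (Subgroup.zpowers_le.mpr ?_))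
      · exact mul_mem (Subgroup.mem_sup_left (Subgroup.mem_sup_left hk))
          (Subgroup.mem_sup_right (Subgroup.mem_zpowers y'))
      · have h1 : k⁻¹ * (k * y') ∈ K ⊔ Subgroup.zpowers x ⊔ Subgroup.zpowers (k * y') :=
          mul_mem (inv_mem (Subgroup.mem_sup_left (Subgroup.mem_sup_left hk)))
            (Subgroup.mem_sup_right (Subgroup.mem_zpowers _))
        rwa [inv_mul_cancel_left] at h1
    rw [hsup]
    exact (hpair x hx y' hy' hc').mpr (hg y' hy' hc')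
  have hc1 : cntOver h θ = Nat.card {c : ConjClasses (H ⧸ K.subgroupOf H) // Good.Supp (liftI h θ) c} := by
    rw [← Good.card_over (liftI_inv h θ hH)]
    exact Nat.card_congr (Equiv.subtypeEquivRight fun χ => (over_liftI h θ χ).symm)
  have hc2 : cntOver h' θ' =
      Nat.card {c : ConjClasses (H' ⧸ K'.subgroupOf H') // Good.Supp (liftI h' θ') c} := by
    rw [← Good.card_over (liftI_inv h' θ' hH'')]
    exact Nat.card_congr (Equiv.subtypeEquivRight fun χ => (over_liftI h' θ' χ).symm)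
  have hmem : ∀ z : H', z ∈ K'.subgroupOf H' ↔ Subgroup.inclusion hH' z ∈ K.subgroupOf H := fun z => by
    rw [Subgroup.mem_subgroupOf, Subgroup.mem_subgroupOf, hKK, Subgroup.mem_inf,
      Subgroup.coe_inclusion]
    exact and_iff_left z.2
  let f : H' ⧸ K'.subgroupOf H' →* H ⧸ K.subgroupOf H :=
    QuotientGroup.map _ _ (Subgroup.inclusion hH') fun z hz => (hmem z).mp hz
  have hf : Function.Bijective f := by
    refine ⟨?_, ?_⟩
    · rw [injective_iff_map_eq_one]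
      intro q hq
      obtain ⟨z, rfl⟩ := QuotientGroup.mk_surjective q
      change ((Subgroup.inclusion hH' z : H) : H ⧸ K.subgroupOf H) = 1 at hq
      rw [QuotientGroup.eq_one_iff] at hq
      exact (QuotientGroup.eq_one_iff z).mpr ((hmem z).mpr hq)
    · intro q
      obtain ⟨x, rfl⟩ := QuotientGroup.mk_surjective q
      obtain ⟨k, hk, y, hy, hx⟩ := hgen x x.2
      refine ⟨((⟨y, hy⟩ : H') : H' ⧸ K'.subgroupOf H'), ?_⟩
      change ((Subgroup.inclusion hH' ⟨y, hy⟩ : H) : H ⧸ K.subgroupOf H) = _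
      rw [QuotientGroup.eq, Subgroup.mem_subgroupOf]
      have h1 : y⁻¹ * k * y ∈ K :=
        (Subgroup.mem_normalizer_iff''.mp (hH (hH' hy)).1 k).mp hk
      simpa [hx, mul_assoc] using h1
  have hb : Function.Bijective (ConjClasses.map f) := by
    refine ⟨?_, ConjClasses.map_surjective hf.2⟩
    intro c d hcd
    obtain ⟨u, rfl⟩ := ConjClasses.mk_surjective c
    obtain ⟨v, rfl⟩ := ConjClasses.mk_surjective d
    obtain ⟨w, hw⟩ := isConj_iff.mp (ConjClasses.mk_eq_mk_iff_isConj.mp hcd)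
    obtain ⟨w', rfl⟩ := hf.2 w
    exact ConjClasses.mk_eq_mk_iff_isConj.mpr (isConj_iff.mpr ⟨w', hf.1 (by
      rw [map_mul, map_mul, map_inv]; exact hw)⟩)
  rw [hc1, hc2]
  refine (Nat.card_congr ((Equiv.ofBijective _ hb).subtypeEquiv fun c => ?_)).symm
  obtain ⟨q, rfl⟩ := ConjClasses.mk_surjective c
  obtain ⟨x, rfl⟩ := QuotientGroup.mk_surjective q
  rw [Equiv.ofBijective_apply, show ConjClasses.map f (ConjClasses.mk (x : H' ⧸ K'.subgroupOf H')) =
    ConjClasses.mk ((Subgroup.inclusion hH' x : H) : H ⧸ K.subgroupOf H) from rfl,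
    Good.supp_iff (liftI_inv h θ hH), Good.supp_iff (liftI_inv h' θ' hH''), good_iff h, good_iff h']
  exact (hgood x x.2).symm

end Cfsg.Agent.Lib.RelMcKay.Pairs
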