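import Cfsg.Agent.Lib.RelMcKay.Basic
import Cfsg.Agent.Lib.Glauberman.Solvable
import Cfsg.Agent.Lib.RelGlauberman.Main
import Cfsg.Agent.Lib.Brauer.ExtensionChar

/-!
# Characters of subgroups of one group: conjugation, multiplicities, orbit congruences
-/

set_option autoImplicit false

namespace Cfsg.Agent.Lib.RelMcKay.Rel

open scoped ComplexConjugate Classical
open Cfsg.Agent.Lib.Characters Cfsg.Agent.Lib.Characters.Basic Cfsg.Agent.Lib.Induced.Basic
open Cfsg.Agent.Lib.Clifford.Basic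
open Cfsg.Agent.Lib.Glauberman (mult coe_mult)

universe u v

variable {G : Type u} [Group G]

/-- Characters of a finite group form a finite type. -/
noncomputable scoped instance irrFintype {A : Type v} [Group A] [Finite A] :
    Fintype (Cfsg.IrrCharacter A) := Fintype.ofFinite _

/-- The function on `H` is fixed by conjugation with `g`. -/
def InvAt (g : G) (H : Subgroup G) (f : H → ℂ) : Prop :=
  ∀ x y : H, (y : G) = g * x * g⁻¹ → f y = f x

/-- The function on `H` is fixed by conjugation with every element of `S`. -/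
def InvBy (S H : Subgroup G) (f : H → ℂ) : Prop := ∀ g ∈ S, InvAt g H f

theorem invBy_mono {S T H : Subgroup G} {f : H → ℂ} (h : T ≤ S) (hf : InvBy S H f) : InvBy T H f :=
  fun g hg => hf g (h hg)

/-- Conjugation by a normalising element. -/
def conjE {H : Subgroup G} {g : G} (hg : g ∈ Subgroup.normalizer (H : Set G)) : H ≃* H where
  toFun x := ⟨g * x * g⁻¹, (Subgroup.mem_normalizer_iff.mp hg _).mp x.2⟩
  invFun x := ⟨g⁻¹ * x * g,
    (Subgroup.mem_normalizer_iff.mp hg _).mpr (by simp [mul_assoc])⟩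
  left_inv x := Subtype.ext (by simp [mul_assoc])
  right_inv x := Subtype.ext (by simp [mul_assoc])
  map_mul' x y := Subtype.ext (by simp [mul_assoc])

theorem coe_conjE {H : Subgroup G} {g : G} (hg : g ∈ Subgroup.normalizer (H : Set G)) (x : H) :
    (conjE hg x : G) = g * x * g⁻¹ := rfl

/-- The conjugate character. -/
def conjI {H : Subgroup G} {g : G} (hg : g ∈ Subgroup.normalizer (H : Set G))
    (β : Cfsg.IrrCharacter H) : Cfsg.IrrCharacter H :=
  ⟨(β : H → ℂ) ∘ conjE hg, isIrrCharacter_comp (conjE hg).toMonoidHom (conjE hg).surjective β.2⟩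

theorem conjI_apply {H : Subgroup G} {g : G} (hg : g ∈ Subgroup.normalizer (H : Set G))
    (β : Cfsg.IrrCharacter H) (x : H) : (conjI hg β : H → ℂ) x = (β : H → ℂ) (conjE hg x) := rfl

theorem invAt_iff {H : Subgroup G} {g : G} (hg : g ∈ Subgroup.normalizer (H : Set G))
    (f : H → ℂ) : InvAt g H f ↔ ∀ x : H, f (conjE hg x) = f x :=
  ⟨fun h x => h x _ (coe_conjE hg x), fun h x y hy => by
    rw [show y = conjE hg x from Subtype.ext hy]; exact h x⟩

theorem invAt_iff_conjI {H : Subgroup G} {g : G} (hg : g ∈ Subgroup.normalizer (H : Set G))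
    (β : Cfsg.IrrCharacter H) : InvAt g H (β : H → ℂ) ↔ conjI hg β = β := by
  rw [invAt_iff hg, Subtype.ext_iff]
  exact ⟨fun h => funext h, fun h x => congrFun h x⟩

theorem invAt_of_mem {H : Subgroup G} {g : G} (hg : g ∈ H) {f : H → ℂ}
    (hf : Cfsg.IsClassFunction H f) : InvAt g H f := fun x y hy => by
  rw [show y = ⟨g, hg⟩ * x * (⟨g, hg⟩ : H)⁻¹ from Subtype.ext hy]
  exact hf x ⟨g, hg⟩

theorem invAt_mul {H : Subgroup G} {a b : G} (hb : b ∈ Subgroup.normalizer (H : Set G))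
    {f : H → ℂ} (ha : InvAt a H f) (hb' : InvAt b H f) : InvAt (a * b) H f := fun x y hy => by
  rw [ha (conjE hb x) y (by rw [hy, coe_conjE]; simp [mul_assoc])]
  exact hb' x _ (coe_conjE hb x)

theorem invAt_inv {H : Subgroup G} {a : G} {f : H → ℂ} (ha : InvAt a H f) : InvAt a⁻¹ H f :=
  fun x y hy => (ha y x (by rw [hy]; simp [mul_assoc])).symm

/-- The elements normalising `H` and fixing `f`. -/
def stab (H : Subgroup G) (f : H → ℂ) : Subgroup G where
  carrier := {g | g ∈ Subgroup.normalizer (H : Set G) ∧ InvAt g H f}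
  one_mem' := ⟨one_mem _, fun x y hy => congrArg f (Subtype.ext (by simpa using hy))⟩
  mul_mem' ha hb := ⟨mul_mem ha.1 hb.1, invAt_mul hb.1 ha.2 hb.2⟩
  inv_mem' ha := ⟨inv_mem ha.1, invAt_inv ha.2⟩

theorem mem_stab {H : Subgroup G} {f : H → ℂ} {g : G} :
    g ∈ stab H f ↔ g ∈ Subgroup.normalizer (H : Set G) ∧ InvAt g H f := Iff.rfl

theorem le_stab {H : Subgroup G} {f : H → ℂ} (hf : Cfsg.IsClassFunction H f) : H ≤ stab H f :=
  fun _ hg => ⟨Subgroup.le_normalizer hg, invAt_of_mem hg hf⟩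

variable [Fintype G]

/-- The multiplicity of `β` in the restriction of `θ`. -/
noncomputable def m {H K : Subgroup G} (h : H ≤ K) (θ : Cfsg.IrrCharacter K)
    (β : Cfsg.IrrCharacter H) : ℕ := mult (Subgroup.inclusion h) θ β

theorem coe_m {H K : Subgroup G} (h : H ≤ K) (θ : Cfsg.IrrCharacter K)
    (β : Cfsg.IrrCharacter H) :
    Cfsg.classInner (fun x : H => (θ : K → ℂ) (Subgroup.inclusion h x)) (β : H → ℂ) =
      (m h θ β : ℂ) := coe_mult _ θ β

theorem m_self {H : Subgroup G} (h : H ≤ H) (θ β : Cfsg.IrrCharacter H) :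
    m h θ β = if θ = β then 1 else 0 := by
  rw [← Nat.cast_inj (R := ℂ), ← coe_m]
  push_cast
  exact classInner_irr θ β

/-- Multiplicities are invariant under conjugation. -/
theorem m_conj {H K : Subgroup G} (h : H ≤ K) {g : G}
    (hgH : g ∈ Subgroup.normalizer (H : Set G)) (hgK : g ∈ Subgroup.normalizer (K : Set G))
    (θ : Cfsg.IrrCharacter K) (β : Cfsg.IrrCharacter H) :
    m h (conjI hgK θ) (conjI hgH β) = m h θ β :=
  Glauberman.mult_twist _ (conjE hgK) (conjE hgH) (fun c => Subtype.ext rfl) (fun _ => rfl)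
    fun _ => rfl

theorem m_conj_of_inv {H K : Subgroup G} (h : H ≤ K) {g : G}
    (hgH : g ∈ Subgroup.normalizer (H : Set G)) (hgK : g ∈ Subgroup.normalizer (K : Set G))
    {θ : Cfsg.IrrCharacter K} (hθ : InvAt g K (θ : K → ℂ)) (β : Cfsg.IrrCharacter H) :
    m h θ (conjI hgH β) = m h θ β := by
  conv_lhs => rw [← (invAt_iff_conjI hgK θ).mp hθ]
  exact m_conj h hgH hgK θ β

omit [Fintype G] in
/-- A sum of an invariant function over the orbits of a `p`-group. -/
theorem orbit_sum {X : Type v} [Fintype X] {S : Type*} [Group S] [MulAction S X] {p : ℕ}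
    [Fact p.Prime] (hS : IsPGroup p S) (F : X → ℕ) (hF : ∀ (s : S) (x : X), F (s • x) = F x) :
    ((∑ x, F x : ℕ) : ZMod p) = ∑ x ∈ Finset.univ.filter (fun x => ∀ s : S, s • x = x), (F x : ZMod p) := by
  let Y := {y : X × ℕ // y.2 < F y.1}
  letI : MulAction S Y :=
    { smul := fun s y => ⟨(s • y.1.1, y.1.2), by rw [hF]; exact y.2⟩
      one_smul := fun y => Subtype.ext (Prod.ext (one_smul S y.1.1) rfl)
      mul_smul := fun a b y => Subtype.ext (Prod.ext (mul_smul a b y.1.1) rfl) }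
  let e₁ : Y ≃ Σ x : X, Fin (F x) :=
    { toFun := fun y => ⟨y.1.1, y.1.2, y.2⟩
      invFun := fun y => ⟨(y.1, (y.2 : ℕ)), y.2.2⟩
      left_inv := fun y => rfl
      right_inv := fun y => rfl }
  haveI : Finite Y := Finite.of_equiv _ e₁.symm
  have h := hS.card_modEq_card_fixedPoints Y
  have h1 : Nat.card Y = ∑ x, F x := by simp [Nat.card_congr e₁, Nat.card_sigma]
  let e : MulAction.fixedPoints S Y ≃ Σ x : {x : X // ∀ s : S, s • x = x}, Fin (F x) :=
    { toFun := fun y => ⟨⟨y.1.1.1, fun s => congrArg (fun z : Y => z.1.1) (y.2 s)⟩, y.1.1.2, y.1.2⟩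
      invFun := fun y => ⟨⟨(y.1.1, (y.2 : ℕ)), y.2.2⟩,
        fun s => Subtype.ext (Prod.ext (y.1.2 s) rfl)⟩
      left_inv := fun y => rfl
      right_inv := fun y => rfl }
  have h2 : Nat.card (MulAction.fixedPoints S Y) =
      ∑ x ∈ Finset.univ.filter (fun x => ∀ s : S, s • x = x), F x := by
    rw [Nat.card_congr e, Nat.card_sigma]
    simp only [Nat.card_fin]
    rw [      ← Finset.sum_subtype (Finset.univ.filter fun x : X => ∀ s : S, s • x = x) (by simp) F]
  rw [h1, h2] at h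
  rw [(ZMod.natCast_eq_natCast_iff _ _ _).mpr h, Nat.cast_sum]

/-- A sum over the characters of a subgroup normalised by a `p`-group. -/
theorem sum_irr {S H : Subgroup G} {p : ℕ} [Fact p.Prime] (hS : IsPGroup p S)
    (hSH : S ≤ Subgroup.normalizer (H : Set G)) (F : Cfsg.IrrCharacter H → ℕ)
    (hF : ∀ (g : G) (hg : g ∈ S) (β : Cfsg.IrrCharacter H), F (conjI (hSH hg) β) = F β) :
    ((∑ β, F β : ℕ) : ZMod p) =
      ∑ β ∈ Finset.univ.filter (fun β : Cfsg.IrrCharacter H => InvBy S H (β : H → ℂ)),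
        (F β : ZMod p) := by
  letI : MulAction S (Cfsg.IrrCharacter H) :=
    { smul := fun s β => conjI (hSH (inv_mem s.2)) β
      one_smul := fun β => Subtype.ext (funext fun x => congrArg (β : H → ℂ)
        (Subtype.ext (by simp [coe_conjE])))
      mul_smul := fun a b β => Subtype.ext (funext fun x => congrArg (β : H → ℂ)
        (Subtype.ext (by simp [coe_conjE, mul_assoc]))) }
  refine (orbit_sum hS F fun (s : S) (β : Cfsg.IrrCharacter H) =>
    hF ((s : G)⁻¹) (inv_mem s.2) β).trans ?_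
  refine Finset.sum_congr ?_ fun β _ => rfl
  ext β
  simp only [Finset.mem_filter, Finset.mem_univ, true_and]
  refine ⟨fun h g hg => ?_, fun h s => ?_⟩
  · exact (invAt_iff_conjI (hSH hg) β).mpr (by
      have := h ⟨g⁻¹, inv_mem hg⟩
      exact (Subtype.ext (funext fun x => congrArg (β : H → ℂ) (Subtype.ext (by simp [coe_conjE]))) :
        conjI (hSH hg) β = conjI (hSH (inv_mem (inv_mem hg))) β).trans this)
  · exact (invAt_iff_conjI (hSH (inv_mem s.2)) β).mp (h _ (inv_mem s.2))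

omit [Fintype G] in
/-- The degree as a natural number. -/
theorem coe_charDegree {A : Type v} [Group A] [Finite A] (χ : Cfsg.IrrCharacter A) :
    (χ : A → ℂ) 1 = (Cfsg.charDegree (χ : A → ℂ) : ℂ) := by
  obtain ⟨n, hn⟩ := exists_degree (isCharacter_irr χ)
  simp [Cfsg.charDegree, hn]

omit [Fintype G] in
theorem degree_sum {A B : Type v} [Group A] [Group B] [Fintype A] [Finite B] (ι : A →* B)
    (θ : Cfsg.IrrCharacter B) :
    Cfsg.charDegree (θ : B → ℂ) =
      ∑ β : Cfsg.IrrCharacter A, mult ι θ β * Cfsg.charDegree (β : A → ℂ) := by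
  have h := Glauberman.restrict_eq_sum ι θ 1
  rw [map_one, coe_charDegree] at h
  rw [← Nat.cast_inj (R := ℂ), h]
  push_cast
  simp [coe_charDegree]

/-- An invariant character of degree prime to `p` has an invariant constituent of that kind. -/
theorem exists_inv {S H K : Subgroup G} {p : ℕ} [Fact p.Prime] (hS : IsPGroup p S) (h : H ≤ K)
    (hSH : S ≤ Subgroup.normalizer (H : Set G)) (hSK : S ≤ Subgroup.normalizer (K : Set G))
    {θ : Cfsg.IrrCharacter K} (hθ : InvBy S K (θ : K → ℂ))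
    (hd : ¬ p ∣ Cfsg.charDegree (θ : K → ℂ)) :
    ∃ β : Cfsg.IrrCharacter H, InvBy S H (β : H → ℂ) ∧ ¬ p ∣ m h θ β ∧
      ¬ p ∣ Cfsg.charDegree (β : H → ℂ) := by
  have hsum := sum_irr hS hSH (fun β => m h θ β * Cfsg.charDegree (β : H → ℂ)) (fun g hg β => by
    rw [m_conj_of_inv h (hSH hg) (hSK hg) (hθ g hg)]
    congr 1
    simp only [Cfsg.charDegree, conjI_apply, map_one])
  simp only [m] at hsum
  rw [← degree_sum (Subgroup.inclusion h) θ] at hsum
  have hne : ((Cfsg.charDegree (θ : K → ℂ) : ℕ) : ZMod p) ≠ 0 := by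
    rwa [Ne, ZMod.natCast_eq_zero_iff]
  rw [hsum] at hne
  obtain ⟨β, hβ, hb⟩ := Finset.exists_ne_zero_of_sum_ne_zero hne
  rw [Ne, ZMod.natCast_eq_zero_iff, (Fact.out : p.Prime).dvd_mul, not_or] at hb
  exact ⟨β, (Finset.mem_filter.mp hβ).2, hb⟩

/-- Transitivity of multiplicities modulo `p`. -/
theorem m_trans {S H M K : Subgroup G} {p : ℕ} [Fact p.Prime] (hS : IsPGroup p S) (hHM : H ≤ M)
    (hMK : M ≤ K) (hSH : S ≤ Subgroup.normalizer (H : Set G))
    (hSM : S ≤ Subgroup.normalizer (M : Set G)) (hSK : S ≤ Subgroup.normalizer (K : Set G))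
    {θ : Cfsg.IrrCharacter K} (hθ : InvBy S K (θ : K → ℂ))
    {β : Cfsg.IrrCharacter H} (hβ : InvBy S H (β : H → ℂ)) :
    (m (hHM.trans hMK) θ β : ZMod p) =
      ∑ γ ∈ Finset.univ.filter (fun γ : Cfsg.IrrCharacter M => InvBy S M (γ : M → ℂ)),
        (m hMK θ γ : ZMod p) * m hHM γ β := by
  have h1 : m (hHM.trans hMK) θ β = ∑ γ : Cfsg.IrrCharacter M, m hMK θ γ * m hHM γ β :=
    Glauberman.mult_comp (Subgroup.inclusion hMK) (Subgroup.inclusion hHM) _ (fun _ => rfl) θ β
  rw [h1, sum_irr hS hSM _ fun g hg γ => by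
    rw [m_conj_of_inv hMK (hSM hg) (hSK hg) (hθ g hg)]
    conv_lhs => rw [← (invAt_iff_conjI (hSH hg) β).mp (hβ g hg)]
    rw [m_conj hHM (hSH hg) (hSM hg)]]
  push_cast
  rfl

/-- A character under which `β` lies is a multiple of `β`, when `β` is fixed. -/
theorem restrict_eq {C M : Subgroup G} (h : C ≤ M) (γ : Cfsg.IrrCharacter M)
    (β : Cfsg.IrrCharacter C) (hM : M ≤ stab C (β : C → ℂ)) (hm : m h γ β ≠ 0) :
    ∀ x : C, (γ : M → ℂ) (Subgroup.inclusion h x) = (m h γ β : ℂ) * (β : C → ℂ) x := by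
  haveI hnorm : (C.subgroupOf M).Normal :=
    (Subgroup.normal_subgroupOf_iff_le_normalizer h).mpr fun g hg => (hM hg).1
  let e : C.subgroupOf M ≃* C := Subgroup.subgroupOfEquivOfLe h
  let β' : Cfsg.IrrCharacter (C.subgroupOf M) :=
    ⟨(β : C → ℂ) ∘ e, isIrrCharacter_comp e.toMonoidHom e.surjective β.2⟩
  have hinner : Cfsg.classInner (fun n : C.subgroupOf M => (γ : M → ℂ) n) (β' : C.subgroupOf M → ℂ) =
      (m h γ β : ℂ) := by
    rw [← coe_m]
    exact RelGlauberman.classInner_transport e _ _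
  have hs := restrict_eq_smul (C.subgroupOf M) γ.2 β' (by rw [hinner]; exact_mod_cast hm)
    fun g => funext fun n => by
      rw [conjC_apply]
      exact (hM g.2).2 (e n) _ rfl
  intro x
  have := congrFun hs (e.symm x)
  rw [hinner] at this
  have e1 : Subgroup.inclusion h x = ((e.symm x : C.subgroupOf M) : M) := Subtype.ext rfl
  rw [e1]
  simpa [β'] using this

/-- Two fixed characters under the same character are equal. -/
theorem eq_of_m_ne_zero {C M : Subgroup G} (h : C ≤ M) (γ : Cfsg.IrrCharacter M)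
    (β β' : Cfsg.IrrCharacter C) (hM : M ≤ stab C (β : C → ℂ)) (hm : m h γ β ≠ 0)
    (hm' : m h γ β' ≠ 0) : β' = β := by
  have h1 := coe_m h γ β'
  rw [funext (restrict_eq h γ β hM hm),
    show (fun x => (m h γ β : ℂ) * (β : C → ℂ) x) = (m h γ β : ℂ) • (β : C → ℂ) from rfl,
    classInner_smul_left, classInner_irr] at h1
  by_contra hne
  rw [if_neg (Ne.symm hne), mul_zero] at h1
  exact hm' (by exact_mod_cast h1.symm)

/-- A character over an extendible character with abelian quotient is a twist of the extension. -/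
theorem exists_twist {C M : Subgroup G} (h : C ≤ M) (hn : M ≤ Subgroup.normalizer (C : Set G))
    (hab : ∀ x ∈ M, ∀ y ∈ M, x * y * x⁻¹ * y⁻¹ ∈ C) (χ γ : Cfsg.IrrCharacter M)
    (β : Cfsg.IrrCharacter C) (hχ : ∀ x : C, (χ : M → ℂ) (Subgroup.inclusion h x) = (β : C → ℂ) x)
    (hm : m h γ β ≠ 0) :
    ∃ l : M →* ℂˣ, (∀ x : M, (x : G) ∈ C → l x = 1) ∧ γ = Basic.twist l χ := by
  haveI hnorm : (C.subgroupOf M).Normal := (Subgroup.normal_subgroupOf_iff_le_normalizer h).mpr hn
  obtain ⟨Λ, -, hΛN, hΛs⟩ := Isometry.Clifford.exists_dual (C.subgroupOf M)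
    fun x y => Subgroup.mem_subgroupOf.mpr (hab x x.2 y y.2)
  let e : C.subgroupOf M ≃* C := Subgroup.subgroupOfEquivOfLe h
  have h1 : Cfsg.classInner (fun n : C.subgroupOf M => (γ : M → ℂ) n)
      (fun n : C.subgroupOf M => (χ : M → ℂ) n) = (m h γ β : ℂ) := by
    rw [show (fun n : C.subgroupOf M => (χ : M → ℂ) n) = (β : C → ℂ) ∘ e from
      funext fun n => (hχ (e n)), RelGlauberman.classInner_transport, ← coe_m]
    rfl
  rw [← classInner_conj_symm, Basic.restrict_inner (C.subgroupOf M) hΛs, map_natCast] at h1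
  have hne : Basic.moves Λ χ γ ≠ 0 := fun h0 => by
    rw [h0] at h1
    simp at h1
    exact hm (Nat.cast_eq_zero.mp h1.symm)
  obtain ⟨l, hl⟩ := Finset.card_pos.mp (Nat.pos_of_ne_zero hne)
  obtain ⟨hl, hlγ⟩ := Finset.mem_filter.mp hl
  exact ⟨l, fun x hx => hΛN l hl x (Subgroup.mem_subgroupOf.mpr hx), hlγ.symm⟩

/-- A fixed character extends over a cyclic quotient. -/
theorem exists_ext_cyclic {C M : Subgroup G} (h : C ≤ M) (β : Cfsg.IrrCharacter C)
    (hM : M ≤ stab C (β : C → ℂ)) {g : G} (hg : g ∈ M) (hgen : M ≤ C ⊔ Subgroup.zpowers g) :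
    ∃ η : Cfsg.IrrCharacter M, ∀ x : C, (η : M → ℂ) (Subgroup.inclusion h x) = (β : C → ℂ) x := by
  haveI hnorm : (C.subgroupOf M).Normal :=
    (Subgroup.normal_subgroupOf_iff_le_normalizer h).mpr fun g hg => (hM hg).1
  haveI : IsCyclic (M ⧸ C.subgroupOf M) := by
    refine ⟨⟨QuotientGroup.mk (⟨g, hg⟩ : M), fun q => ?_⟩⟩
    induction q using QuotientGroup.induction_on with
    | _ x =>
      have hx : (x : G) ∈ ((Subgroup.zpowers g ⊔ C : Subgroup G) : Set G) :=
        (sup_comm C (Subgroup.zpowers g) ▸ hgen x.2 : (x : G) ∈ Subgroup.zpowers g ⊔ C)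
      rw [Subgroup.coe_mul_of_left_le_normalizer_right _ _ (Subgroup.zpowers_le.mpr (hM hg).1)] at hx
      obtain ⟨z, ⟨k, rfl⟩, c, hc, hcz⟩ := hx
      refine ⟨k, ?_⟩
      show (QuotientGroup.mk (⟨g, hg⟩ : M)) ^ k = _
      rw [← QuotientGroup.mk_zpow, QuotientGroup.eq, Subgroup.mem_subgroupOf]
      simp only [Subgroup.coe_mul, Subgroup.coe_inv, SubgroupClass.coe_zpow, ← hcz]
      simpa [mul_assoc] using hc
  let e : C.subgroupOf M ≃* C := Subgroup.subgroupOfEquivOfLe h
  obtain ⟨χ, hχ, hres⟩ := Brauer.ExtensionChar.exists_extension_cyclic (C.subgroupOf M)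
    (ϑ := (β : C → ℂ) ∘ e) (isIrrCharacter_comp e.toMonoidHom e.surjective β.2)
    fun g n => (hM g.2).2 (e n) _ rfl
  refine ⟨⟨χ, hχ⟩, fun x => ?_⟩
  rw [show Subgroup.inclusion h x = ((e.symm x : C.subgroupOf M) : M) from Subtype.ext rfl]
  simpa using hres (e.symm x)

end Cfsg.Agent.Lib.RelMcKay.Rel
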