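import Cfsg.Agent.Lib.RelMcKay.Good

/-!
# Extendibility passes to the correspondent when one generator centralises the `p`-group
-/

set_option autoImplicit false

namespace Cfsg.Agent.Lib.RelMcKay.Special

open scoped ComplexConjugate Classical
open Cfsg.Agent.Lib.Characters Cfsg.Agent.Lib.Characters.Basic Cfsg.Agent.Lib.Induced.Basic
open Cfsg.Agent.Lib.RelMcKay.Rel Cfsg.Agent.Lib.RelMcKay.Extend Cfsg.Agent.Lib.RelMcKay.Corr
open Cfsg.Agent.Lib.RelMcKay.Step (exists_zpow_of_mem_sup)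

universe u

variable {G : Type u} [Group G] [Fintype G]

/-- Commuting elements of coprime orders modulo `K`: `θ` extends. -/
theorem extends_coprime {K : Subgroup G} {θ : Cfsg.IrrCharacter K} {a b : G}
    (ha : a ∈ stab K (θ : K → ℂ)) (hb : b ∈ stab K (θ : K → ℂ)) (hc : b * a * b⁻¹ * a⁻¹ ∈ K)
    {n k : ℕ} (han : a ^ n ∈ K) (hbk : b ^ k ∈ K) (hcop : n.Coprime k) :
    Extends θ ((K ⊔ Subgroup.zpowers a) ⊔ Subgroup.zpowers b) := by
  obtain ⟨A, hA⟩ : ∃ A, (K ⊔ Subgroup.zpowers a) ⊔ Subgroup.zpowers b = A := ⟨_, rfl⟩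
  rw [hA]
  have hKA : K ≤ A := hA ▸ le_sup_left.trans le_sup_left
  have haA : a ∈ A := hA ▸ Subgroup.mem_sup_left (Subgroup.mem_sup_right (Subgroup.mem_zpowers a))
  have hbA : b ∈ A := hA ▸ Subgroup.mem_sup_right (Subgroup.mem_zpowers b)
  have hAs : A ≤ stab K (θ : K → ℂ) := hA ▸ sup_le (sup_le (le_stab (isClassFunction_irr θ))
    (Subgroup.zpowers_le.mpr ha)) (Subgroup.zpowers_le.mpr hb)
  haveI : (K.subgroupOf A).Normal :=
    (Subgroup.normal_subgroupOf_iff_le_normalizer hKA).mpr fun g hg => (hAs hg).1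
  let q := QuotientGroup.mk' (K.subgroupOf A)
  have hone : ∀ z : A, q z = 1 ↔ (z : G) ∈ K := fun z => by
    rw [QuotientGroup.mk'_apply, QuotientGroup.eq_one_iff, Subgroup.mem_subgroupOf]
  have hcomm : Commute (q ⟨b, hbA⟩) (q ⟨a, haA⟩) := by
    have h1 : q (⟨b, hbA⟩ * ⟨a, haA⟩ * (⟨b, hbA⟩ : A)⁻¹ * (⟨a, haA⟩ : A)⁻¹) = 1 := (hone _).mpr hc
    rwa [map_mul, map_mul, map_mul, map_inv, map_inv, mul_inv_eq_one, mul_inv_eq_iff_eq_mul] at h1
  obtain ⟨j, hj1, hj2⟩ := Nat.chineseRemainder hcop 1 0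
  have ha1 : q ⟨a, haA⟩ ^ n = 1 := by rw [← map_pow, hone]; exact han
  have hb1 : q ⟨b, hbA⟩ ^ k = 1 := by rw [← map_pow, hone]; exact hbk
  have hja : q ⟨a, haA⟩ ^ j = q ⟨a, haA⟩ := by
    conv_rhs => rw [← pow_one (q ⟨a, haA⟩)]
    exact pow_eq_pow_iff_modEq.mpr (hj1.of_dvd (orderOf_dvd_of_pow_eq_one ha1))
  have hjb : q ⟨b, hbA⟩ ^ j = 1 := by
    rw [← pow_zero (q ⟨b, hbA⟩)]
    exact pow_eq_pow_iff_modEq.mpr (hj2.of_dvd (orderOf_dvd_of_pow_eq_one hb1))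
  have hpow : q ((⟨a * b, mul_mem haA hbA⟩ : A) ^ j) = q ⟨a, haA⟩ := by
    rw [show (⟨a * b, mul_mem haA hbA⟩ : A) = ⟨a, haA⟩ * ⟨b, hbA⟩ from rfl, map_pow, map_mul,
      hcomm.symm.mul_pow, hja, hjb, mul_one]
  have ha' : a ∈ K ⊔ Subgroup.zpowers (a * b) := by
    have h2 : q (((⟨a * b, mul_mem haA hbA⟩ : A) ^ j)⁻¹ * ⟨a, haA⟩) = 1 := by
      rw [map_mul, map_inv, hpow, inv_mul_cancel]
    have h3 : ((a * b) ^ j)⁻¹ * a ∈ K := (hone _).mp h2
    have h4 : (a * b) ^ j * (((a * b) ^ j)⁻¹ * a) ∈ K ⊔ Subgroup.zpowers (a * b) :=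
      mul_mem (Subgroup.mem_sup_right (Subgroup.npow_mem_zpowers _ j)) (Subgroup.mem_sup_left h3)
    rwa [mul_inv_cancel_left] at h4
  refine extends_of_cyclic θ hKA hAs (mul_mem haA hbA)
    (hA ▸ sup_le (sup_le le_sup_left (Subgroup.zpowers_le.mpr ha')) (Subgroup.zpowers_le.mpr ?_))
  have h5 : a⁻¹ * (a * b) ∈ K ⊔ Subgroup.zpowers (a * b) :=
    mul_mem (inv_mem ha') (Subgroup.mem_sup_right (Subgroup.mem_zpowers _))
  rwa [inv_mul_cancel_left] at h5

variable {p : ℕ} [hp : Fact p.Prime]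

/-- The index after adjoining an element of order prime to `p` modulo `K`. -/
theorem idx_sup {L K : Subgroup G} (hL : L ≤ K) (hidx : ¬ p ∣ L.relIndex K) {b : G}
    (hb : b ∈ Subgroup.normalizer (K : Set G)) {n : ℕ} (hn : ¬ p ∣ n) (hbn : b ^ n ∈ K) :
    ¬ p ∣ L.relIndex (K ⊔ Subgroup.zpowers b) := by
  obtain ⟨B, hB⟩ : ∃ B, K ⊔ Subgroup.zpowers b = B := ⟨_, rfl⟩
  rw [hB]
  have hKB : K ≤ B := hB ▸ le_sup_left
  have hbB : b ∈ B := hB ▸ Subgroup.mem_sup_right (Subgroup.mem_zpowers b)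
  rw [← Subgroup.relIndex_mul_relIndex L K B hL hKB, hp.out.dvd_mul]
  rintro (h | h)
  · exact hidx h
  · haveI : (K.subgroupOf B).Normal := (Subgroup.normal_subgroupOf_iff_le_normalizer hKB).mpr
      (hB ▸ sup_le Subgroup.le_normalizer (Subgroup.zpowers_le.mpr hb))
    have hgen : ∀ z : B ⧸ K.subgroupOf B,
        z ∈ Subgroup.zpowers (QuotientGroup.mk (⟨b, hbB⟩ : B)) := by
      intro z
      induction z using QuotientGroup.induction_on with
      | _ g =>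
        obtain ⟨d, i, hd, hg⟩ := exists_zpow_of_mem_sup hb (hB ▸ g.2 : (g : G) ∈ K ⊔ Subgroup.zpowers b)
        refine ⟨i, ?_⟩
        show (QuotientGroup.mk (⟨b, hbB⟩ : B)) ^ i = _
        rw [← QuotientGroup.mk_zpow, QuotientGroup.eq, Subgroup.mem_subgroupOf]
        simp [hg, hd]
    refine hn (h.trans ?_)
    rw [Subgroup.relIndex, Subgroup.index_eq_card, ← Nat.card_congr (Equiv.subtypeUnivEquiv hgen)]
    refine (dvd_of_eq (Nat.card_zpowers _)).trans (orderOf_dvd_of_pow_eq_one ?_)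
    rw [← QuotientGroup.mk_pow, QuotientGroup.eq_one_iff, Subgroup.mem_subgroupOf]
    exact hbn

variable {L K S C : Subgroup G} [hLn : L.Normal]

/-- The case of a generator centralising `S` modulo `L`. -/
theorem special (hL : L ≤ K) (hidx : ¬ p ∣ L.relIndex K) (hS : IsPGroup p S)
    (hn : S ≤ Subgroup.normalizer (K : Set G)) (hC : C = fixC L K S) {a b : G}
    (haK : a ∈ Subgroup.normalizer (K : Set G)) (hbK : b ∈ Subgroup.normalizer (K : Set G))
    (haS : ∀ s ∈ S, a * s * a⁻¹ ∈ S ⊔ L ∧ a⁻¹ * s * a ∈ S ⊔ L)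
    (hbS : ∀ s ∈ S, s * b * s⁻¹ * b⁻¹ ∈ L) (hc : a * b * a⁻¹ * b⁻¹ ∈ C)
    {n : ℕ} (hpn : ¬ p ∣ n) (hbn : b ^ n ∈ C)
    {θ : Cfsg.IrrCharacter K} {β : Cfsg.IrrCharacter C} (hθ : InvBy S K (θ : K → ℂ))
    (hd : ¬ p ∣ Cfsg.charDegree (θ : K → ℂ)) (hβ : InvBy S C (β : C → ℂ))
    (hm : ¬ p ∣ m (hC ▸ fixC_le L K S) θ β)
    (hθa : InvAt a K (θ : K → ℂ)) (hθb : InvAt b K (θ : K → ℂ)) :
    Extends θ ((K ⊔ Subgroup.zpowers b) ⊔ Subgroup.zpowers a) ↔
      Extends β ((C ⊔ Subgroup.zpowers b) ⊔ Subgroup.zpowers a) := by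
  subst hC
  have hsL : ∀ s ∈ S, Commute (s : G ⧸ L) (b : G ⧸ L) := fun s hs => (Step.mk_comm L s b).mp (hbS s hs)
  have hbS' : ∀ s ∈ S, b * s * b⁻¹ ∈ S ⊔ L ∧ b⁻¹ * s * b ∈ S ⊔ L := by
    intro s hs
    have h1 : s⁻¹ * (b * s * b⁻¹) ∈ L := by
      rw [← QuotientGroup.eq_one_iff]
      simp only [QuotientGroup.mk_mul, QuotientGroup.mk_inv]
      rw [(hsL s hs).symm.eq]
      simp
    have h2 : s⁻¹ * (b⁻¹ * s * b) ∈ L := by
      rw [← QuotientGroup.eq_one_iff]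
      simp only [QuotientGroup.mk_mul, QuotientGroup.mk_inv]
      rw [mul_assoc ((b : G ⧸ L)⁻¹), (hsL s hs).eq]
      simp
    exact ⟨by simpa using mul_mem (Subgroup.mem_sup_left hs) (Subgroup.mem_sup_right h1),
      by simpa using mul_mem (Subgroup.mem_sup_left hs) (Subgroup.mem_sup_right h2)⟩
  have hCn : S ≤ Subgroup.normalizer (fixC L K S : Set G) := le_normalizer_fixC hL hn
  have hbC : b ∈ Subgroup.normalizer (fixC L K S : Set G) :=
    mem_normalizer_fixC hL hbK fun s hs => (hbS' s hs).2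
  have haC : a ∈ Subgroup.normalizer (fixC L K S : Set G) :=
    mem_normalizer_fixC hL haK fun s hs => (haS s hs).2
  have hβb : InvAt b _ (β : fixC L K S → ℂ) :=
    (conj_corr hL hidx hS hn hbK hbC (fun s hs => (hbS' s hs).1) hθ hd hβ hm).mp hθb
  have hβa : InvAt a _ (β : fixC L K S → ℂ) :=
    (conj_corr hL hidx hS hn haK haC (fun s hs => (haS s hs).1) hθ hd hβ hm).mp hθa
  set B := K ⊔ Subgroup.zpowers b with hB
  have hKB : K ≤ B := le_sup_left
  have hLB : L ≤ B := hL.trans hKB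
  have hbn' : b ^ n ∈ K := fixC_le L K S hbn
  have hidxB : ¬ p ∣ L.relIndex B := idx_sup hL hidx hbK hpn hbn'
  have hsb : ∀ s ∈ S, s ∈ Subgroup.normalizer (B : Set G) := fun s hs =>
    normalizer_sup hbK (hn hs) (hL (hbS s hs))
  have hnB : S ≤ Subgroup.normalizer (B : Set G) := fun s hs => hsb s hs
  -- fixed points in `B`
  have hCB : fixC L B S = fixC L K S ⊔ Subgroup.zpowers b := by
    refine le_antisymm (fun g hg => ?_) (sup_le (fun g hg => ?_) (Subgroup.zpowers_le.mpr ?_))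
    · obtain ⟨hgB, hgS⟩ := mem_fixC.mp hg
      obtain ⟨d, i, hd', rfl⟩ := exists_zpow_of_mem_sup hbK hgB
      refine mul_mem (Subgroup.mem_sup_right (Subgroup.zpow_mem_zpowers _ i))
        (Subgroup.mem_sup_left (mem_fixC.mpr ⟨hd', fun s hs => ?_⟩))
      rw [Step.mk_comm]
      have h1 := (Step.mk_comm L _ _).mp (hgS s hs)
      rw [QuotientGroup.mk_mul, QuotientGroup.mk_zpow] at h1
      have h2 : Commute (s : G ⧸ L) (((b : G ⧸ L) ^ i)⁻¹ * ((b : G ⧸ L) ^ i * (d : G ⧸ L))) :=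
        ((hsL s hs).zpow_right i).inv_right.mul_right h1
      rwa [inv_mul_cancel_left] at h2
    · exact mem_fixC.mpr ⟨hKB (mem_fixC.mp hg).1, (mem_fixC.mp hg).2⟩
    · exact mem_fixC.mpr ⟨Subgroup.mem_sup_right (Subgroup.mem_zpowers b), hbS⟩
  -- an extension, invariant under `S`
  obtain ⟨η, hη⟩ := exists_ext_cyclic (le_sup_left : K ≤ K ⊔ Subgroup.zpowers b) θ
    (sup_le (le_stab (isClassFunction_irr θ)) (Subgroup.zpowers_le.mpr ⟨hbK, hθb⟩))
    (Subgroup.mem_sup_right (Subgroup.mem_zpowers b)) le_rfl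
  have hηS : InvBy S B (η : B → ℂ) := fun s hs => by
    obtain ⟨e, he⟩ : ∃ e, orderOf s = p ^ e := by
      obtain ⟨e, he⟩ := IsPGroup.iff_orderOf.mp hS ⟨s, hs⟩
      exact ⟨e, by rw [← he, ← Subgroup.orderOf_coe]⟩
    exact (extends_iff ⟨hbK, hθb⟩ ⟨hn hs, hθ s hs⟩ (hL (hbS s hs)) η hη).mp
      (extends_coprime ⟨hbK, hθb⟩ ⟨hn hs, hθ s hs⟩ (hL (hbS s hs)) (n := n) (k := p ^ e)
        hbn' (by rw [← he, pow_orderOf_eq_one]; exact K.one_mem)
        (Nat.Coprime.pow_right e (((Nat.Prime.coprime_iff_not_dvd hp.out).mpr hpn).symm)))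
  have hdη : ¬ p ∣ Cfsg.charDegree (η : B → ℂ) := by
    have h1 := hη 1
    rw [map_one] at h1
    simpa only [Cfsg.charDegree, h1] using hd
  obtain ⟨δ, hδ, hδm, -⟩ := exists_corr hLB hidxB hS hnB hηS hdη
  -- the correspondent lies over `β`
  have hCle : fixC L K S ≤ fixC L B S := hCB ▸ le_sup_left
  have hδβ : m hCle δ β ≠ 0 := by
    have e1 : (m (hCle.trans (fixC_le L B S)) η β : ZMod p) =
        (m (fixC_le L B S) η δ : ZMod p) * m hCle δ β := by
      rw [m_trans hS hCle (fixC_le L B S) hCn (le_normalizer_fixC hLB hnB) hnB hηS hβ]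
      refine Finset.sum_eq_single δ (fun γ hγ hne => ?_) (fun h => ?_)
      · have hdv : p ∣ m (fixC_le L B S) η γ := by
          by_contra hnd
          exact hne (unique hLB hidxB hS hnB hηS hdη hδ (Finset.mem_filter.mp hγ).2 hδm hnd)
        rw [(ZMod.natCast_eq_zero_iff _ _).mpr hdv, zero_mul]
      · exact (h (by simp only [Finset.mem_filter, Finset.mem_univ, true_and]; exact hδ)).elim
    have e2 : (m ((fixC_le L K S).trans hKB) η β : ZMod p) = (m (fixC_le L K S) θ β : ZMod p) := by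
      rw [m_trans hS (fixC_le L K S) hKB hCn hn hnB hηS hβ]
      have hmη : ∀ φ : Cfsg.IrrCharacter K, m hKB η φ = if θ = φ then 1 else 0 := fun φ => by
        rw [← Nat.cast_inj (R := ℂ), ← coe_m, funext hη, classInner_irr]
        push_cast
        rfl
      rw [Finset.sum_eq_single θ (fun φ _ hne => by rw [hmη, if_neg (Ne.symm hne)]; simp)
        (fun h => (h (by simp only [Finset.mem_filter, Finset.mem_univ, true_and]; exact hθ)).elim),
        hmη, if_pos rfl, Nat.cast_one, one_mul]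
    intro h0
    rw [h0, Nat.cast_zero, mul_zero,
      show m (hCle.trans (fixC_le L B S)) η β = m ((fixC_le L K S).trans hKB) η β from rfl, e2] at e1
    exact hm ((ZMod.natCast_eq_zero_iff _ _).mp e1)
  -- so it is an extension
  have hext : ∀ k : fixC L K S, (δ : fixC L B S → ℂ) (Subgroup.inclusion hCle k) =
      (β : fixC L K S → ℂ) k := by
    have hstab : fixC L B S ≤ stab (fixC L K S) (β : fixC L K S → ℂ) :=
      hCB ▸ sup_le (le_stab (isClassFunction_irr β)) (Subgroup.zpowers_le.mpr ⟨hbC, hβb⟩)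
    have hbm : b ∈ fixC L B S := hCB ▸ Subgroup.mem_sup_right (Subgroup.mem_zpowers b)
    obtain ⟨χ, hχ⟩ := exists_ext_cyclic hCle β hstab hbm hCB.le
    obtain ⟨l, hl, rfl⟩ := exists_twist hCle (fun g hg => (hstab hg).1)
      (fun x hx y hy => comm_mem hbC (hCB.le hx) (hCB.le hy)) χ δ β hχ hδβ
    intro k
    rw [Basic.twist_apply, hl (Subgroup.inclusion hCle k) k.2, Units.val_one, one_mul, hχ]
  -- invariance under `a`
  have haB : a ∈ Subgroup.normalizer (B : Set G) := normalizer_sup hbK haK (fixC_le L K S hc)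
  have haCB : a ∈ Subgroup.normalizer (fixC L B S : Set G) :=
    mem_normalizer_fixC hLB haB fun s hs => (haS s hs).2
  have hkey := conj_corr hLB hidxB hS hnB haB haCB (fun s hs => (haS s hs).1) hηS hdη hδ hδm
  rw [extends_iff ⟨hbK, hθb⟩ ⟨haK, hθa⟩ (fixC_le L K S hc) η hη, hkey]
  -- transport along `fixC L B S = C ⊔ zpowers b`
  have main : ∀ (D : Subgroup G) (hCD : fixC L K S ≤ D) (δ' : Cfsg.IrrCharacter D),
      D = fixC L K S ⊔ Subgroup.zpowers b →
      (∀ k : fixC L K S, (δ' : D → ℂ) (Subgroup.inclusion hCD k) = (β : fixC L K S → ℂ) k) →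
      (InvAt a D (δ' : D → ℂ) ↔
        Extends β ((fixC L K S ⊔ Subgroup.zpowers b) ⊔ Subgroup.zpowers a)) := by
    intro D hCD δ' hD hres
    subst hD
    exact (extends_iff ⟨hbC, hβb⟩ ⟨haC, hβa⟩ hc δ' hres).symm
  exact main _ hCle δ hCB hext

end Cfsg.Agent.Lib.RelMcKay.Special
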