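import Cfsg.Agent.Lib.RelMcKay.Rel

/-!
# The correspondence for one element acting with order `p`

`u` is a `p`-element normalising `K`, `u ^ p` centralises `K` modulo the normal subgroup `L`, the
index of `L` in `K` is prime to `p` and `C` is the preimage of the fixed points of `u` on `K / L`.
-/

set_option autoImplicit false

namespace Cfsg.Agent.Lib.RelMcKay.Step

open scoped ComplexConjugate Classical
open Cfsg.Agent.Lib.Characters Cfsg.Agent.Lib.Characters.Basic Cfsg.Agent.Lib.Induced.Basic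
open Cfsg.Agent.Lib.Clifford.Basic
open Cfsg.Agent.Lib.RelMcKay.Rel

universe u

section Coset

variable {Γ : Type u} [Group Γ] [Fintype Γ] (N : Subgroup Γ) [hN : N.Normal] [Fintype N]

omit hN in
/-- Inner product on a coset. -/
theorem coset_inner {Λ : Finset (Γ →* ℂˣ)}
    (hs : ∀ g : Γ, ∑ l ∈ Λ, (l g : ℂ) = if g ∈ N then (N.index : ℂ) else 0)
    (η η' : Cfsg.IrrCharacter Γ) (h : Γ) :
    ∑ n : N, (η : Γ → ℂ) (h * n) * conj ((η' : Γ → ℂ) (h * n)) =
      (Nat.card N : ℂ) * ∑ l ∈ Λ, (l h⁻¹ : ℂ) *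
        Cfsg.classInner (Basic.twist l η : Γ → ℂ) (η' : Γ → ℂ) := by
  have h2 : ∑ n : N, (η : Γ → ℂ) (h * n) * conj ((η' : Γ → ℂ) (h * n)) =
      ∑ g : Γ, if h⁻¹ * g ∈ N then (η : Γ → ℂ) g * conj ((η' : Γ → ℂ) g) else 0 := by
    rw [← Equiv.sum_comp (Equiv.mulLeft h) fun g : Γ =>
      if h⁻¹ * g ∈ N then (η : Γ → ℂ) g * conj ((η' : Γ → ℂ) g) else 0]
    simp only [Equiv.coe_mulLeft, inv_mul_cancel_left]
    rw [← Finset.sum_filter]
    exact (Finset.sum_subtype (Finset.univ.filter (· ∈ N)) (by simp)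
      fun g => (η : Γ → ℂ) (h * g) * conj ((η' : Γ → ℂ) (h * g))).symm
  rw [h2]
  simp only [Cfsg.classInner, Basic.twist_apply, Finset.mul_sum]
  rw [Finset.sum_comm]
  refine Finset.sum_congr rfl fun g _ => ?_
  have h3 : ∀ l ∈ Λ, (Nat.card N : ℂ) * ((l h⁻¹ : ℂ) * ((Nat.card Γ : ℂ)⁻¹ *
      ((l g : ℂ) * (η : Γ → ℂ) g * conj ((η' : Γ → ℂ) g)))) =
      (l (h⁻¹ * g) : ℂ) * ((Nat.card N : ℂ) * (Nat.card Γ : ℂ)⁻¹ *
        ((η : Γ → ℂ) g * conj ((η' : Γ → ℂ) g))) := fun l _ => by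
    rw [map_mul, Units.val_mul]; ring
  rw [Finset.sum_congr rfl h3, ← Finset.sum_mul, hs]
  have : (N.index : ℂ) ≠ 0 := Nat.cast_ne_zero.mpr Subgroup.index_ne_zero_of_finite
  have := subgroup_card_ne_zero N
  split_ifs
  · rw [← N.card_mul_index, Nat.cast_mul]
    field_simp
  · simp

omit hN in
theorem sum_twist {Λ : Finset (Γ →* ℂˣ)}
    (hs : ∀ g : Γ, ∑ l ∈ Λ, (l g : ℂ) = if g ∈ N then (N.index : ℂ) else 0)
    (η η' : Cfsg.IrrCharacter Γ) :
    (∑ l ∈ Λ, if Basic.twist l η = η' then (1 : ℂ) else 0) =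
      Cfsg.classInner (fun n : N => (η : Γ → ℂ) n) (fun n : N => (η' : Γ → ℂ) n) := by
  rw [Basic.restrict_inner N hs, Finset.sum_boole]
  simp [Basic.moves]

/-- An irreducible restriction has mean square one on every coset. -/
theorem coset_norm (hab : ∀ x y : Γ, x * y * x⁻¹ * y⁻¹ ∈ N) (η : Cfsg.IrrCharacter Γ)
    (θ : Cfsg.IrrCharacter N) (hη : ∀ n : N, (η : Γ → ℂ) n = (θ : N → ℂ) n) (h : Γ) :
    ∑ n : N, (η : Γ → ℂ) (h * n) * conj ((η : Γ → ℂ) (h * n)) = (Nat.card N : ℂ) := by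
  obtain ⟨Λ, -, -, hs⟩ := Isometry.Clifford.exists_dual N hab
  rw [coset_inner N hs]
  have h1 : (1 : Γ →* ℂˣ) ∈ Λ := by
    by_contra h0
    have e : ∀ l ∈ Λ, ∑ g : Γ, (l g : ℂ) = 0 := fun l hl => by
      refine sum_hom_units_eq_zero ((Units.coeHom ℂ).comp l) fun e => h0 ?_
      have : l = 1 := MonoidHom.ext fun g => Units.ext (by simpa using DFunLike.congr_fun e g)
      exact this ▸ hl
    have h2 := Finset.sum_congr rfl fun g (_ : g ∈ (Finset.univ : Finset Γ)) => hs g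
    rw [Finset.sum_comm, Finset.sum_congr rfl e, Finset.sum_const_zero, ← Finset.sum_filter,
      Finset.sum_const, nsmul_eq_mul] at h2
    have hcard : (Finset.univ.filter fun g : Γ => g ∈ N).card ≠ 0 :=
      Finset.card_ne_zero.mpr ⟨1, by simp⟩
    rcases mul_eq_zero.mp h2.symm with h3 | h3
    · exact hcard (by exact_mod_cast h3)
    · exact Subgroup.index_ne_zero_of_finite (by exact_mod_cast h3)
  have hone : Basic.twist (1 : Γ →* ℂˣ) η = η :=
    Subtype.ext (funext fun g => by rw [Basic.twist_apply]; simp)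
  have hn : Cfsg.classInner (fun n : N => (η : Γ → ℂ) n) (fun n : N => (η : Γ → ℂ) n) = 1 := by
    rw [funext hη, classInner_self_irr]
  rw [← sum_twist N hs, ← Finset.add_sum_erase Λ _ h1, if_pos hone, Finset.sum_boole] at hn
  have hz : ∀ l ∈ Λ.erase 1, Basic.twist l η ≠ η := by
    intro l hl e
    have h5 : ((Λ.erase 1).filter fun l => Basic.twist l η = η).card = 0 := by
      have := add_left_cancel (hn.trans (add_zero (1 : ℂ)).symm)
      exact_mod_cast this
    exact (Finset.card_eq_zero.mp h5 ▸ Finset.mem_filter.mpr ⟨hl, e⟩ : l ∈ (∅ : Finset _)) |>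
      Finset.notMem_empty l
  simp only [classInner_irr]
  rw [← Finset.add_sum_erase Λ _ h1, if_pos hone, Finset.sum_eq_zero fun l hl => by
    rw [if_neg (hz l hl), mul_zero]]
  simp

/-- Different irreducible restrictions are orthogonal on every coset. -/
theorem coset_orth (hab : ∀ x y : Γ, x * y * x⁻¹ * y⁻¹ ∈ N) (η η' : Cfsg.IrrCharacter Γ)
    (θ θ' : Cfsg.IrrCharacter N) (hη : ∀ n : N, (η : Γ → ℂ) n = (θ : N → ℂ) n)
    (hη' : ∀ n : N, (η' : Γ → ℂ) n = (θ' : N → ℂ) n) (hne : θ ≠ θ') (h : Γ) :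
    ∑ n : N, (η : Γ → ℂ) (h * n) * conj ((η' : Γ → ℂ) (h * n)) = 0 := by
  obtain ⟨Λ, -, -, hs⟩ := Isometry.Clifford.exists_dual N hab
  rw [coset_inner N hs]
  have hn : Cfsg.classInner (fun n : N => (η : Γ → ℂ) n) (fun n : N => (η' : Γ → ℂ) n) = 0 := by
    rw [funext hη, funext hη', classInner_irr_of_ne hne]
  rw [← sum_twist N hs, Finset.sum_boole, Nat.cast_eq_zero, Finset.card_eq_zero,
    Finset.filter_eq_empty_iff] at hn
  simp only [classInner_irr]
  rw [Finset.sum_eq_zero fun l hl => by rw [if_neg (hn hl), mul_zero], mul_zero]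

end Coset

variable {G : Type u} [Group G] [Fintype G]

/-- The hypotheses. -/
structure Hyp (p : ℕ) (L K C : Subgroup G) (x : G) : Prop where
  normal : L.Normal
  le : L ≤ K
  idx : ¬ p ∣ L.relIndex K
  ord : ∃ n, orderOf x = p ^ n
  norm : x ∈ Subgroup.normalizer (K : Set G)
  fix : ∀ k, k ∈ C ↔ k ∈ K ∧ x * k * x⁻¹ * k⁻¹ ∈ L
  pow : ∀ k ∈ K, x ^ p * k * (x ^ p)⁻¹ * k⁻¹ ∈ L

variable {p : ℕ} [hp : Fact p.Prime] {L K C : Subgroup G} {x : G}

omit [Fintype G] in
theorem mk_comm (L : Subgroup G) [L.Normal] (a b : G) :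
    a * b * a⁻¹ * b⁻¹ ∈ L ↔ Commute (a : G ⧸ L) (b : G ⧸ L) := by
  rw [← QuotientGroup.eq_one_iff, commute_iff_eq, QuotientGroup.mk_mul, QuotientGroup.mk_mul,
    QuotientGroup.mk_mul, QuotientGroup.mk_inv, QuotientGroup.mk_inv, mul_inv_eq_one,
    mul_inv_eq_iff_eq_mul]

omit [Fintype G] hp in
theorem Hyp.Cle (h : Hyp p L K C x) : C ≤ K := fun k hk => ((h.fix k).mp hk).1

omit [Fintype G] hp in
theorem Hyp.LleC (h : Hyp p L K C x) : L ≤ C := fun l hl => by
  haveI := h.normal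
  exact (h.fix l).mpr ⟨h.le hl, L.mul_mem (h.normal.conj_mem l hl x) (L.inv_mem hl)⟩

omit hp in
theorem Hyp.normC (h : Hyp p L K C x) : x ∈ Subgroup.normalizer (C : Set G) := by
  haveI := h.normal
  refine Subgroup.mem_normalizer_fintype fun k hk => ?_
  have h2 := (h.fix k).mp hk
  have : x * k * x⁻¹ = (x * k * x⁻¹ * k⁻¹) * k := by simp [mul_assoc]
  rw [this]
  exact C.mul_mem (h.LleC h2.2) hk

omit [Fintype G] in
/-- The image of `K` has order prime to `p`. -/
theorem card_map_coprime [Finite G] [L.Normal] (hle : L ≤ K) (hidx : ¬ p ∣ L.relIndex K) :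
    (Nat.card (K.map (QuotientGroup.mk' L))).Coprime p := by
  refine Nat.Coprime.symm ((Nat.Prime.coprime_iff_not_dvd hp.out).mpr ?_)
  have e : Nat.card (K.map (QuotientGroup.mk' L)) = L.relIndex K := by
    rw [← Subgroup.relIndex_bot_left, ← Subgroup.relIndex_comap, MonoidHom.comap_bot,
      QuotientGroup.ker_mk']
  rwa [e]

/-- The averaging identity over a coset. -/
theorem fibre (h : Hyp p L K C x) {w : G} (hw : w ∈ Subgroup.normalizer (K : Set G))
    (hfix : ∀ k, k ∈ C ↔ k ∈ K ∧ w * k * w⁻¹ * k⁻¹ ∈ L)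
    (hpow : ∀ k ∈ K, w ^ p * k * (w ^ p)⁻¹ * k⁻¹ ∈ L)
    (F : G → ℂ) (hF : ∀ k ∈ K, ∀ g, F (k * g * k⁻¹) = F g) :
    (Nat.card K : ℂ) * ∑ c : C, F (w * c) = (Nat.card C : ℂ) * ∑ k : K, F (w * k) := by
  haveI := h.normal
  have hCK := h.Cle
  have hmem : ∀ a : K × C, w⁻¹ * ((a.1 : G) * (w * a.2) * (a.1 : G)⁻¹) ∈ K := fun a => by
    have e : w⁻¹ * ((a.1 : G) * (w * a.2) * (a.1 : G)⁻¹) =
        (w⁻¹ * (a.1 : G) * w) * (a.2 : G) * (a.1 : G)⁻¹ := by simp [mul_assoc]
    rw [e]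
    exact K.mul_mem (K.mul_mem ((Subgroup.mem_normalizer_iff''.mp hw _).mp a.1.2) (hCK a.2.2))
      (K.inv_mem a.1.2)
  let φ : K × C → K := fun a => ⟨_, hmem a⟩
  have hcop := card_map_coprime (p := p) h.le h.idx
  have key : ∀ a b : K × C, φ a = φ b → (b.1 : G)⁻¹ * a.1 ∈ C := by
    intro a b hab
    have e := congrArg (fun y : K => w * (y : G)) hab
    simp only [φ, mul_inv_cancel_left] at e
    refine (hfix _).mpr ⟨K.mul_mem (K.inv_mem b.1.2) a.1.2, (mk_comm L _ _).mpr ?_⟩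
    set q := QuotientGroup.mk' L with hq
    have hab' : ∀ c ∈ C, Commute (q w) (q c) := fun c hc => (mk_comm L w c).mp ((hfix c).mp hc).2
    set t := q ((b.1 : G)⁻¹ * a.1) with ht
    set c := q (a.2 : G)
    set c' := q (b.2 : G)
    have h1 : (b.1 : G)⁻¹ * a.1 * (w * a.2) = w * b.2 * ((b.1 : G)⁻¹ * a.1) := by
      calc (b.1 : G)⁻¹ * a.1 * (w * a.2)
          = (b.1 : G)⁻¹ * ((a.1 : G) * (w * a.2) * (a.1 : G)⁻¹) * a.1 := by simp [mul_assoc]
        _ = (b.1 : G)⁻¹ * ((b.1 : G) * (w * b.2) * (b.1 : G)⁻¹) * a.1 := by rw [e]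
        _ = _ := by simp [mul_assoc]
    have h2 : t * (q w * c) = q w * c' * t := by
      have := congrArg q h1
      simpa only [ht, c, c', map_mul] using this
    have hσ : ∀ i : ℕ, ((q w) ^ i)⁻¹ * t * (q w) ^ i = c' ^ i * t * (c ^ i)⁻¹ := by
      intro i
      induction i with
      | zero => simp
      | succ i ih =>
        have hbase : (q w)⁻¹ * t * q w = c' * t * c⁻¹ := by
          rw [eq_mul_inv_iff_mul_eq, mul_assoc, mul_assoc, h2, mul_assoc, inv_mul_cancel_left]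
        have hwc : Commute ((q w) ^ i) c := (hab' _ a.2.2).pow_left i
        have hwc' : Commute ((q w) ^ i) c' := (hab' _ b.2.2).pow_left i
        calc ((q w) ^ (i + 1))⁻¹ * t * (q w) ^ (i + 1)
            = ((q w) ^ i)⁻¹ * ((q w)⁻¹ * t * q w) * (q w) ^ i := by
              rw [pow_succ', mul_inv_rev]
              simp [mul_assoc, (Commute.self_pow (q w) i).eq]
          _ = c' * (((q w) ^ i)⁻¹ * t * (q w) ^ i) * c⁻¹ := by
              rw [hbase]
              simp only [mul_assoc]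
              rw [← mul_assoc ((q w) ^ i)⁻¹ c', hwc'.inv_left.eq, (hwc.symm.inv_left).eq]
              simp only [mul_assoc]
          _ = _ := by
              rw [ih, pow_succ', pow_succ, mul_inv_rev]
              simp [mul_assoc]
              rw [← (Commute.self_pow c i).inv_inv.eq]
    have hp' := hσ p
    have hcomm : Commute ((q w) ^ p) t := by
      rw [ht, ← map_pow]
      exact (mk_comm L _ _).mp (hpow _ (K.mul_mem (K.inv_mem b.1.2) a.1.2))
    rw [mul_assoc, ← hcomm.eq, inv_mul_cancel_left, eq_mul_inv_iff_mul_eq] at hp'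
    have htK : t ∈ K.map q := Subgroup.mem_map_of_mem q (K.mul_mem (K.inv_mem b.1.2) a.1.2)
    have hcK : c ∈ K.map q := Subgroup.mem_map_of_mem q (hCK a.2.2)
    have hcK' : c' ∈ K.map q := Subgroup.mem_map_of_mem q (hCK b.2.2)
    have hroot : (⟨c', hcK'⟩ : K.map q) =
        ⟨t, htK⟩ * ⟨c, hcK⟩ * (⟨t, htK⟩ : K.map q)⁻¹ := by
      refine (powCoprime hcop).injective (Subtype.ext ?_)
      simp only [powCoprime_apply, conj_pow, Subgroup.coe_mul, Subgroup.coe_inv, SubmonoidClass.coe_pow]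
      rw [hp', mul_inv_cancel_right]
    have hroot' : c' = t * c * t⁻¹ := congrArg Subtype.val hroot
    rw [commute_iff_eq]
    show q w * t = t * q w
    refine mul_right_cancel (b := c) ?_
    rw [mul_assoc (t) (q w) c, h2, hroot']
    simp [mul_assoc]
  have hcard : ∀ y : K, (Finset.univ.filter fun a : K × C => φ a = y).card ≤ Nat.card C := by
    intro y
    rcases (Finset.univ.filter fun a : K × C => φ a = y).eq_empty_or_nonempty with h0 | ⟨b, hb⟩
    · simp [h0]
    · rw [Nat.card_eq_fintype_card, ← Finset.card_univ]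
      refine Finset.card_le_card_of_injOn
        (fun a => if h : (b.1 : G)⁻¹ * a.1 ∈ C then ⟨_, h⟩ else 1) (fun _ _ => Finset.mem_univ _) ?_
      intro a ha a' ha' heq
      have eb := (Finset.mem_filter.mp hb).2
      have ea := (Finset.mem_filter.mp (Finset.mem_coe.mp ha)).2
      have ea' := (Finset.mem_filter.mp (Finset.mem_coe.mp ha')).2
      simp only [dif_pos (key a b (ea.trans eb.symm)), dif_pos (key a' b (ea'.trans eb.symm)),
        Subtype.mk.injEq] at heq
      have e1 : a.1 = a'.1 := Subtype.ext (mul_left_cancel heq)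
      have e2 := congrArg Subtype.val (ea.trans ea'.symm)
      simp only [φ, e1] at e2
      refine Prod.ext e1 (Subtype.ext ?_)
      simpa [mul_assoc] using e2
  have hsum : ∑ y : K, (Finset.univ.filter fun a : K × C => φ a = y).card =
      Nat.card K * Nat.card C := by
    rw [← Finset.card_eq_sum_card_fiberwise fun a _ => Finset.mem_univ _, Finset.card_univ,
      ← Nat.card_eq_fintype_card, Nat.card_prod]
  have heq : ∀ y : K, (Finset.univ.filter fun a : K × C => φ a = y).card = Nat.card C := by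
    intro y
    refine (Finset.sum_eq_sum_iff_of_le fun z _ => hcard z).mp ?_ y (Finset.mem_univ y)
    rw [hsum, Finset.sum_const, Finset.card_univ, ← Nat.card_eq_fintype_card, smul_eq_mul]
  have hFφ : ∀ a : K × C, F (w * φ a) = F (w * a.2) := fun a => by
    show F (w * (w⁻¹ * ((a.1 : G) * (w * a.2) * (a.1 : G)⁻¹))) = _
    rw [mul_inv_cancel_left, hF _ a.1.2]
  calc (Nat.card K : ℂ) * ∑ c : C, F (w * c) = ∑ a : K × C, F (w * φ a) := by
        simp only [hFφ, Fintype.sum_prod_type, Finset.sum_const, Finset.card_univ, nsmul_eq_mul,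
          Nat.card_eq_fintype_card]
    _ = _ := by
        rw [← Finset.sum_fiberwise (Finset.univ : Finset (K × C)) φ, Finset.mul_sum]
        refine Finset.sum_congr rfl fun y _ => ?_
        rw [Finset.sum_congr rfl (fun a ha => by rw [(Finset.mem_filter.mp ha).2]),
          Finset.sum_const, heq, nsmul_eq_mul]

end Cfsg.Agent.Lib.RelMcKay.Step
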