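import Cfsg.Agent.Lib.RelMcKay.Step

/-!
# Uniqueness and injectivity of the correspondence for one element
-/

set_option autoImplicit false

namespace Cfsg.Agent.Lib.RelMcKay.Step

open scoped ComplexConjugate Classical
open Cfsg.Agent.Lib.Characters Cfsg.Agent.Lib.Characters.Basic Cfsg.Agent.Lib.Induced.Basic
open Cfsg.Agent.Lib.Clifford.Basic
open Cfsg.Agent.Lib.RelMcKay.Rel

universe u

variable {G : Type u} [Group G] [Fintype G] {p : ℕ} [hp : Fact p.Prime] {L K C : Subgroup G} {x : G}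

/-- The group generated by the fixed points and `x`. -/
abbrev CU (C : Subgroup G) (x : G) : Subgroup G := C ⊔ Subgroup.zpowers x

/-- The group generated by `K` and `x`. -/
abbrev HU (K : Subgroup G) (x : G) : Subgroup G := K ⊔ Subgroup.zpowers x

/-- Its subgroup of index `p`, inside `CU`. -/
abbrev NP (C : Subgroup G) (x : G) (p : ℕ) : Subgroup (CU C x) :=
  (C ⊔ Subgroup.zpowers (x ^ p)).subgroupOf (CU C x)

/-- The generator, as an element of `CU`. -/
abbrev genU (C : Subgroup G) (x : G) : CU C x :=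
  ⟨x, Subgroup.mem_sup_right (Subgroup.mem_zpowers x)⟩

omit [Fintype G] hp in
theorem exists_zpow_of_mem_sup {D : Subgroup G} {y g : G}
    (hy : y ∈ Subgroup.normalizer (D : Set G)) (hg : g ∈ D ⊔ Subgroup.zpowers y) :
    ∃ (d : G) (i : ℤ), d ∈ D ∧ g = y ^ i * d := by
  have h : g ∈ ((Subgroup.zpowers y ⊔ D : Subgroup G) : Set G) :=
    (sup_comm D (Subgroup.zpowers y) ▸ hg : g ∈ Subgroup.zpowers y ⊔ D)
  rw [Subgroup.coe_mul_of_left_le_normalizer_right _ _ (Subgroup.zpowers_le.mpr hy)] at h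
  obtain ⟨z, ⟨i, rfl⟩, d, hd, rfl⟩ := h
  exact ⟨d, i, hd, rfl⟩

/-- A power prime to `p` of a `p`-element generates the same group. -/
theorem exists_zpow_inv {n : ℕ} (hn : orderOf x = p ^ n) {i : ℤ} (hi : ¬ (p : ℤ) ∣ i) :
    ∃ j : ℤ, (x ^ i) ^ j = x := by
  have hc : IsCoprime i ((p ^ n : ℕ) : ℤ) := by
    push_cast
    exact ((Nat.prime_iff_prime_int.mp hp.out).coprime_iff_not_dvd.mpr hi).symm.pow_right
  obtain ⟨a, b, hab⟩ := hc
  refine ⟨a, ?_⟩
  rw [← zpow_mul]
  have h1 : x ^ ((p ^ n : ℕ) : ℤ) = 1 := by rw [zpow_natCast, ← hn, pow_orderOf_eq_one]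
  calc x ^ (i * a) = x ^ (i * a) * (x ^ ((p ^ n : ℕ) : ℤ)) ^ b := by rw [h1, one_zpow, mul_one]
    _ = x ^ (1 : ℤ) := by rw [← zpow_mul, ← zpow_add]; congr 1; linear_combination hab
    _ = x := zpow_one x

omit hp in
theorem Hyp.powNormC (h : Hyp p L K C x) : x ^ p ∈ Subgroup.normalizer (C : Set G) :=
  Subgroup.pow_mem _ h.normC p

/-- `x` lies in `K` only when it acts trivially. -/
theorem Hyp.eq_of_zpow_mem (h : Hyp p L K C x) {i : ℤ} (hi : ¬ (p : ℤ) ∣ i) (hm : x ^ i ∈ K) :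
    C = K := by
  haveI := h.normal
  obtain ⟨n, hn⟩ := h.ord
  obtain ⟨j, hj⟩ := exists_zpow_inv hn hi
  have hx : x ∈ K := hj ▸ K.zpow_mem hm j
  have hxm : (x : G ⧸ L) ∈ K.map (QuotientGroup.mk' L) := Subgroup.mem_map_of_mem _ hx
  have h1 : orderOf (x : G ⧸ L) ∣ p ^ n := hn ▸ orderOf_map_dvd (QuotientGroup.mk' L) x
  have h2 : orderOf (x : G ⧸ L) ∣ Nat.card (K.map (QuotientGroup.mk' L)) := by
    have := orderOf_dvd_natCard (⟨_, hxm⟩ : K.map (QuotientGroup.mk' L))
    rwa [Subgroup.orderOf_mk] at this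
  have h3 : (x : G ⧸ L) = 1 := orderOf_eq_one_iff.mp
    (Nat.eq_one_of_dvd_coprimes ((card_map_coprime h.le h.idx).pow_right n) h2 h1)
  refine le_antisymm h.Cle fun k hk => (h.fix k).mpr ⟨hk, (mk_comm L x k).mpr ?_⟩
  rw [h3]
  exact Commute.one_left _

theorem Hyp.normN (h : Hyp p L K C x) : (NP C x p).Normal := by
  haveI := h.normal
  refine Subgroup.normal_subgroupOf_iff_le_normalizer
    (sup_le le_sup_left (Subgroup.zpowers_le.mpr (Subgroup.pow_mem _
      (Subgroup.mem_sup_right (Subgroup.mem_zpowers x)) p))) |>.mpr ?_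
  refine sup_le (le_trans le_sup_left Subgroup.le_normalizer) (Subgroup.zpowers_le.mpr ?_)
  refine Subgroup.mem_normalizer_fintype fun g hg => ?_
  obtain ⟨d, i, hd, rfl⟩ := exists_zpow_of_mem_sup h.powNormC hg
  show x * ((x ^ p) ^ i * d) * x⁻¹ ∈ _
  have e : x * ((x ^ p) ^ i * d) * x⁻¹ = (x ^ p) ^ i * (x * d * x⁻¹) := by
    rw [← mul_assoc x, ((Commute.self_pow x p).zpow_right i).eq]
    simp [mul_assoc]
  rw [e]
  exact mul_mem (Subgroup.mem_sup_right (Subgroup.zpow_mem_zpowers _ i))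
    (Subgroup.mem_sup_left ((Subgroup.mem_normalizer_iff.mp h.normC d).mp hd))

theorem Hyp.mem_NP_iff (h : Hyp p L K C x) (hne : C ≠ K) {g : CU C x} {d : G} {i : ℤ}
    (hd : d ∈ C) (hg : (g : G) = x ^ i * d) : g ∈ NP C x p ↔ (p : ℤ) ∣ i := by
  rw [Subgroup.mem_subgroupOf]
  constructor
  · intro hm
    obtain ⟨d', j, hd', he⟩ := exists_zpow_of_mem_sup h.powNormC hm
    by_contra hi
    refine hne (h.eq_of_zpow_mem (i := i - p * j) ?_ (h.Cle ?_))
    · intro hdvd
      exact hi (by simpa using dvd_add hdvd (dvd_mul_right (p : ℤ) j))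
    · rw [hg, ← zpow_natCast x p, ← zpow_mul] at he
      have : x ^ (i - p * j) = d' * d⁻¹ := by
        rw [eq_mul_inv_iff_mul_eq, show i - (p : ℤ) * j = -((p : ℤ) * j) + i by ring, zpow_add,
          mul_assoc, he, zpow_neg, inv_mul_cancel_left]
      rw [this]
      exact C.mul_mem hd' (C.inv_mem hd)
  · rintro ⟨j, rfl⟩
    rw [hg, zpow_mul, zpow_natCast]
    exact mul_mem (Subgroup.mem_sup_right (Subgroup.zpow_mem_zpowers _ j))
      (Subgroup.mem_sup_left hd)

theorem Hyp.index_NP (h : Hyp p L K C x) (hne : C ≠ K) : (NP C x p).index = p := by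
  haveI := h.normN
  have hgen : ∀ q : CU C x ⧸ NP C x p, q ∈ Subgroup.zpowers (QuotientGroup.mk (genU C x)) := by
    intro q
    induction q using QuotientGroup.induction_on with
    | _ g =>
      obtain ⟨d, i, hd, hg⟩ := exists_zpow_of_mem_sup h.normC g.2
      refine ⟨i, ?_⟩
      show (QuotientGroup.mk (genU C x)) ^ i = _
      rw [← QuotientGroup.mk_zpow, QuotientGroup.eq, Subgroup.mem_subgroupOf]
      simp only [Subgroup.coe_mul, Subgroup.coe_inv, SubgroupClass.coe_zpow, hg, inv_mul_cancel_left]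
      exact Subgroup.mem_sup_left hd
  have hord : orderOf (QuotientGroup.mk (genU C x) : CU C x ⧸ NP C x p) = p := by
    refine orderOf_eq_prime ?_ ?_
    · rw [← QuotientGroup.mk_pow, QuotientGroup.eq_one_iff, Subgroup.mem_subgroupOf]
      exact Subgroup.mem_sup_right (Subgroup.mem_zpowers _)
    · intro h1
      rw [QuotientGroup.eq_one_iff] at h1
      have h2 := (h.mem_NP_iff hne (g := genU C x) (i := 1) C.one_mem
        (by simp)).mp h1
      exact hp.out.one_lt.ne' (by exact_mod_cast Int.eq_one_of_dvd_one (by positivity) h2)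
  rw [Subgroup.index_eq_card, ← Nat.card_congr (Equiv.subtypeUnivEquiv hgen)]
  exact (Nat.card_zpowers _).trans hord

/-- An extension of an invariant character of `K` to `HU`. -/
theorem Hyp.exists_ext (h : Hyp p L K C x) (θ : Cfsg.IrrCharacter K)
    (hθ : InvAt x K (θ : K → ℂ)) :
    ∃ η : Cfsg.IrrCharacter (HU K x), ∀ k : K,
      (η : HU K x → ℂ) (Subgroup.inclusion le_sup_left k) = (θ : K → ℂ) k :=
  exists_ext_cyclic le_sup_left θ
    (sup_le (le_stab (isClassFunction_irr θ)) (Subgroup.zpowers_le.mpr ⟨h.norm, hθ⟩))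
    (Subgroup.mem_sup_right (Subgroup.mem_zpowers x)) le_rfl

theorem Hyp.CU_le (h : Hyp p L K C x) : CU C x ≤ HU K x := sup_le_sup_right h.Cle _

/-- Sums over a coset of `C` in terms of sums over a coset of `K`. -/
theorem Hyp.coset_sum (h : Hyp p L K C x) (hne : C ≠ K) (η η' : Cfsg.IrrCharacter (HU K x))
    (T : ℂ) (hT : ∀ w : HU K x, ∑ k : K, (η : HU K x → ℂ) (w * Subgroup.inclusion le_sup_left k) *
      conj ((η' : HU K x → ℂ) (w * Subgroup.inclusion le_sup_left k)) = T * Nat.card K)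
    (y : CU C x) (hy : y ∉ NP C x p) :
    ∑ c : C, (η : HU K x → ℂ) (Subgroup.inclusion h.CU_le (y * Subgroup.inclusion le_sup_left c)) *
      conj ((η' : HU K x → ℂ) (Subgroup.inclusion h.CU_le (y * Subgroup.inclusion le_sup_left c))) =
      T * Nat.card C := by
  haveI := h.normal
  obtain ⟨d, i, hd, hy'⟩ := exists_zpow_of_mem_sup h.normC y.2
  have hi : ¬ (p : ℤ) ∣ i := fun hdvd => hy ((h.mem_NP_iff hne hd hy').mpr hdvd)
  set w := x ^ i with hw
  have hwn : w ∈ Subgroup.normalizer (K : Set G) := zpow_mem h.norm i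
  have hwH : w ∈ HU K x := Subgroup.mem_sup_right (Subgroup.zpow_mem_zpowers x i)
  let F : G → ℂ := fun g => if hg : g ∈ HU K x then (η : HU K x → ℂ) ⟨g, hg⟩ *
    conj ((η' : HU K x → ℂ) ⟨g, hg⟩) else 0
  have hF : ∀ k ∈ K, ∀ g, F (k * g * k⁻¹) = F g := by
    intro k hk g
    have hkH : k ∈ HU K x := Subgroup.mem_sup_left hk
    by_cases hg : g ∈ HU K x
    · simp only [F, dif_pos hg, dif_pos (mul_mem (mul_mem hkH hg) (inv_mem hkH))]
      rw [show (⟨k * g * k⁻¹, mul_mem (mul_mem hkH hg) (inv_mem hkH)⟩ : HU K x) =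
        ⟨k, hkH⟩ * ⟨g, hg⟩ * (⟨k, hkH⟩ : HU K x)⁻¹ from rfl, isClassFunction_irr η _ _,
        isClassFunction_irr η' _ _]
    · have : k * g * k⁻¹ ∉ HU K x := fun hm => hg (by
        have := mul_mem (mul_mem (inv_mem hkH) hm) hkH
        simpa [mul_assoc] using this)
      simp only [F, dif_neg hg, dif_neg this]
  obtain ⟨n, hn⟩ := h.ord
  obtain ⟨j, hj⟩ := exists_zpow_inv hn hi
  have hfix : ∀ k, k ∈ C ↔ k ∈ K ∧ w * k * w⁻¹ * k⁻¹ ∈ L := by
    intro k
    rw [h.fix, mk_comm, mk_comm, hw, QuotientGroup.mk_zpow]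
    refine and_congr_right fun _ => ⟨fun hc => hc.zpow_left i, fun hc => ?_⟩
    have := hc.zpow_left j
    rwa [← QuotientGroup.mk_zpow, ← QuotientGroup.mk_zpow, hj] at this
  have hpow : ∀ k ∈ K, w ^ p * k * (w ^ p)⁻¹ * k⁻¹ ∈ L := by
    intro k hk
    have h1 := (mk_comm L _ _).mp (h.pow k hk)
    rw [mk_comm, QuotientGroup.mk_pow, hw, QuotientGroup.mk_zpow, ← zpow_natCast, ← zpow_mul,
      mul_comm, zpow_mul, zpow_natCast]
    rw [QuotientGroup.mk_pow] at h1
    exact h1.zpow_left i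
  have hfib := fibre h hwn hfix hpow F hF
  have hK : ∑ k : K, F (w * k) = T * Nat.card K := by
    rw [← hT ⟨w, hwH⟩]
    exact Finset.sum_congr rfl fun k _ => by
      simp only [F, dif_pos (mul_mem hwH (Subgroup.mem_sup_left k.2 : (k : G) ∈ HU K x))]
      rfl
  have hC : ∑ c : C, F (w * c) = T * Nat.card C := by
    rw [hK] at hfib
    refine mul_left_cancel₀ (subgroup_card_ne_zero K) (hfib.trans (by ring))
  refine Eq.trans ?_ hC
  refine Fintype.sum_equiv (Equiv.mulLeft (⟨d, hd⟩ : C)) _ _ fun c => ?_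
  have hmem : w * (d * c : G) ∈ HU K x :=
    mul_mem hwH (Subgroup.mem_sup_left (h.Cle (mul_mem hd c.2)))
  simp only [Equiv.coe_mulLeft, F, Subgroup.coe_mul, dif_pos hmem]
  have e : Subgroup.inclusion h.CU_le (y * Subgroup.inclusion le_sup_left c) =
      (⟨w * (d * c : G), hmem⟩ : HU K x) := Subtype.ext (by
    show (y : G) * (c : G) = w * (d * c)
    rw [hy', mul_assoc])
  rw [e]

/-- Sums off `NP`. -/
theorem Hyp.off_sum (h : Hyp p L K C x) (φ : CU C x → ℂ) (T : ℂ)
    (hφ : ∀ y ∉ NP C x p, ∑ c : C, φ (y * Subgroup.inclusion le_sup_left c) = T * Nat.card C) :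
    ∑ y : CU C x, (if y ∈ NP C x p then 0 else φ y) =
      T * ((Nat.card (CU C x) : ℂ) - Nat.card (NP C x p)) := by
  have hc : ∀ c : C, Subgroup.inclusion (le_sup_left : C ≤ CU C x) c ∈ NP C x p := fun c =>
    Subgroup.mem_subgroupOf.mpr (Subgroup.mem_sup_left c.2)
  have h1 : ∀ c : C, ∑ y : CU C x, (if y ∈ NP C x p then 0 else φ y) =
      ∑ y : CU C x, (if y ∈ NP C x p then 0 else φ (y * Subgroup.inclusion le_sup_left c)) := by
    intro c
    refine (Fintype.sum_equiv (Equiv.mulRight (Subgroup.inclusion le_sup_left c)) _ _ fun y => ?_).symm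
    simp only [Equiv.coe_mulRight, Subgroup.mul_mem_cancel_right _ (hc c)]
  have h2 : (Nat.card C : ℂ) * ∑ y : CU C x, (if y ∈ NP C x p then 0 else φ y) =
      (Nat.card C : ℂ) * (T * ((Nat.card (CU C x) : ℂ) - Nat.card (NP C x p))) := by
    calc (Nat.card C : ℂ) * ∑ y : CU C x, (if y ∈ NP C x p then 0 else φ y)
        = ∑ c : C, ∑ y : CU C x,
            (if y ∈ NP C x p then 0 else φ (y * Subgroup.inclusion le_sup_left c)) := by
          rw [Finset.sum_congr rfl fun c _ => (h1 c).symm, Finset.sum_const, Finset.card_univ,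
            nsmul_eq_mul, Nat.card_eq_fintype_card]
      _ = ∑ y : CU C x, (if y ∈ NP C x p then 0 else T * Nat.card C) := by
          rw [Finset.sum_comm]
          refine Finset.sum_congr rfl fun y _ => ?_
          split_ifs with hy
          · simp
          · exact hφ y hy
      _ = _ := by
          rw [Finset.sum_ite, Finset.sum_const_zero, zero_add, Finset.sum_const, nsmul_eq_mul,
            Finset.filter_not, Finset.card_univ_sdiff]
          rw [Nat.cast_sub (Finset.card_le_univ _)]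
          have : (Finset.univ.filter fun y : CU C x => y ∈ NP C x p).card = Nat.card (NP C x p) := by
            rw [Nat.card_eq_fintype_card, Fintype.card_subtype]
          rw [this, Nat.card_eq_fintype_card (α := CU C x)]
          ring
  exact mul_left_cancel₀ (subgroup_card_ne_zero C) h2

end Cfsg.Agent.Lib.RelMcKay.Step
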