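import Cfsg.Agent.Lib.RelMcKay.StepMain

/-!
# The correspondence for one element: the two conclusions
-/

set_option autoImplicit false

namespace Cfsg.Agent.Lib.RelMcKay.Step

open scoped ComplexConjugate Classical
open Cfsg.Agent.Lib.Characters Cfsg.Agent.Lib.Characters.Basic Cfsg.Agent.Lib.Induced.Basic
open Cfsg.Agent.Lib.Clifford.Basic
open Cfsg.Agent.Lib.RelMcKay.Rel

universe u

variable {G : Type u} [Group G] [Fintype G] {p : ℕ} [hp : Fact p.Prime] {L K C : Subgroup G} {x : G}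

/-- `C`, inside `CU`. -/
abbrev C₀ (C : Subgroup G) (x : G) : Subgroup (CU C x) := C.subgroupOf (CU C x)

theorem C₀_le (C : Subgroup G) (x : G) (p : ℕ) : C₀ C x ≤ NP C x p := fun _ hg =>
  Subgroup.mem_subgroupOf.mpr (Subgroup.mem_sup_left (Subgroup.mem_subgroupOf.mp hg))

/-- A character of `C`, inside `CU`. -/
noncomputable def lift₀ (x : G) (β : Cfsg.IrrCharacter C) : Cfsg.IrrCharacter (C₀ C x) :=
  let e : C₀ C x ≃* C := Subgroup.subgroupOfEquivOfLe le_sup_left
  ⟨(β : C → ℂ) ∘ e, isIrrCharacter_comp e.toMonoidHom e.surjective β.2⟩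

omit [Fintype G] in
theorem lift₀_injective (x : G) : Function.Injective (lift₀ (C := C) x) := fun a b h => by
  refine Subtype.ext (funext fun c => ?_)
  have := congrFun (congrArg Subtype.val h) ((Subgroup.subgroupOfEquivOfLe le_sup_left).symm c)
  simpa [lift₀] using this

theorem stab_lift₀ (h : Hyp p L K C x) (β : Cfsg.IrrCharacter C) (hβ : InvAt x C (β : C → ℂ)) :
    (⊤ : Subgroup (CU C x)) ≤ stab (C₀ C x) (lift₀ x β : C₀ C x → ℂ) := by
  have hle : CU C x ≤ stab C (β : C → ℂ) :=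
    sup_le (le_stab (isClassFunction_irr β)) (Subgroup.zpowers_le.mpr ⟨h.normC, hβ⟩)
  intro g _
  refine ⟨Subgroup.mem_normalizer_fintype fun a ha => ?_, fun a b hab => ?_⟩
  · exact Subgroup.mem_subgroupOf.mpr
      ((Subgroup.mem_normalizer_iff.mp (hle g.2).1 _).mp (Subgroup.mem_subgroupOf.mp ha))
  · exact (hle g.2).2 _ _ (congrArg Subtype.val hab)

theorem genU_normal_NP (h : Hyp p L K C x) :
    Subgroup.zpowers (genU C x) ≤ Subgroup.normalizer (NP C x p : Set (CU C x)) := by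
  haveI := h.normN
  rw [Subgroup.normalizer_eq_top]
  exact le_top

/-- Invariance under the generator is invariance under the whole of `CU`. -/
theorem conjC_of_invBy (h : Hyp p L K C x) [(NP C x p).Normal] (γ : Cfsg.IrrCharacter (NP C x p))
    (hγ : InvBy (Subgroup.zpowers (genU C x)) (NP C x p) (γ : NP C x p → ℂ)) (g : CU C x) :
    conjC (NP C x p) g (γ : NP C x p → ℂ) = (γ : NP C x p → ℂ) := by
  have hg : g ∈ stab (NP C x p) (γ : NP C x p → ℂ) := by
    obtain ⟨d, i, hd, hg⟩ := exists_zpow_of_mem_sup h.normC g.2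
    rw [show g = genU C x ^ i * ⟨d, Subgroup.mem_sup_left hd⟩ from Subtype.ext (by simpa using hg)]
    have hu : genU C x ∈ stab (NP C x p) (γ : NP C x p → ℂ) :=
      ⟨genU_normal_NP h (Subgroup.mem_zpowers _), hγ _ (Subgroup.mem_zpowers _)⟩
    exact mul_mem (zpow_mem hu i)
      (le_stab (isClassFunction_irr γ) (Subgroup.mem_subgroupOf.mpr (Subgroup.mem_sup_left hd)))
  funext n
  rw [conjC_apply]
  exact hg.2 n _ rfl

theorem invBy_of_conjC [(NP C x p).Normal] (γ : Cfsg.IrrCharacter (NP C x p))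
    (hγ : ∀ g, conjC (NP C x p) g (γ : NP C x p → ℂ) = (γ : NP C x p → ℂ)) (g : CU C x) :
    InvAt g (NP C x p) (γ : NP C x p → ℂ) := by
  intro a b hb
  have := congrFun (hγ g) a
  rw [conjC_apply] at this
  rw [← this]
  exact congrArg (γ : NP C x p → ℂ) (Subtype.ext hb)

/-- An invariant constituent of `θ` comes from an invariant constituent of its extension on `NP`. -/
theorem Hyp.exists_middle (h : Hyp p L K C x) [(NP C x p).Normal] {θ : Cfsg.IrrCharacter K}
    (η : Cfsg.IrrCharacter (HU K x))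
    (hη : ∀ k : K, (η : HU K x → ℂ) (Subgroup.inclusion le_sup_left k) = (θ : K → ℂ) k)
    {f : CU C x → ℂ} (hf : Cfsg.IsCharacter (CU C x) f)
    (hfη : f = fun y => (η : HU K x → ℂ) (Subgroup.inclusion h.CU_le y))
    (β : Cfsg.IrrCharacter C) (hβ : InvAt x C (β : C → ℂ)) (hm : ¬ p ∣ m h.Cle θ β) :
    ∃ γ : Cfsg.IrrCharacter (NP C x p),
      (∀ g, conjC (NP C x p) g (γ : NP C x p → ℂ) = (γ : NP C x p → ℂ)) ∧
      ¬ p ∣ Basic.mres (NP C x p) hf γ ∧ m (C₀_le C x p) γ (lift₀ x β) ≠ 0 := by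
  subst hfη
  obtain ⟨n, hn⟩ := h.ord
  have hS : IsPGroup p (Subgroup.zpowers (genU C x)) :=
    IsPGroup.of_card (n := n) (by rw [Nat.card_zpowers, ← Subgroup.orderOf_coe]; exact hn)
  have hstab := stab_lift₀ h β hβ
  have hsum : m h.Cle θ β = ∑ γ : Cfsg.IrrCharacter (NP C x p),
      Basic.mres (NP C x p) hf γ * m (C₀_le C x p) γ (lift₀ x β) := by
    rw [← Nat.cast_inj (R := ℂ), ← coe_m]
    have hdec := Complete.classFunction_eq_sum (isClassFunction_of_isCharacter
      (isCharacter_comp (NP C x p).subtype hf))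
    let e : C₀ C x ≃* C := Subgroup.subgroupOfEquivOfLe le_sup_left
    have h1 : Cfsg.classInner (fun c : C => (θ : K → ℂ) (Subgroup.inclusion h.Cle c)) (β : C → ℂ) =
        Cfsg.classInner (fun c : C₀ C x => (η : HU K x → ℂ) (Subgroup.inclusion h.CU_le c.1))
          (lift₀ x β : C₀ C x → ℂ) := by
      show _ = Cfsg.classInner _ ((β : C → ℂ) ∘ e)
      rw [RelGlauberman.classInner_transport e]
      congr 1
      funext c
      rw [← hη]
      rfl
    rw [h1]
    have h2 : (fun c : C₀ C x => (η : HU K x → ℂ) (Subgroup.inclusion h.CU_le c.1)) =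
        ∑ γ : Cfsg.IrrCharacter (NP C x p), (Basic.mres (NP C x p) hf γ : ℂ) •
          fun c : C₀ C x => (γ : NP C x p → ℂ) (Subgroup.inclusion (C₀_le C x p) c) := by
      funext c
      have := congrFun hdec (Subgroup.inclusion (C₀_le C x p) c)
      simp only [Finset.sum_apply, Pi.smul_apply, smul_eq_mul, Function.comp_apply] at this ⊢
      refine this.trans ?_
      refine Finset.sum_congr rfl fun γ _ => ?_
      rw [← Basic.coe_mres]
      rfl
    rw [h2, classInner_sum_left]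
    push_cast
    refine Finset.sum_congr rfl fun γ _ => ?_
    rw [classInner_smul_left, coe_m]
  have hNn : ∀ g : CU C x, g ∈ Subgroup.normalizer (NP C x p : Set (CU C x)) := fun g => by
    rw [Subgroup.normalizer_eq_top]; exact Subgroup.mem_top g
  have hinv : ∀ (g : CU C x) (hg : g ∈ Subgroup.zpowers (genU C x))
      (γ : Cfsg.IrrCharacter (NP C x p)),
      Basic.mres (NP C x p) hf (conjI (genU_normal_NP h hg) γ) *
          m (C₀_le C x p) (conjI (genU_normal_NP h hg) γ) (lift₀ x β) =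
        Basic.mres (NP C x p) hf γ * m (C₀_le C x p) γ (lift₀ x β) := by
    intro g hg γ
    congr 1
    · rw [← Nat.cast_inj (R := ℂ), ← Basic.coe_mres, ← Basic.coe_mres]
      simp only [Cfsg.classInner]
      congr 1
      refine Fintype.sum_equiv (conjE (hNn g)).toEquiv _ _ fun y => ?_
      rw [conjI_apply]
      congr 1
      exact (isClassFunction_of_isCharacter hf (y : CU C x) g).symm
    · have hgC : g ∈ stab (C₀ C x) (lift₀ x β : C₀ C x → ℂ) := hstab (Subgroup.mem_top g)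
      conv_lhs => rw [← (invAt_iff_conjI hgC.1 _).mp hgC.2]
      exact m_conj _ hgC.1 _ γ (lift₀ x β)
  have hz := sum_irr hS (genU_normal_NP h)
    (fun γ => Basic.mres (NP C x p) hf γ * m (C₀_le C x p) γ (lift₀ x β)) hinv
  rw [← hsum] at hz
  have hne : ((m h.Cle θ β : ℕ) : ZMod p) ≠ 0 := by rwa [Ne, ZMod.natCast_eq_zero_iff]
  rw [hz] at hne
  obtain ⟨γ, hγ, hb⟩ := Finset.exists_ne_zero_of_sum_ne_zero hne
  rw [Ne, ZMod.natCast_eq_zero_iff, hp.out.dvd_mul, not_or] at hb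
  exact ⟨γ, conjC_of_invBy h γ (Finset.mem_filter.mp hγ).2, hb.1,
    fun h0 => hb.2 (h0 ▸ dvd_zero p)⟩

/-- When `x` centralises `K` modulo `L`, the correspondence is equality. -/
theorem eq_of_m_top (h : Hyp p L K C x) (hCK : C = K) {θ θ' : Cfsg.IrrCharacter K}
    {β β' : Cfsg.IrrCharacter C} (hm : ¬ p ∣ m h.Cle θ β) :
    (¬ p ∣ m h.Cle θ β' → β' = β) ∧ (¬ p ∣ m h.Cle θ' β → θ' = θ) := by
  subst hCK
  have e : ∀ a b : Cfsg.IrrCharacter C, ¬ p ∣ m h.Cle a b → a = b := fun a b hab => by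
    by_contra hne
    exact hab (by rw [m_self, if_neg hne]; exact dvd_zero p)
  exact ⟨fun hm' => (e _ _ hm').symm.trans (e _ _ hm), fun hm' => (e _ _ hm').trans (e _ _ hm).symm⟩

theorem Hyp.hab (h : Hyp p L K C x) :
    ∀ a b : HU K x, a * b * a⁻¹ * b⁻¹ ∈ K.subgroupOf (HU K x) := by
  have hn : HU K x ≤ Subgroup.normalizer (K : Set G) :=
    sup_le Subgroup.le_normalizer (Subgroup.zpowers_le.mpr h.norm)
  haveI : (K.subgroupOf (HU K x)).Normal :=
    (Subgroup.normal_subgroupOf_iff_le_normalizer le_sup_left).mpr hn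
  set q := QuotientGroup.mk' (K.subgroupOf (HU K x))
  set u₀ : HU K x := ⟨x, Subgroup.mem_sup_right (Subgroup.mem_zpowers x)⟩
  have hgen : ∀ a : HU K x, ∃ i : ℤ, q a = q u₀ ^ i := by
    intro a
    obtain ⟨d, i, hd, ha⟩ := exists_zpow_of_mem_sup h.norm a.2
    refine ⟨i, ?_⟩
    rw [show a = u₀ ^ i * ⟨d, Subgroup.mem_sup_left hd⟩ from Subtype.ext (by simpa [u₀] using ha),
      map_mul, map_zpow]
    rw [show q ⟨d, Subgroup.mem_sup_left hd⟩ = 1 from
      (QuotientGroup.eq_one_iff _).mpr (Subgroup.mem_subgroupOf.mpr hd), mul_one]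
  intro a b
  obtain ⟨i, hi⟩ := hgen a
  obtain ⟨j, hj⟩ := hgen b
  rw [← QuotientGroup.eq_one_iff]
  show q (a * b * a⁻¹ * b⁻¹) = 1
  rw [map_mul, map_mul, map_mul, map_inv, map_inv, hi, hj, (Commute.zpow_zpow_self _ i j).eq,
    mul_inv_cancel_right, mul_inv_cancel]

/-- Sum over a coset of `K` inside `HU`. -/
theorem Hyp.hu_sum (h : Hyp p L K C x) (η η' : Cfsg.IrrCharacter (HU K x))
    (θ θ' : Cfsg.IrrCharacter K)
    (hη : ∀ k : K, (η : HU K x → ℂ) (Subgroup.inclusion le_sup_left k) = (θ : K → ℂ) k)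
    (hη' : ∀ k : K, (η' : HU K x → ℂ) (Subgroup.inclusion le_sup_left k) = (θ' : K → ℂ) k)
    (w : HU K x) :
    (η' = η → ∑ k : K, (η : HU K x → ℂ) (w * Subgroup.inclusion le_sup_left k) *
      conj ((η' : HU K x → ℂ) (w * Subgroup.inclusion le_sup_left k)) = (1 : ℂ) * Nat.card K) ∧
    (θ ≠ θ' → ∑ k : K, (η : HU K x → ℂ) (w * Subgroup.inclusion le_sup_left k) *
      conj ((η' : HU K x → ℂ) (w * Subgroup.inclusion le_sup_left k)) = (0 : ℂ) * Nat.card K) := by
  haveI : (K.subgroupOf (HU K x)).Normal :=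
    (Subgroup.normal_subgroupOf_iff_le_normalizer le_sup_left).mpr
      (sup_le Subgroup.le_normalizer (Subgroup.zpowers_le.mpr h.norm))
  let e : K.subgroupOf (HU K x) ≃* K := Subgroup.subgroupOfEquivOfLe le_sup_left
  let th : Cfsg.IrrCharacter K → Cfsg.IrrCharacter (K.subgroupOf (HU K x)) := fun a =>
    ⟨(a : K → ℂ) ∘ e, isIrrCharacter_comp e.toMonoidHom e.surjective a.2⟩
  have hsum : ∑ k : K, (η : HU K x → ℂ) (w * Subgroup.inclusion le_sup_left k) *
      conj ((η' : HU K x → ℂ) (w * Subgroup.inclusion le_sup_left k)) =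
      ∑ n : K.subgroupOf (HU K x), (η : HU K x → ℂ) (w * n) * conj ((η' : HU K x → ℂ) (w * n)) :=
    (Fintype.sum_equiv e.toEquiv _ _ fun n => rfl).symm
  refine ⟨fun he => ?_, fun hne => ?_⟩
  · subst he
    rw [hsum, coset_norm _ h.hab η' (th θ) (fun n => hη (e n)), Nat.card_congr e.toEquiv, one_mul]
  · rw [hsum, coset_orth _ h.hab η η' (th θ) (th θ') (fun n => hη (e n)) (fun n => hη' (e n))
      (fun he => hne (Subtype.ext (funext fun k => by
        simpa [th] using congrFun (congrArg Subtype.val he) (e.symm k)))), zero_mul]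

theorem Hyp.isCharacter_res (h : Hyp p L K C x) (η : Cfsg.IrrCharacter (HU K x)) :
    Cfsg.IsCharacter (CU C x) fun y => (η : HU K x → ℂ) (Subgroup.inclusion h.CU_le y) :=
  isCharacter_comp (Subgroup.inclusion h.CU_le) (isCharacter_irr η)

/-- The distinguished constituent on `NP`. -/
theorem Hyp.exists_dist (h : Hyp p L K C x) [(NP C x p).Normal] (hne : C ≠ K)
    {θ : Cfsg.IrrCharacter K} (η : Cfsg.IrrCharacter (HU K x))
    (hη : ∀ k : K, (η : HU K x → ℂ) (Subgroup.inclusion le_sup_left k) = (θ : K → ℂ) k) :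
    ∃ γ₀ : Cfsg.IrrCharacter (NP C x p),
      (∀ g, conjC (NP C x p) g (γ₀ : NP C x p → ℂ) = (γ₀ : NP C x p → ℂ)) ∧
      ∀ γ : Cfsg.IrrCharacter (NP C x p),
        (∀ g, conjC (NP C x p) g (γ : NP C x p → ℂ) = (γ : NP C x p → ℂ)) →
        ¬ p ∣ Basic.mres (NP C x p) (h.isCharacter_res η) γ → γ = γ₀ := by
  obtain ⟨γ₀, hγ₀, -, huniq⟩ := Basic.unique_constituent (NP C x p) hp.out (h.index_NP hne)
    (h.isCharacter_res η) (by
      rw [h.off_sum _ 1 (fun y hy => h.coset_sum hne η η 1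
        (fun w => (h.hu_sum η η θ θ hη hη w).1 rfl) y hy), one_mul])
  exact ⟨γ₀, hγ₀, fun γ hγ hd => by
    by_contra hc
    exact hd (huniq γ hγ hc)⟩

/-- Uniqueness of the correspondent. -/
theorem Hyp.unique (h : Hyp p L K C x) {θ : Cfsg.IrrCharacter K} (hθ : InvAt x K (θ : K → ℂ))
    {β β' : Cfsg.IrrCharacter C} (hβ : InvAt x C (β : C → ℂ)) (hβ' : InvAt x C (β' : C → ℂ))
    (hm : ¬ p ∣ m h.Cle θ β) (hm' : ¬ p ∣ m h.Cle θ β') : β' = β := by
  by_cases hCK : C = K
  · exact (eq_of_m_top h hCK (θ' := θ) hm).1 hm'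
  haveI := h.normN
  obtain ⟨η, hη⟩ := h.exists_ext θ hθ
  obtain ⟨γ₀, -, huniq⟩ := h.exists_dist hCK η hη
  obtain ⟨γ, hγ, hd, hne⟩ := h.exists_middle η hη (h.isCharacter_res η) rfl β hβ hm
  obtain ⟨γ', hγ', hd', hne'⟩ := h.exists_middle η hη (h.isCharacter_res η) rfl β' hβ' hm'
  obtain rfl := huniq γ hγ hd
  obtain rfl := huniq γ' hγ' hd'
  exact lift₀_injective x (eq_of_m_ne_zero (C₀_le C x p) γ' (lift₀ x β) (lift₀ x β')
    (fun g _ => stab_lift₀ h β hβ (Subgroup.mem_top g)) hne hne')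

/-- Injectivity of the correspondence. -/
theorem Hyp.inj (h : Hyp p L K C x) {θ θ' : Cfsg.IrrCharacter K} (hθ : InvAt x K (θ : K → ℂ))
    (hθ' : InvAt x K (θ' : K → ℂ)) {β : Cfsg.IrrCharacter C} (hβ : InvAt x C (β : C → ℂ))
    (hm : ¬ p ∣ m h.Cle θ β) (hm' : ¬ p ∣ m h.Cle θ' β) : θ' = θ := by
  by_cases hCK : C = K
  · exact (eq_of_m_top h hCK (β' := β) hm).2 hm'
  haveI hN := h.normN
  by_contra hθne
  obtain ⟨η, hη⟩ := h.exists_ext θ hθ
  obtain ⟨η', hη'⟩ := h.exists_ext θ' hθ'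
  obtain ⟨γ₀, hγ₀, huniq⟩ := h.exists_dist hCK η hη
  obtain ⟨γ, hγ, hd, hne⟩ := h.exists_middle η hη (h.isCharacter_res η) rfl β hβ hm
  obtain ⟨γ', hγ', hd', hne'⟩ := h.exists_middle η' hη' (h.isCharacter_res η') rfl β hβ hm'
  have hstab := stab_lift₀ h β hβ
  have hpow : genU C x ^ p ∈ NP C x p := Subgroup.mem_subgroupOf.mpr
    (Subgroup.mem_sup_right (by simpa using Subgroup.mem_zpowers (x ^ p)))
  have hdecNP : ∀ g : CU C x, g ∈ NP C x p →
      ∃ (d : CU C x) (i : ℤ), d ∈ C₀ C x ∧ g = (genU C x ^ p) ^ i * d := by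
    intro g hg
    obtain ⟨d, i, hd₀, he⟩ := exists_zpow_of_mem_sup h.powNormC (Subgroup.mem_subgroupOf.mp hg)
    exact ⟨⟨d, Subgroup.mem_sup_left hd₀⟩, i, Subgroup.mem_subgroupOf.mpr hd₀,
      Subtype.ext (by simpa using he)⟩
  have hgen : NP C x p ≤ C₀ C x ⊔ Subgroup.zpowers (genU C x ^ p) := fun g hg => by
    obtain ⟨d, i, hd₀, rfl⟩ := hdecNP g hg
    exact mul_mem (Subgroup.mem_sup_right (Subgroup.zpow_mem_zpowers _ i)) (Subgroup.mem_sup_left hd₀)
  -- an extension of `β`, and the two twists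
  obtain ⟨χ, hχ⟩ := exists_ext_cyclic (C₀_le C x p) (lift₀ x β)
    (fun g _ => hstab (Subgroup.mem_top g)) hpow hgen
  have habN : ∀ a ∈ NP C x p, ∀ b ∈ NP C x p, a * b * a⁻¹ * b⁻¹ ∈ C₀ C x := by
    haveI : (C₀ C x).Normal := ⟨fun n hn g => (Subgroup.mem_normalizer_iff.mp
      (hstab (Subgroup.mem_top g)).1 n).mp hn⟩
    intro a ha b hb
    obtain ⟨d, i, hd₀, rfl⟩ := hdecNP a ha
    obtain ⟨d', j, hd₀', rfl⟩ := hdecNP b hb
    rw [← QuotientGroup.eq_one_iff, QuotientGroup.mk_mul, QuotientGroup.mk_mul, QuotientGroup.mk_mul,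
      QuotientGroup.mk_inv, QuotientGroup.mk_inv, QuotientGroup.mk_mul, QuotientGroup.mk_mul,
      (QuotientGroup.eq_one_iff d).mpr hd₀, (QuotientGroup.eq_one_iff d').mpr hd₀', mul_one, mul_one,
      QuotientGroup.mk_zpow, QuotientGroup.mk_zpow, (Commute.zpow_zpow_self _ i j).eq,
      mul_inv_cancel_right, mul_inv_cancel]
  have hn : NP C x p ≤ Subgroup.normalizer (C₀ C x : Set (CU C x)) := fun g _ =>
    (hstab (Subgroup.mem_top g)).1
  obtain ⟨l, hl, rfl⟩ := exists_twist (C₀_le C x p) hn habN χ γ (lift₀ x β) hχ hne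
  obtain ⟨l', hl', rfl⟩ := exists_twist (C₀_le C x p) hn habN χ γ' (lift₀ x β) hχ hne'
  -- extend `l / l'` to a linear character of `CU`
  have hNn : ∀ g : CU C x, g ∈ Subgroup.normalizer (NP C x p : Set (CU C x)) := fun g => by
    rw [Subgroup.normalizer_eq_top]; exact Subgroup.mem_top g
  set lam : NP C x p →* ℂˣ := l / l' with hlam
  have hlam0 : ∀ y : NP C x p, (y : CU C x) ∈ C₀ C x → lam y = 1 := fun y hy => by
    rw [hlam, MonoidHom.div_apply, hl y hy, hl' y hy, div_one]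
  have hfix : ∀ g : CU C x,
      InvAt g (NP C x p) (Linear.linChar lam : NP C x p → ℂ) := by
    intro g
    refine invBy_of_conjC (Linear.linChar lam) (conjC_of_invBy h _ fun z hz => ?_) g
    obtain ⟨i, rfl⟩ := hz
    suffices hu : genU C x ∈ stab (NP C x p) (Linear.linChar lam : NP C x p → ℂ) from
      (zpow_mem hu i).2
    refine ⟨hNn (genU C x), ?_⟩
    intro a b hb
    obtain ⟨d, j, hd₀, ha⟩ := hdecNP a a.2
    have hconj : genU C x * d * (genU C x)⁻¹ ∈ C₀ C x :=
      (Subgroup.mem_normalizer_iff.mp (hstab (Subgroup.mem_top _)).1 d).mp hd₀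
    let v : NP C x p := ⟨genU C x ^ p, hpow⟩
    have eb : b = v ^ j * ⟨_, C₀_le C x p hconj⟩ := Subtype.ext (by
      rw [hb, ha, Subgroup.coe_mul, SubgroupClass.coe_zpow]
      show genU C x * ((genU C x ^ p) ^ j * d) * (genU C x)⁻¹ =
        (genU C x ^ p) ^ j * (genU C x * d * (genU C x)⁻¹)
      rw [← mul_assoc (genU C x), ((Commute.self_pow (genU C x) p).zpow_right j).eq]
      simp [mul_assoc])
    have ea : a = v ^ j * ⟨d, C₀_le C x p hd₀⟩ := Subtype.ext (by simpa [v] using ha)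
    rw [Linear.linChar_apply, Linear.linChar_apply, eb, ea, map_mul, map_mul,
      hlam0 ⟨_, C₀_le C x p hconj⟩ hconj, hlam0 ⟨d, C₀_le C x p hd₀⟩ hd₀]
  have hgenT : (⊤ : Subgroup (CU C x)) ≤ NP C x p ⊔ Subgroup.zpowers (genU C x) := fun g _ => by
    obtain ⟨d, i, hd₀, hg⟩ := exists_zpow_of_mem_sup h.normC g.2
    rw [show g = genU C x ^ i * ⟨d, Subgroup.mem_sup_left hd₀⟩ from Subtype.ext (by simpa using hg)]
    exact mul_mem (Subgroup.mem_sup_right (Subgroup.zpow_mem_zpowers _ i)) (Subgroup.mem_sup_left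
      (Subgroup.mem_subgroupOf.mpr (Subgroup.mem_sup_left hd₀)))
  obtain ⟨E, hE⟩ := exists_ext_cyclic (le_top : NP C x p ≤ ⊤) (Linear.linChar lam)
    (fun g _ => ⟨hNn g, hfix g⟩) (Subgroup.mem_top (genU C x)) hgenT
  have hE1 : (E : (⊤ : Subgroup (CU C x)) → ℂ) 1 = 1 := by
    have := hE 1
    rw [map_one, Linear.linChar_apply, map_one, Units.val_one] at this
    exact this
  let μ : CU C x →* ℂˣ := (Linear.degOneHom (isCharacter_irr E) hE1).comp
    (Subgroup.topEquiv (G := CU C x)).symm.toMonoidHom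
  have hμ : ∀ y : NP C x p, μ (y : CU C x) = lam y := fun y => Units.ext (by
    show ((Linear.degOneHom (isCharacter_irr E) hE1) _ : ℂ) = _
    rw [Linear.degOneHom_apply, ← Linear.linChar_apply lam, ← hE y]
    rfl)
  -- the twisted second character has the same distinguished constituent
  have hf' := h.isCharacter_res η'
  have hf₂ : Cfsg.IsCharacter (CU C x)
      ((Linear.linChar μ : CU C x → ℂ) * fun y => (η' : HU K x → ℂ) (Subgroup.inclusion h.CU_le y)) :=
    isCharacter_mul (isCharacter_irr _) hf'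
  have hmres : Basic.mres (NP C x p) hf₂ (Basic.twist l χ) =
      Basic.mres (NP C x p) hf' (Basic.twist l' χ) := by
    rw [← Nat.cast_inj (R := ℂ), ← Basic.coe_mres, ← Basic.coe_mres]
    simp only [Cfsg.classInner, Pi.mul_apply, Basic.twist_apply, Linear.linChar_apply, hμ, hlam,
      MonoidHom.div_apply, Units.val_div_eq_div_val, map_mul]
    congr 1
    refine Finset.sum_congr rfl fun y _ => ?_
    have hu : ∀ k : NP C x p →* ℂˣ, (k y : ℂ) * conj (k y : ℂ) = 1 := fun k => by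
      have h1 := apply_inv (isCharacter_irr (Linear.linChar k)) y
      rw [Linear.linChar_apply, Linear.linChar_apply] at h1
      rw [← h1, ← Units.val_mul, ← map_mul, mul_inv_cancel, map_one, Units.val_one]
    have h2 := hu l
    have h3 := hu l'
    have hl'0 : (l' y : ℂ) ≠ 0 := Units.ne_zero _
    field_simp
    linear_combination ((η' : HU K x → ℂ) (Subgroup.inclusion h.CU_le (y : CU C x)) *
      conj ((χ : NP C x p → ℂ) y)) * (h2 - h3)
  have hcoset := fun (y : CU C x) (hy : y ∉ NP C x p) =>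
    h.coset_sum hCK η η' 0 (fun w => (h.hu_sum η η' θ θ' hη hη' w).2 (Ne.symm hθne)) y hy
  have hoff : ∑ y : CU C x, (if y ∈ NP C x p then 0 else
      (η : HU K x → ℂ) (Subgroup.inclusion h.CU_le y) *
        conj (((Linear.linChar μ : CU C x → ℂ) *
          fun y => (η' : HU K x → ℂ) (Subgroup.inclusion h.CU_le y)) y)) = 0 := by
    refine (h.off_sum _ 0 fun y hy => ?_).trans (zero_mul _)
    rw [zero_mul]
    calc _ = conj (μ y : ℂ) * ∑ c : C,
          (η : HU K x → ℂ) (Subgroup.inclusion h.CU_le (y * Subgroup.inclusion le_sup_left c)) *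
          conj ((η' : HU K x → ℂ) (Subgroup.inclusion h.CU_le (y * Subgroup.inclusion le_sup_left c))) := by
          rw [Finset.mul_sum]
          refine Finset.sum_congr rfl fun c _ => ?_
          have hc : μ (Subgroup.inclusion le_sup_left c) = 1 := by
            have := hμ ⟨Subgroup.inclusion le_sup_left c,
              C₀_le C x p (Subgroup.mem_subgroupOf.mpr c.2)⟩
            rw [this, hlam0 _ (Subgroup.mem_subgroupOf.mpr c.2)]
          simp only [Pi.mul_apply, Linear.linChar_apply, map_mul, hc, mul_one]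
          ring
      _ = 0 := by rw [hcoset y hy, zero_mul, mul_zero]
  obtain ⟨δ, hδ, hδne, hδd, -⟩ := Basic.constituent_ne (NP C x p) hp.out (h.index_NP hCK)
    (h.isCharacter_res η) hf₂ hoff (Basic.twist l χ) hγ hd (hmres ▸ hd')
  exact hδne ((huniq δ hδ hδd).trans (huniq _ hγ hd).symm)

end Cfsg.Agent.Lib.RelMcKay.Step
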