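import Cfsg.Agent.Lib.RelMcKay.Special
import Cfsg.Agent.Lib.RelMcKay.Choose
import Cfsg.Agent.Lib.Coprime.Glauberman

/-!
# Extendibility over an abelian two-generated `p'`-quotient passes to the correspondent
-/

set_option autoImplicit false

namespace Cfsg.Agent.Lib.RelMcKay.TwoGen

open scoped ComplexConjugate Classical
open Cfsg.Agent.Lib.Characters Cfsg.Agent.Lib.Characters.Basic Cfsg.Agent.Lib.Induced.Basic
open Cfsg.Agent.Lib.RelMcKay.Rel Cfsg.Agent.Lib.RelMcKay.Extend Cfsg.Agent.Lib.RelMcKay.Corr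
open Cfsg.Agent.Lib.RelMcKay.Special

universe u

variable {G : Type u} [Group G] [Fintype G] {p : ℕ} [hp : Fact p.Prime]

/-- Two elements normalising the data and commuting modulo `C`, of order prime to `p` modulo `C`. -/
structure Pair (p : ℕ) (L K S C : Subgroup G) (a b : G) : Prop where
  aK : a ∈ Subgroup.normalizer (K : Set G)
  bK : b ∈ Subgroup.normalizer (K : Set G)
  aS : a ∈ Subgroup.normalizer ((S ⊔ L : Subgroup G) : Set G)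
  bS : b ∈ Subgroup.normalizer ((S ⊔ L : Subgroup G) : Set G)
  comm : b * a * b⁻¹ * a⁻¹ ∈ C
  pow : ∃ n, ¬ p ∣ n ∧ a ^ n ∈ C ∧ b ^ n ∈ C

omit [Fintype G] hp in
theorem conj_mem_of_normalizer {D : Subgroup G} {S : Subgroup G} (hSD : S ≤ D) {g : G}
    (hg : g ∈ Subgroup.normalizer (D : Set G)) : ∀ s ∈ S, g * s * g⁻¹ ∈ D ∧ g⁻¹ * s * g ∈ D :=
  fun s hs => ⟨(Subgroup.mem_normalizer_iff.mp hg s).mp (hSD hs),
    (Subgroup.mem_normalizer_iff''.mp hg s).mp (hSD hs)⟩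

omit [Fintype G] hp in
/-- A unimodular change of generators modulo a normalised subgroup. -/
theorem change {C : Subgroup G} {a b : G} (ha : a ∈ Subgroup.normalizer (C : Set G))
    (hb : b ∈ Subgroup.normalizer (C : Set G)) (hc : b * a * b⁻¹ * a⁻¹ ∈ C) {s t x y : ℤ}
    (hdet : s * y - t * x = 1) {n : ℕ} (han : a ^ n ∈ C) (hbn : b ^ n ∈ C) :
    (C ⊔ Subgroup.zpowers a ⊔ Subgroup.zpowers b =
        C ⊔ Subgroup.zpowers (a ^ x * b ^ y) ⊔ Subgroup.zpowers (a ^ s * b ^ t)) ∧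
      a ^ s * b ^ t * (a ^ x * b ^ y) * (a ^ s * b ^ t)⁻¹ * (a ^ x * b ^ y)⁻¹ ∈ C ∧
      (a ^ x * b ^ y) * (a ^ s * b ^ t) * (a ^ x * b ^ y)⁻¹ * (a ^ s * b ^ t)⁻¹ ∈ C ∧
      (a ^ x * b ^ y) ^ n ∈ C := by
  obtain ⟨W, hW⟩ : ∃ W, C ⊔ Subgroup.zpowers a ⊔ Subgroup.zpowers b = W := ⟨_, rfl⟩
  have hCW : C ≤ W := hW ▸ le_sup_left.trans le_sup_left
  have haW : a ∈ W := hW ▸ Subgroup.mem_sup_left (Subgroup.mem_sup_right (Subgroup.mem_zpowers a))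
  have hbW : b ∈ W := hW ▸ Subgroup.mem_sup_right (Subgroup.mem_zpowers b)
  haveI : (C.subgroupOf W).Normal := (Subgroup.normal_subgroupOf_iff_le_normalizer hCW).mpr
    (hW ▸ sup_le (sup_le Subgroup.le_normalizer (Subgroup.zpowers_le.mpr ha))
      (Subgroup.zpowers_le.mpr hb))
  let q := QuotientGroup.mk' (C.subgroupOf W)
  have hone : ∀ z : W, q z = 1 ↔ (z : G) ∈ C := fun z => by
    rw [QuotientGroup.mk'_apply, QuotientGroup.eq_one_iff, Subgroup.mem_subgroupOf]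
  obtain ⟨A, hA⟩ : ∃ A, q ⟨a, haW⟩ = A := ⟨_, rfl⟩
  obtain ⟨B, hB⟩ : ∃ B, q ⟨b, hbW⟩ = B := ⟨_, rfl⟩
  have hcomm : Commute B A := by
    have h1 : q (⟨b, hbW⟩ * ⟨a, haW⟩ * (⟨b, hbW⟩ : W)⁻¹ * (⟨a, haW⟩ : W)⁻¹) = 1 := (hone _).mpr hc
    rwa [map_mul, map_mul, map_mul, map_inv, map_inv, hA, hB, mul_inv_eq_one,
      mul_inv_eq_iff_eq_mul] at h1
  have hval : ∀ (i j : ℤ), q ((⟨a, haW⟩ : W) ^ i * (⟨b, hbW⟩ : W) ^ j) = A ^ i * B ^ j := fun i j => by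
    rw [map_mul, map_zpow, map_zpow, hA, hB]
  obtain ⟨a', ha'⟩ : ∃ a' : W, (⟨a, haW⟩ : W) ^ s * (⟨b, hbW⟩ : W) ^ t = a' := ⟨_, rfl⟩
  obtain ⟨b', hb'⟩ : ∃ b' : W, (⟨a, haW⟩ : W) ^ x * (⟨b, hbW⟩ : W) ^ y = b' := ⟨_, rfl⟩
  have ea : (a' : G) = a ^ s * b ^ t := by rw [← ha']; simp
  have eb : (b' : G) = a ^ x * b ^ y := by rw [← hb']; simp
  have qa : q a' = A ^ s * B ^ t := ha' ▸ hval s t
  have qb : q b' = A ^ x * B ^ y := hb' ▸ hval x y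
  have hAB : Commute A B := hcomm.symm
  have hab' : Commute (q a') (q b') := by
    rw [qa, qb]
    exact ((Commute.zpow_zpow_self A s x).mul_right (hAB.zpow_zpow s y)).mul_left
      ((hcomm.zpow_zpow t x).mul_right (Commute.zpow_zpow_self B t y))
  have hcomb : ∀ u v : ℤ, q (a' ^ u * b' ^ v) = A ^ (s * u + x * v) * B ^ (t * u + y * v) := by
    intro u v
    rw [map_mul, map_zpow, map_zpow, qa, qb, (hAB.zpow_zpow s t).mul_zpow,
      (hAB.zpow_zpow x y).mul_zpow, ← zpow_mul, ← zpow_mul, ← zpow_mul, ← zpow_mul, zpow_add, zpow_add]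
    rw [mul_assoc, ← mul_assoc (B ^ (t * u)), ((hcomm.zpow_zpow (t * u) (x * v))).eq, mul_assoc,
      ← mul_assoc]
  have hmem : ∀ (g : W) (u v : ℤ), q (a' ^ u * b' ^ v) = q g →
      (g : G) ∈ C ⊔ Subgroup.zpowers (a ^ x * b ^ y) ⊔ Subgroup.zpowers (a ^ s * b ^ t) := by
    intro g u v hq
    have h2 : q ((a' ^ u * b' ^ v)⁻¹ * g) = 1 := by rw [map_mul, map_inv, hq, inv_mul_cancel]
    have h3 := (hone _).mp h2
    simp only [Subgroup.coe_mul, Subgroup.coe_inv, SubgroupClass.coe_zpow, ea, eb] at h3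
    have h4 : (a ^ s * b ^ t) ^ u * (a ^ x * b ^ y) ^ v *
        (((a ^ s * b ^ t) ^ u * (a ^ x * b ^ y) ^ v)⁻¹ * (g : G)) ∈
        C ⊔ Subgroup.zpowers (a ^ x * b ^ y) ⊔ Subgroup.zpowers (a ^ s * b ^ t) :=
      mul_mem (mul_mem (Subgroup.mem_sup_right (Subgroup.zpow_mem_zpowers _ u))
        (Subgroup.mem_sup_left (Subgroup.mem_sup_right (Subgroup.zpow_mem_zpowers _ v))))
        (Subgroup.mem_sup_left (Subgroup.mem_sup_left h3))
    rwa [mul_inv_cancel_left] at h4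
  have haa := hmem ⟨a, haW⟩ y (-t) (by
    rw [hcomb, hA, show s * y + x * -t = 1 by linear_combination hdet,
      show t * y + y * -t = 0 by ring, zpow_one, zpow_zero, mul_one])
  have hbb := hmem ⟨b, hbW⟩ (-x) s (by
    rw [hcomb, hB, show s * -x + x * s = 0 by ring,
      show t * -x + y * s = 1 by linear_combination hdet, zpow_one, zpow_zero, one_mul])
  refine ⟨le_antisymm (sup_le (sup_le (le_sup_left.trans le_sup_left) (Subgroup.zpowers_le.mpr haa))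
    (Subgroup.zpowers_le.mpr hbb)) (sup_le (sup_le (le_sup_left.trans le_sup_left)
      (Subgroup.zpowers_le.mpr (hW ▸ eb ▸ b'.2))) (Subgroup.zpowers_le.mpr (hW ▸ ea ▸ a'.2))), ?_, ?_, ?_⟩
  · have h : q (a' * b' * a'⁻¹ * b'⁻¹) = 1 := by
      rw [map_mul, map_mul, map_mul, map_inv, map_inv, hab'.eq, mul_inv_cancel_right, mul_inv_cancel]
    simpa [ea, eb] using (hone _).mp h
  · have h : q (b' * a' * b'⁻¹ * a'⁻¹) = 1 := by
      rw [map_mul, map_mul, map_mul, map_inv, map_inv, hab'.symm.eq, mul_inv_cancel_right, mul_inv_cancel]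
    simpa [ea, eb] using (hone _).mp h
  · have hAn : A ^ n = 1 := by rw [← hA, ← map_pow, hone]; exact han
    have hBn : B ^ n = 1 := by rw [← hB, ← map_pow, hone]; exact hbn
    have h : q (b' ^ n) = 1 := by
      rw [map_pow, qb, (hAB.zpow_zpow x y).mul_pow, ← zpow_natCast, ← zpow_mul, mul_comm x, zpow_mul,
        zpow_natCast, hAn, one_zpow, one_mul, ← zpow_natCast, ← zpow_mul, mul_comm y, zpow_mul,
        zpow_natCast, hBn, one_zpow]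
    simpa [eb] using (hone _).mp h

variable {L : Subgroup G} [hLn : L.Normal]

/-- Extendibility is preserved by the correspondence. -/
theorem main : ∀ (N : ℕ) (K C S : Subgroup G), Nat.card K = N → (hL : L ≤ K) →
    ¬ p ∣ L.relIndex K → IsPGroup p S → S ≤ Subgroup.normalizer (K : Set G) →
    (hC : C = fixC L K S) → ∀ (a b : G), Pair p L K S C a b →
    ∀ (θ : Cfsg.IrrCharacter K) (β : Cfsg.IrrCharacter C), InvBy S K (θ : K → ℂ) →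
      ¬ p ∣ Cfsg.charDegree (θ : K → ℂ) → InvBy S C (β : C → ℂ) →
      ¬ p ∣ m (hC ▸ fixC_le L K S) θ β → InvAt a K (θ : K → ℂ) → InvAt b K (θ : K → ℂ) →
      (Extends θ (K ⊔ Subgroup.zpowers a ⊔ Subgroup.zpowers b) ↔
        Extends β (C ⊔ Subgroup.zpowers a ⊔ Subgroup.zpowers b)) := by
  intro N
  induction N using Nat.strong_induction_on with
  | _ N ih =>
  intro K C S hN hL hidx hS hn hC a b hab θ β hθ hd hβ hm hθa hθb
  let cent : Subgroup G :=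
    (Subgroup.centralizer ((QuotientGroup.mk' L) '' (K : Set G))).comap (QuotientGroup.mk' L)
  have hcent : ∀ g : G, g ∈ cent ↔ ∀ k ∈ K, Commute (g : G ⧸ L) (k : G ⧸ L) := fun g => by
    simp only [cent, Subgroup.mem_comap, Subgroup.mem_centralizer_iff, Set.forall_mem_image,
      SetLike.mem_coe, QuotientGroup.mk'_apply, commute_iff_eq]
    exact ⟨fun h k hk => (h hk).symm, fun h k hk => (h k hk).symm⟩
  have hLcent : L ≤ cent := fun l hl => (hcent l).mpr fun k _ => by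
    rw [(QuotientGroup.eq_one_iff l).mpr hl]; exact Commute.one_left _
  have hCle : C ≤ K := hC ▸ fixC_le L K S
  by_cases htriv : S ≤ cent
  · have hCK : C = K := by
      rw [hC]
      refine le_antisymm (fixC_le L K S) fun k hk => mem_fixC.mpr ⟨hk, fun s hs => ?_⟩
      rw [Step.mk_comm]
      exact (hcent s).mp (htriv hs) k hk
    subst hCK
    have e : θ = β := by
      by_contra hne
      exact hm (by rw [m_self, if_neg hne]; exact dvd_zero p)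
    rw [e]
  obtain ⟨n, hpn, han, hbn⟩ := hab.pow
  have hnorm_cent : ∀ g ∈ Subgroup.normalizer (K : Set G), g ∈ Subgroup.normalizer (cent : Set G) := by
    intro g hg
    refine Subgroup.mem_normalizer_fintype fun c hc => ?_
    refine (hcent _).mpr fun k hk => ?_
    have h1 := (hcent c).mp hc _ ((Subgroup.mem_normalizer_iff''.mp hg k).mp hk)
    simp only [QuotientGroup.mk_mul, QuotientGroup.mk_inv, commute_iff_eq] at h1 ⊢
    calc (g : G ⧸ L) * c * (g : G ⧸ L)⁻¹ * k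
        = (g : G ⧸ L) * ((c : G ⧸ L) * ((g : G ⧸ L)⁻¹ * k * g)) * (g : G ⧸ L)⁻¹ := by simp [mul_assoc]
      _ = _ := by rw [h1]; simp [mul_assoc]
  obtain ⟨Q, hQ⟩ : ∃ Q, S ⊔ L = Q := ⟨_, rfl⟩
  have hSQ : S ≤ Q := hQ ▸ le_sup_left
  have hLQ : L ≤ Q := hQ ▸ le_sup_right
  have haQ : a ∈ Subgroup.normalizer (Q : Set G) := hQ ▸ hab.aS
  have hbQ : b ∈ Subgroup.normalizer (Q : Set G) := hQ ▸ hab.bS
  obtain ⟨Q₀, hQ₀⟩ : ∃ Q₀, Q ⊓ cent = Q₀ := ⟨_, rfl⟩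
  have hLQ₀ : L ≤ Q₀ := hQ₀ ▸ le_inf hLQ hLcent
  have hQ₀Q : Q₀ ≤ Q := hQ₀ ▸ inf_le_left
  have hQ₀c : Q₀ ≤ cent := hQ₀ ▸ inf_le_right
  have hnormQ₀ : ∀ g, g ∈ Subgroup.normalizer (Q : Set G) → g ∈ Subgroup.normalizer (K : Set G) →
      g ∈ Subgroup.normalizer (Q₀ : Set G) := fun g h1 h2 => by
    refine Subgroup.mem_normalizer_fintype fun z hz => ?_
    rw [SetLike.mem_coe, ← hQ₀] at hz ⊢
    exact ⟨(Subgroup.mem_normalizer_iff.mp h1 z).mp hz.1,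
      (Subgroup.mem_normalizer_iff.mp (hnorm_cent g h2) z).mp hz.2⟩
  have hLK : L ≤ Subgroup.normalizer (K : Set G) := hL.trans Subgroup.le_normalizer
  have hQK : Q ≤ Subgroup.normalizer (K : Set G) := hQ ▸ sup_le hn hLK
  obtain ⟨Nm, hNm⟩ : ∃ Nm, Subgroup.normalizer (Q₀ : Set G) = Nm := ⟨_, rfl⟩
  have hQNm : Q ≤ Nm := hNm ▸ fun g hg => hnormQ₀ g (Subgroup.le_normalizer hg) (hQK hg)
  have haNm : a ∈ Nm := hNm ▸ hnormQ₀ a haQ hab.aK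
  have hbNm : b ∈ Nm := hNm ▸ hnormQ₀ b hbQ hab.bK
  have hQ₀Nm : Q₀ ≤ Nm := hQ₀Q.trans hQNm
  haveI : (Q₀.subgroupOf Nm).Normal :=
    (Subgroup.normal_subgroupOf_iff_le_normalizer hQ₀Nm).mpr hNm.ge
  let π := QuotientGroup.mk' (Q₀.subgroupOf Nm)
  have hπ : ∀ z : Nm, π z = 1 ↔ (z : G) ∈ Q₀ := fun z => by
    rw [QuotientGroup.mk'_apply, QuotientGroup.eq_one_iff, Subgroup.mem_subgroupOf]
  have hdecQ : ∀ q ∈ Q, ∃ s ∈ S, ∃ l ∈ L, q = s * l := fun q hq => by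
    obtain ⟨s, hs, l, hl, rfl⟩ := Subgroup.mem_sup_of_normal_right.mp (hQ ▸ hq : q ∈ S ⊔ L)
    exact ⟨s, hs, l, hl, rfl⟩
  let P := (Q.subgroupOf Nm).map π
  have hPp : IsPGroup p P := by
    have hle : P ≤ (S.subgroupOf Nm).map π := by
      rintro _ ⟨z, hz, rfl⟩
      obtain ⟨s, hs, l, hl, e⟩ := hdecQ _ (Subgroup.mem_subgroupOf.mp hz)
      refine ⟨⟨s, hQNm (hSQ hs)⟩, Subgroup.mem_subgroupOf.mpr hs, ?_⟩
      have : π ⟨l, hQNm (hLQ hl)⟩ = 1 := (hπ _).mpr (hLQ₀ hl)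
      rw [show z = ⟨s, hQNm (hSQ hs)⟩ * ⟨l, hQNm (hLQ hl)⟩ from Subtype.ext e, map_mul, this, mul_one]
    refine IsPGroup.to_le (IsPGroup.map ?_ π) hle
    exact hS.comap_of_injective Nm.subtype Nm.subtype_injective
  have hPne : P ≠ ⊥ := by
    intro h0
    apply htriv
    intro s hs
    have h1 : π ⟨s, hQNm (hSQ hs)⟩ ∈ P := ⟨_, Subgroup.mem_subgroupOf.mpr (hSQ hs), rfl⟩
    rw [h0, Subgroup.mem_bot, hπ] at h1
    exact hQ₀c h1
  have hnormP : ∀ (g : G) (hg : g ∈ Nm), g ∈ Subgroup.normalizer (Q : Set G) →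
      π ⟨g, hg⟩ ∈ Subgroup.normalizer (P : Set (Nm ⧸ Q₀.subgroupOf Nm)) := by
    intro g hg hgQ
    refine Subgroup.mem_normalizer_fintype fun z hz => ?_
    obtain ⟨w, hw, rfl⟩ := hz
    refine ⟨⟨g, hg⟩ * w * (⟨g, hg⟩ : Nm)⁻¹, Subgroup.mem_subgroupOf.mpr
      ((Subgroup.mem_normalizer_iff.mp hgQ _).mp (Subgroup.mem_subgroupOf.mp hw)), ?_⟩
    rw [map_mul, map_mul, map_inv]
  -- elements of `C` act trivially on `Q`
  have hCfix : ∀ c ∈ C, ∀ q ∈ Q, Commute (c : G ⧸ L) (q : G ⧸ L) := by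
    intro c hc q hq
    obtain ⟨s, hs, l, hl, rfl⟩ := hdecQ q hq
    rw [QuotientGroup.mk_mul, (QuotientGroup.eq_one_iff l).mpr hl, mul_one]
    exact ((Step.mk_comm L s c).mp ((mem_fixC.mp (hC ▸ hc)).2 s hs)).symm
  have hcP : ∀ z ∈ P, Commute (π ⟨b, hbNm⟩ * π ⟨a, haNm⟩ * (π ⟨b, hbNm⟩)⁻¹ * (π ⟨a, haNm⟩)⁻¹) z := by
    rintro _ ⟨w, hw, rfl⟩
    set c : Nm := ⟨b, hbNm⟩ * ⟨a, haNm⟩ * (⟨b, hbNm⟩ : Nm)⁻¹ * (⟨a, haNm⟩ : Nm)⁻¹ with hc'
    have hcw : π (c * w * c⁻¹ * w⁻¹) = 1 := (hπ _).mpr (hLQ₀ ((Step.mk_comm L (c : G) (w : G)).mpr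
      (hCfix _ hab.comm _ (Subgroup.mem_subgroupOf.mp hw))))
    rw [map_mul, map_mul, map_mul, map_inv, map_inv, mul_inv_eq_one, mul_inv_eq_iff_eq_mul] at hcw
    have e : π c = π ⟨b, hbNm⟩ * π ⟨a, haNm⟩ * (π ⟨b, hbNm⟩)⁻¹ * (π ⟨a, haNm⟩)⁻¹ := by
      rw [hc', map_mul, map_mul, map_mul, map_inv, map_inv]
    rwa [← e]
  obtain ⟨U, hUne, hUP, hUc, haU, hbU, s, t, x, y, hdet, hfixU⟩ := Choose.choose_pair hPp hPne
    (hnormP a haNm haQ) (hnormP b hbNm hbQ) hcP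
  obtain ⟨b', hb'⟩ : ∃ b', a ^ x * b ^ y = b' := ⟨_, rfl⟩
  obtain ⟨a', ha'⟩ : ∃ a', a ^ s * b ^ t = a' := ⟨_, rfl⟩
  have hb'Nm : b' ∈ Nm := hb' ▸ mul_mem (zpow_mem haNm x) (zpow_mem hbNm y)
  have hπb' : π ⟨b', hb'Nm⟩ = π ⟨a, haNm⟩ ^ x * π ⟨b, hbNm⟩ ^ y := by
    rw [← map_zpow, ← map_zpow, ← map_mul]
    exact congrArg π (Subtype.ext (by simp [hb']))
  let UG := (U.comap π).map Nm.subtype
  have hUGQ : UG ≤ Q := by
    rintro _ ⟨z, hz, rfl⟩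
    obtain ⟨w, hw, e⟩ := hUP hz
    have : π (w⁻¹ * z) = 1 := by rw [map_mul, map_inv, e, inv_mul_cancel]
    have h2 := hQ₀Q ((hπ _).mp this)
    have h3 := Q.mul_mem (Subgroup.mem_subgroupOf.mp hw) h2
    simpa using h3
  have hQ₀UG : Q₀ ≤ UG := fun z hz => ⟨⟨z, hQ₀Nm hz⟩,
    show π _ ∈ U by rw [(hπ ⟨z, hQ₀Nm hz⟩).mpr hz]; exact U.one_mem, rfl⟩
  have hUGnorm : ∀ (g : G) (hg : g ∈ Nm),
      π ⟨g, hg⟩ ∈ Subgroup.normalizer (U : Set (Nm ⧸ Q₀.subgroupOf Nm)) →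
      g ∈ Subgroup.normalizer (UG : Set G) := by
    intro g hg hgU
    refine Subgroup.mem_normalizer_fintype fun z hz => ?_
    obtain ⟨w, hw, rfl⟩ := hz
    refine ⟨⟨g, hg⟩ * w * (⟨g, hg⟩ : Nm)⁻¹, ?_, rfl⟩
    show π _ ∈ U
    rw [map_mul, map_mul, map_inv]
    exact (Subgroup.mem_normalizer_iff.mp hgU _).mp hw
  have hSUG : ∀ q ∈ S, q ∈ Subgroup.normalizer (UG : Set G) := fun q hq =>
    hUGnorm q (hQNm (hSQ hq)) (Subgroup.mem_normalizer_fintype fun u hu => by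
      rw [((hUc u hu _ ⟨_, Subgroup.mem_subgroupOf.mpr (hSQ hq), rfl⟩).symm).eq, mul_inv_cancel_right]
      exact hu)
  have haUG := hUGnorm a haNm haU
  have hbUG := hUGnorm b hbNm hbU
  obtain ⟨US, hUSdef⟩ : ∃ US, UG ⊓ S = US := ⟨_, rfl⟩
  have hUSS : US ≤ S := hUSdef ▸ inf_le_right
  have hUSp : IsPGroup p US := hS.to_le hUSS
  have hUSn : US ≤ Subgroup.normalizer (K : Set G) := hUSS.trans hn
  have hUGdec : ∀ u ∈ UG, ∃ w ∈ US, ∃ l ∈ L, u = w * l := fun u hu => by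
    obtain ⟨w, hw, l, hl, e⟩ := hdecQ u (hUGQ hu)
    refine ⟨w, hUSdef ▸ Subgroup.mem_inf.mpr ⟨?_, hw⟩, l, hl, e⟩
    have := UG.mul_mem hu (UG.inv_mem ((hLQ₀.trans hQ₀UG) hl))
    rwa [e, mul_inv_cancel_right] at this
  obtain ⟨w₀, hw₀, hw₀c⟩ : ∃ w ∈ US, w ∉ cent := by
    obtain ⟨⟨u, hu⟩, hu1⟩ := Subgroup.ne_bot_iff_exists_ne_one.mp hUne
    obtain ⟨z, rfl⟩ := QuotientGroup.mk'_surjective _ u
    have hzUG : (z : G) ∈ UG := ⟨z, hu, rfl⟩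
    obtain ⟨w, hw, l, hl, e⟩ := hUGdec _ hzUG
    refine ⟨w, hw, fun hwc => hu1 (Subtype.ext ((hπ z).mpr ?_))⟩
    rw [← hQ₀]
    exact ⟨hUGQ hzUG, e ▸ mul_mem hwc (hLcent hl)⟩
  obtain ⟨C₁, hC₁⟩ : ∃ C₁, C₁ = fixC L K US := ⟨_, rfl⟩
  have hC₁K : C₁ ≤ K := hC₁ ▸ fixC_le L K US
  have hlt : Nat.card C₁ < N := by
    rw [← hN]
    refine lt_of_le_of_ne (Subgroup.card_le_of_le hC₁K) fun h => hw₀c ((hcent w₀).mpr fun k hk => ?_)
    have := Subgroup.eq_of_le_of_card_ge hC₁K h.ge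
    exact (Step.mk_comm L w₀ k).mp ((mem_fixC.mp (hC₁ ▸ this.symm ▸ hk : k ∈ fixC L K US)).2 w₀ hw₀)
  -- normalisation of `C`, `US`
  have hconjS : ∀ g ∈ Subgroup.normalizer (Q : Set G), ∀ q ∈ S, g * q * g⁻¹ ∈ S ⊔ L ∧ g⁻¹ * q * g ∈ S ⊔ L :=
    fun g hg q hq => hQ ▸ conj_mem_of_normalizer hSQ hg q hq
  have hnC : ∀ g, g ∈ Subgroup.normalizer (K : Set G) → g ∈ Subgroup.normalizer (Q : Set G) →
      g ∈ Subgroup.normalizer (C : Set G) := fun g h1 h2 =>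
    hC ▸ mem_normalizer_fixC hL h1 fun q hq => (hconjS g h2 q hq).2
  have hUSconj : ∀ g ∈ Subgroup.normalizer (UG : Set G), g ∈ Subgroup.normalizer (Q : Set G) →
      ∀ q ∈ US, g * q * g⁻¹ ∈ US ⊔ L ∧ g⁻¹ * q * g ∈ US ⊔ L := by
    intro g hg hgQ q hq
    have hqU : q ∈ UG := (Subgroup.mem_inf.mp (hUSdef.symm ▸ hq : q ∈ UG ⊓ S)).1
    obtain ⟨w, hw, l, hl, e⟩ := hUGdec _ ((Subgroup.mem_normalizer_iff.mp hg q).mp hqU)
    obtain ⟨w', hw', l', hl', e'⟩ := hUGdec _ ((Subgroup.mem_normalizer_iff''.mp hg q).mp hqU)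
    exact ⟨e ▸ mul_mem (Subgroup.mem_sup_left hw) (Subgroup.mem_sup_right hl),
      e' ▸ mul_mem (Subgroup.mem_sup_left hw') (Subgroup.mem_sup_right hl')⟩
  have hSQn : ∀ q ∈ S, q ∈ Subgroup.normalizer (Q : Set G) := fun q hq => Subgroup.le_normalizer (hSQ hq)
  have hSC₁ : S ≤ Subgroup.normalizer (C₁ : Set G) := fun q hq =>
    hC₁ ▸ mem_normalizer_fixC hL (hn hq) fun z hz => (hUSconj q (hSUG q hq) (hSQn q hq) z hz).2
  have haC₁ : a ∈ Subgroup.normalizer (C₁ : Set G) :=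
    hC₁ ▸ mem_normalizer_fixC hL hab.aK fun z hz => (hUSconj a haUG haQ z hz).2
  have hbC₁ : b ∈ Subgroup.normalizer (C₁ : Set G) :=
    hC₁ ▸ mem_normalizer_fixC hL hab.bK fun z hz => (hUSconj b hbUG hbQ z hz).2
  have hCC₁ : C ≤ C₁ := hC₁ ▸ hC ▸ fixC_anti hUSS
  have hCfix₁ : C = fixC L C₁ S := by
    ext k
    rw [hC, mem_fixC, mem_fixC]
    refine ⟨fun h => ⟨hC₁ ▸ mem_fixC.mpr ⟨h.1, fun q hq => h.2 q (hUSS hq)⟩, h.2⟩,
      fun h => ⟨hC₁K h.1, h.2⟩⟩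
  subst hC₁
  -- the intermediate correspondent
  obtain ⟨γ, hγ, hγm, hγd⟩ := exists_corr hL hidx hUSp hUSn (invBy_mono hUSS hθ) hd
  have hfixγ : ∀ (g : G) (hgK : g ∈ Subgroup.normalizer (K : Set G))
      (hgU : g ∈ Subgroup.normalizer (UG : Set G)) (hgQ : g ∈ Subgroup.normalizer (Q : Set G)),
      InvAt g K (θ : K → ℂ) → InvAt g (fixC L K US) (γ : fixC L K US → ℂ) := fun g hgK hgU hgQ hgθ =>
    (conj_corr hL hidx hUSp hUSn hgK
      (mem_normalizer_fixC hL hgK fun z hz => (hUSconj g hgU hgQ z hz).2)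
      (fun z hz => (hUSconj g hgU hgQ z hz).1) (invBy_mono hUSS hθ) hd hγ hγm).mp hgθ
  have hγS : InvBy S (fixC L K US) (γ : fixC L K US → ℂ) := fun q hq =>
    hfixγ q (hn hq) (hSUG q hq) (hSQn q hq) (hθ q hq)
  have hγa := hfixγ a hab.aK haUG haQ hθa
  have hγb := hfixγ b hab.bK hbUG hbQ hθb
  have hSCn : S ≤ Subgroup.normalizer (C : Set G) := fun q hq => hnC q (hn hq) (hSQn q hq)
  have hγβ : ¬ p ∣ m hCC₁ γ β := by
    have e : (m (hC ▸ fixC_le L K S) θ β : ZMod p) = (m (fixC_le L K US) θ γ : ZMod p) * m hCC₁ γ β := by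
      rw [show m (hC ▸ fixC_le L K S) θ β = m (hCC₁.trans (fixC_le L K US)) θ β from rfl,
        m_trans hUSp hCC₁ (fixC_le L K US) (hUSS.trans hSCn) (le_normalizer_fixC hL hUSn) hUSn
          (invBy_mono hUSS hθ) (invBy_mono hUSS hβ)]
      refine Finset.sum_eq_single γ (fun δ hδ hne => ?_) (fun h => ?_)
      · have hdv : p ∣ m (fixC_le L K US) θ δ := by
          by_contra hnd
          exact hne (unique hL hidx hUSp hUSn (invBy_mono hUSS hθ) hd hγ (Finset.mem_filter.mp hδ).2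
            hγm hnd)
        rw [(ZMod.natCast_eq_zero_iff _ _).mpr hdv, zero_mul]
      · exact (h (by simp only [Finset.mem_filter, Finset.mem_univ, true_and]; exact hγ)).elim
    intro h0
    apply hm
    rw [← ZMod.natCast_eq_zero_iff, e, (ZMod.natCast_eq_zero_iff _ _).mpr h0, mul_zero]
  have hidx₁ : ¬ p ∣ L.relIndex (fixC L K US) := idx_fixC hL hidx US
  have hab₁ : Pair p L (fixC L K US) S C a b := ⟨haC₁, hbC₁, hab.aS, hab.bS, hab.comm, hab.pow⟩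
  have hIH := ih _ hlt (fixC L K US) C S rfl (le_fixC hL) hidx₁ hS hSC₁ hCfix₁ a b hab₁
    γ β hγS hγd hβ hγβ hγa hγb
  -- the special case for `(a', b')`
  obtain ⟨hgenC, hc₁, hc₂, hb'n⟩ := change (hnC a hab.aK haQ) (hnC b hab.bK hbQ) hab.comm hdet han hbn
  rw [ha', hb'] at hgenC hc₁ hc₂
  rw [hb'] at hb'n
  have hb'K : b' ∈ Subgroup.normalizer (K : Set G) := hb' ▸ mul_mem (zpow_mem hab.aK x) (zpow_mem hab.bK y)
  have ha'K : a' ∈ Subgroup.normalizer (K : Set G) := ha' ▸ mul_mem (zpow_mem hab.aK s) (zpow_mem hab.bK t)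
  have ha'Q : a' ∈ Subgroup.normalizer (Q : Set G) := ha' ▸ mul_mem (zpow_mem haQ s) (zpow_mem hbQ t)
  have hb'Q : b' ∈ Subgroup.normalizer (Q : Set G) := hb' ▸ mul_mem (zpow_mem haQ x) (zpow_mem hbQ y)
  have ha'U : a' ∈ Subgroup.normalizer (UG : Set G) := ha' ▸ mul_mem (zpow_mem haUG s) (zpow_mem hbUG t)
  have hstab : ∀ g : G, g = a' ∨ g = b' → InvAt g K (θ : K → ℂ) := by
    have haS' : a ∈ stab K (θ : K → ℂ) := ⟨hab.aK, hθa⟩
    have hbS' : b ∈ stab K (θ : K → ℂ) := ⟨hab.bK, hθb⟩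
    rintro g (rfl | rfl)
    · exact ha' ▸ (mul_mem (zpow_mem haS' s) (zpow_mem hbS' t) :
        a ^ s * b ^ t ∈ stab K (θ : K → ℂ)).2
    · exact hb' ▸ (mul_mem (zpow_mem haS' x) (zpow_mem hbS' y) :
        a ^ x * b ^ y ∈ stab K (θ : K → ℂ)).2
  obtain ⟨T, hTdef⟩ : ∃ T, US ⊓ (Subgroup.centralizer {(b' : G ⧸ L)}).comap (QuotientGroup.mk' L) = T :=
    ⟨_, rfl⟩
  have hTUS : T ≤ US := hTdef ▸ inf_le_left
  have hmemT : ∀ w, w ∈ US → Commute (w : G ⧸ L) (b' : G ⧸ L) → w ∈ T := fun w hw hc => by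
    rw [← hTdef]
    exact ⟨hw, Subgroup.mem_centralizer_singleton_iff.mpr hc.eq⟩
  have hTc : ∀ w ∈ T, Commute (w : G ⧸ L) (b' : G ⧸ L) := fun w hw => by
    rw [← hTdef] at hw
    exact Subgroup.mem_centralizer_singleton_iff.mp hw.2
  have hTp : IsPGroup p T := hUSp.to_le hTUS
  have hTn : T ≤ Subgroup.normalizer (K : Set G) := hTUS.trans hUSn
  have hTconj : ∀ g ∈ Subgroup.normalizer (UG : Set G), g ∈ Subgroup.normalizer (Q : Set G) →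
      g * b' * g⁻¹ * b'⁻¹ ∈ C → ∀ w ∈ T, g * w * g⁻¹ ∈ T ⊔ L := by
    intro g hg hgQ hgc w hw
    have hwU : w ∈ UG := (Subgroup.mem_inf.mp (hUSdef.symm ▸ hTUS hw : w ∈ UG ⊓ S)).1
    obtain ⟨v, hv, l, hl, e⟩ := hUGdec _ ((Subgroup.mem_normalizer_iff.mp hg w).mp hwU)
    have hcv : Commute ((g * w * g⁻¹ : G) : G ⧸ L) (b' : G ⧸ L) := by
      have h1 : Commute ((g * w * g⁻¹ : G) : G ⧸ L) ((g * b' * g⁻¹ : G) : G ⧸ L) := by
        simp only [QuotientGroup.mk_mul, QuotientGroup.mk_inv]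
        exact (hTc w hw).map (MulAut.conj (g : G ⧸ L)).toMonoidHom
      have h2 : Commute ((g * w * g⁻¹ : G) : G ⧸ L) ((g * b' * g⁻¹ * b'⁻¹ : G) : G ⧸ L) :=
        (hCfix _ hgc _ ((Subgroup.mem_normalizer_iff.mp hgQ w).mp (hSQ (hUSS (hTUS hw))))).symm
      have h3 := h2.inv_right.mul_right h1
      rwa [← QuotientGroup.mk_inv, ← QuotientGroup.mk_mul,
        show (g * b' * g⁻¹ * b'⁻¹)⁻¹ * (g * b' * g⁻¹) = b' by simp [mul_assoc]] at h3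
    refine e ▸ mul_mem (Subgroup.mem_sup_left (hmemT v hv ?_)) (Subgroup.mem_sup_right hl)
    rwa [e, QuotientGroup.mk_mul, (QuotientGroup.eq_one_iff l).mpr hl, mul_one] at hcv
  have ha'inv : a'⁻¹ * b' * (a'⁻¹)⁻¹ * b'⁻¹ ∈ C := by
    have hna' : a' ∈ Subgroup.normalizer (C : Set G) := hnC a' ha'K ha'Q
    have h1 := (Subgroup.mem_normalizer_iff''.mp hna' _).mp hc₂
    have e : a'⁻¹ * b' * (a'⁻¹)⁻¹ * b'⁻¹ = a'⁻¹ * (b' * a' * b'⁻¹ * a'⁻¹) * a' := by simp [mul_assoc]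
    rw [e]
    exact h1
  -- `T` has the same fixed points as `US`
  have hfix : fixC L K US = fixC L K T := by
    refine le_antisymm (fixC_anti hTUS) fun k hk => mem_fixC.mpr ⟨(mem_fixC.mp hk).1, fun w hw => ?_⟩
    rw [Step.mk_comm]
    obtain ⟨e, r, hr, horder⟩ : ∃ e r, ¬ p ∣ r ∧ orderOf (b' : G ⧸ L) = p ^ e * r :=
      Nat.exists_eq_pow_mul_and_not_dvd (orderOf_pos _).ne' p hp.out.one_lt.ne'
    let A := Subgroup.zpowers ((b' : G ⧸ L) ^ p ^ e)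
    let N₀ := Q₀.map (QuotientGroup.mk' L)
    have hN₀ : IsPGroup p N₀ := by
      refine (hS.map (QuotientGroup.mk' L)).to_le ?_
      rintro _ ⟨q, hq, rfl⟩
      obtain ⟨z, hz, l, hl, rfl⟩ := hdecQ q (hQ₀Q hq)
      exact ⟨z, hz, by rw [map_mul, show (QuotientGroup.mk' L) l = 1 from
        (QuotientGroup.eq_one_iff l).mpr hl, mul_one]⟩
    have hcard : Nat.card A = r := by
      rw [Nat.card_zpowers, orderOf_pow' _ (pow_ne_zero e hp.out.ne_zero), horder,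
        Nat.gcd_mul_right_left, Nat.mul_div_cancel_left _ (pow_pos hp.out.pos e)]
    have hcop : (Nat.card A).Coprime (Nat.card N₀) := by
      obtain ⟨f, hf⟩ := hN₀.exists_card_eq
      rw [hcard, hf]
      exact Nat.Coprime.pow_right f (((Nat.Prime.coprime_iff_not_dvd hp.out).mpr hr).symm)
    have hb'Q₀ : b' ∈ Subgroup.normalizer (Q₀ : Set G) := hNm.symm ▸ hb'Nm
    have hAN : A ≤ Subgroup.normalizer (N₀ : Set (G ⧸ L)) := by
      refine Subgroup.zpowers_le.mpr (pow_mem (Subgroup.mem_normalizer_fintype fun z hz => ?_) _)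
      obtain ⟨q, hq, rfl⟩ := hz
      exact ⟨b' * q * b'⁻¹, (Subgroup.mem_normalizer_iff.mp hb'Q₀ q).mp hq, by
        simp [QuotientGroup.mk'_apply]⟩
    have hwUG : w ∈ UG := (Subgroup.mem_inf.mp (hUSdef.symm ▸ hw : w ∈ UG ⊓ S)).1
    obtain ⟨z, hz, hzw⟩ := hwUG
    have hwNm : w ∈ Nm := hzw ▸ z.2
    have hbw : ∀ i : ℤ, π (⟨b', hb'Nm⟩ ^ i) * π ⟨w, hwNm⟩ = π ⟨w, hwNm⟩ * π (⟨b', hb'Nm⟩ ^ i) := by
      intro i
      rw [map_zpow, hπb']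
      have : π ⟨w, hwNm⟩ ∈ U := by
        rwa [show (⟨w, hwNm⟩ : Nm) = z from Subtype.ext hzw.symm]
      exact ((hfixU _ this).zpow_left i).eq
    have hk' : ∀ z ∈ A, z * (w : G ⧸ L) * z⁻¹ * (w : G ⧸ L)⁻¹ ∈ N₀ := by
      rintro _ ⟨i, rfl⟩
      refine ⟨(b' ^ p ^ e) ^ i * w * ((b' ^ p ^ e) ^ i)⁻¹ * w⁻¹, ?_, by simp [QuotientGroup.mk'_apply]⟩
      have h1 : π ((⟨b', hb'Nm⟩ ^ p ^ e) ^ i * ⟨w, hwNm⟩ * ((⟨b', hb'Nm⟩ ^ p ^ e : Nm) ^ i)⁻¹ *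
          (⟨w, hwNm⟩ : Nm)⁻¹) = 1 := by
        rw [← zpow_natCast (⟨b', hb'Nm⟩ : Nm) (p ^ e), ← zpow_mul, map_mul, map_mul, map_mul,
          map_inv, map_inv, hbw, mul_inv_cancel_right, mul_inv_cancel]
      simpa using (hπ _).mp h1
    have hsolv : Group.IsSolvable A := by
      letI : CommGroup A := IsCyclic.commGroup
      infer_instance
    obtain ⟨z₀, hz₀, hfx⟩ := Cfsg.Agent.Lib.Coprime.exists_fixed_mul hAN hcop (Or.inl hsolv) hk'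
    obtain ⟨q₀, hq₀, rfl⟩ := hz₀
    have hvUG : q₀ * w ∈ UG := UG.mul_mem (hQ₀UG hq₀) ⟨z, hz, hzw⟩
    obtain ⟨v, hv, l, hl, hvl⟩ := hUGdec _ hvUG
    have hvw : (v : G ⧸ L) = (q₀ : G ⧸ L) * (w : G ⧸ L) := by
      rw [← QuotientGroup.mk_mul, hvl, QuotientGroup.mk_mul, (QuotientGroup.eq_one_iff l).mpr hl, mul_one]
    have hvb : Commute (v : G ⧸ L) (b' : G ⧸ L) := by
      have h1 : Commute (v : G ⧸ L) ((b' : G ⧸ L) ^ p ^ e) := by
        rw [hvw]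
        exact (Subgroup.mem_centralizer_iff.mp hfx _ (Subgroup.mem_zpowers _)).symm
      have h2 : Commute (v : G ⧸ L) ((b' : G ⧸ L) ^ n) := by
        rw [← QuotientGroup.mk_pow]
        exact (hCfix _ hb'n _ (hSQ (hUSS hv))).symm
      have hgcd : Nat.gcd (p ^ e) n = 1 :=
        Nat.Coprime.pow_left e ((Nat.Prime.coprime_iff_not_dvd hp.out).mpr hpn)
      have hb := Nat.gcd_eq_gcd_ab (p ^ e) n
      rw [hgcd] at hb
      have e1 : (b' : G ⧸ L) = (((b' : G ⧸ L) ^ p ^ e) ^ Nat.gcdA (p ^ e) n) *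
          (((b' : G ⧸ L) ^ n) ^ Nat.gcdB (p ^ e) n) := by
        rw [← zpow_natCast, ← zpow_natCast _ n, ← zpow_mul, ← zpow_mul, ← zpow_add, ← hb, Nat.cast_one,
          zpow_one]
      rw [e1]
      exact (h1.zpow_right _).mul_right (h2.zpow_right _)
    have hkv := (Step.mk_comm L v k).mp ((mem_fixC.mp hk).2 v (hmemT v hv hvb))
    have hkq := (hcent q₀).mp (hQ₀c hq₀) k (mem_fixC.mp hk).1
    rw [show (w : G ⧸ L) = (q₀ : G ⧸ L)⁻¹ * (v : G ⧸ L) by rw [hvw, inv_mul_cancel_left]]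
    exact hkq.inv_left.mul_left hkv
  -- assemble
  have haT : ∀ w ∈ T, a' * w * a'⁻¹ ∈ T ⊔ L ∧ a'⁻¹ * w * a' ∈ T ⊔ L := fun w hw =>
    ⟨hTconj a' ha'U ha'Q hc₁ w hw, by
      have := hTconj a'⁻¹ (inv_mem ha'U) (inv_mem ha'Q) ha'inv w hw
      rwa [inv_inv] at this⟩
  have hspec := special hL hidx hTp hTn hfix ha'K hb'K haT
    (fun w hw => (Step.mk_comm L w b').mpr (hTc w hw)) (hCC₁ hc₁) hpn (hCC₁ hb'n)
    (invBy_mono (hTUS.trans hUSS) hθ) hd (invBy_mono hTUS hγ) hγm (hstab a' (Or.inl rfl))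
    (hstab b' (Or.inr rfl))
  have hup : ∀ D : Subgroup G, C ≤ D → D ⊔ Subgroup.zpowers a ⊔ Subgroup.zpowers b =
      D ⊔ Subgroup.zpowers b' ⊔ Subgroup.zpowers a' := fun D hD => by
    calc D ⊔ Subgroup.zpowers a ⊔ Subgroup.zpowers b
        = (D ⊔ C) ⊔ Subgroup.zpowers a ⊔ Subgroup.zpowers b := by rw [sup_eq_left.mpr hD]
      _ = D ⊔ (C ⊔ Subgroup.zpowers a ⊔ Subgroup.zpowers b) := by simp only [sup_assoc]
      _ = D ⊔ (C ⊔ Subgroup.zpowers b' ⊔ Subgroup.zpowers a') := by rw [hgenC]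
      _ = (D ⊔ C) ⊔ Subgroup.zpowers b' ⊔ Subgroup.zpowers a' := by simp only [sup_assoc]
      _ = _ := by rw [sup_eq_left.mpr hD]
  rw [hup K hCle, hspec, ← hup (fixC L K US) hCC₁]
  exact hIH

end Cfsg.Agent.Lib.RelMcKay.TwoGen
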